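import Cfsg.Agent.Lib.TensorMax.Pair.Field

/-!
The block is scalar on its image, or squares to minus one over three elements.
-/

set_option autoImplicit false
set_option linter.unusedSectionVars false
set_option linter.unusedVariables false
set_option linter.unusedSimpArgs false

namespace CfsgLib.TensorMax.Pair

open LinearMap (BilinForm)
open Polynomial (aeval)

variable {F V U W : Type*} [Field F] [AddCommGroup V] [Module F V] [AddCommGroup U] [Module F U]
  [AddCommGroup W] [Module F W]
variable [FiniteDimensional F V] [FiniteDimensional F U] [FiniteDimensional F W]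
variable {B : BilinForm F V} {M : Subgroup (V ≃ₗ[F] V)}

/-- A polynomial all whose irreducible factors divide another divides a power of it. -/
theorem dvd_pow_of_factors {μ p₀ : Polynomial F} (h0 : μ ≠ 0) (hall : ∀ p, Irreducible p → p ∣ μ → p ∣ p₀) :
    ∃ n, μ ∣ p₀ ^ n := by
  induction μ using WfDvdMonoid.induction_on_irreducible with
  | zero => exact absurd rfl h0
  | unit u hu => exact ⟨0, hu.dvd⟩
  | mul a i ha hi ih =>
    obtain ⟨n, hn⟩ := ih ha fun p hp hpa => hall p hp (hpa.trans (dvd_mul_left _ _))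
    exact ⟨n + 1, by rw [pow_succ']; exact mul_dvd_mul (hall i hi (dvd_mul_right _ _)) hn⟩

/-- The lifted map commutes with the product of the two root elements. -/
theorem Mh_comm (G : Module.End F U) (c d : F) (u v : U) :
    Mh G c d (G u, G v) = (G (Mh G c d (u, v)).1, G (Mh G c d (u, v)).2) := by
  simp [Mh_apply, map_add, map_smul]

/-- A root of minus one over three elements makes the product annihilated by a separable polynomial. -/
theorem Mh_quartic [Fintype F] (h3 : Fintype.card F = 3) (G : Module.End F U) {c d : F} (hc : c ≠ 0) (hd : d ≠ 0)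
    {u v : U} (hu : G (G (Mh G c d (Mh G c d (u, v))).1) = -(Mh G c d (Mh G c d (u, v))).1)
    (hv : G (G (Mh G c d (Mh G c d (u, v))).2) = -(Mh G c d (Mh G c d (u, v))).2) :
    aeval (Mh G c d) (((Polynomial.X ^ 2 - Polynomial.C 2 * Polynomial.X + 1) ^ 2 + Polynomial.X ^ 2 : Polynomial F))
      (u, v) = 0 := by
  set S := Mh G c d
  have hcd : (c * d) * (c * d) = 1 := by
    have := FiniteField.pow_card_sub_one_eq_one (c * d) (mul_ne_zero hc hd)
    rwa [h3, pow_two] at this
  set Y : Module.End F (U × U) := aeval S (Polynomial.X ^ 2 - Polynomial.C 2 * Polynomial.X + 1 : Polynomial F)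
  have hY : ∀ u v : U, Y (u, v) = (c * d) • (G (S (u, v)).1, G (S (u, v)).2) := fun u v => by
    rw [← Mh_quad]
    simp [Y, pow_two, Module.End.mul_apply, Module.algebraMap_end_apply]
    rfl
  rw [map_add, map_pow, map_pow, Polynomial.aeval_X, LinearMap.add_apply]
  show (Y ^ 2) (u, v) + _ = 0
  rw [pow_two, Module.End.mul_apply, hY u v, map_smul, hY, smul_smul, hcd, one_smul,
    show S (G (S (u, v)).1, G (S (u, v)).2) = _ from Mh_comm G c d _ _, Prod.mk.eta, hu, hv, pow_two,
    Module.End.mul_apply, ← Prod.neg_mk, Prod.mk.eta, neg_add_cancel]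

/-- The quartic is separable over three elements. -/
theorem separable_quartic [Fintype F] (h3 : Fintype.card F = 3) :
    ((Polynomial.X ^ 2 - Polynomial.C 2 * Polynomial.X + 1) ^ 2 + Polynomial.X ^ 2 : Polynomial F).Separable := by
  have h3' : (3 : F) = 0 := by
    have := Nat.cast_card_eq_zero F
    rw [h3] at this
    exact_mod_cast this
  have h5 : ((5 : ℕ) : F) ≠ 0 := by
    have : ((5 : ℕ) : F) = -1 := by push_cast; linear_combination (2 : F) * h3'
    rw [this]
    exact neg_ne_zero.2 one_ne_zero
  have hs := Polynomial.separable_X_pow_sub_C (n := 5) (-1 : F) h5 (neg_ne_zero.2 one_ne_zero)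
  refine Polynomial.Separable.of_mul_right (f := Polynomial.X + 1) ?_
  convert hs using 1
  have e3 : (3 : Polynomial F) = 0 := by
    rw [← Polynomial.C_ofNat 3, h3', map_zero]
  simp only [Polynomial.C_ofNat, map_neg, map_one]
  linear_combination (-(Polynomial.X ^ 4) + Polynomial.X ^ 3 + Polynomial.X ^ 2 - Polynomial.X) * e3

namespace TBil

variable {h : TBil B U W} {q : W} {C : Module.End F V} (hC : h.Good M q C)

include hC

variable [Fintype F] (hG : h.Gens M) (h2 : (2 : F) ≠ 0) (h3 : 3 ≤ Module.finrank F U) (hno : ¬ h.Non M)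

include hG h2 h3 hno

/-- The block is scalar on its image, or squares to minus one over three elements. -/
theorem Good.U1_cases : (∃ γ : F, γ ≠ 0 ∧ ∀ u ∈ LinearMap.range (h.blk q C), h.blk q C u = γ • u) ∨
    (Fintype.card F = 3 ∧ ∀ u ∈ LinearMap.range (h.blk q C), h.blk q C (h.blk q C u) = -u) := by
  classical
  set G := h.blk q C with hGdef
  set U₁ := LinearMap.range G with hU₁
  refine or_iff_not_imp_left.2 fun hns => ?_
  push Not at hns
  set E : Module.End F U₁ := G.restrict (fun x _ => LinearMap.mem_range_self G x) with hE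
  have hres : ∀ (f : Polynomial F) (x : U₁), ((aeval E f x : U₁) : U) = aeval G f x := fun f => by
    induction f using Polynomial.induction_on' with
    | add σ τ e e' => intro y; simp [e, e']
    | monomial n r =>
      intro y
      rw [Polynomial.aeval_monomial, Polynomial.aeval_monomial, Module.End.mul_apply, Module.End.mul_apply,
        Module.algebraMap_end_apply, Module.algebraMap_end_apply, Submodule.coe_smul, hE, Module.End.pow_restrict]
      rfl
  have hint : IsIntegral F E := Algebra.IsIntegral.isIntegral E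
  set μ := minpoly F E with hμ
  have hμ0 : μ ≠ 0 := minpoly.ne_zero hint
  have hfactor : ∀ p, Irreducible p → p ∣ μ → ∃ x : U₁, x ≠ 0 ∧ aeval E p x = 0 := by
    rintro p hp ⟨ρ, hρ⟩
    have hρ0 : ρ ≠ 0 := fun e => hμ0 (by rw [hρ, e, mul_zero])
    obtain ⟨y, hy⟩ : ∃ y, aeval E ρ y ≠ 0 := by
      by_contra hcon
      push Not at hcon
      have hle := minpoly.degree_le_of_ne_zero F E hρ0 (LinearMap.ext hcon)
      rw [← hμ, hρ, Polynomial.degree_mul] at hle
      have hp' := Polynomial.degree_pos_of_irreducible hp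
      rw [Polynomial.degree_eq_natDegree hρ0, Polynomial.degree_eq_natDegree hp.ne_zero, ← Nat.cast_add,
        Nat.cast_le] at hle
      rw [Polynomial.degree_eq_natDegree hp.ne_zero, Nat.cast_pos] at hp'
      omega
    refine ⟨_, hy, ?_⟩
    rw [← Module.End.mul_apply, ← map_mul, ← hρ, hμ, minpoly.aeval, LinearMap.zero_apply]
  have hEne : ∀ γ : F, E - γ • 1 ≠ 0 := fun γ e => by
    rcases eq_or_ne γ 0 with rfl | hγ
    · refine hC.ne (LinearMap.ext fun u => hC.blk_inj (LinearMap.mem_range_self _ u) ?_)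
      have := congrArg Subtype.val (LinearMap.congr_fun e ⟨G u, LinearMap.mem_range_self _ u⟩)
      simpa [hE] using this
    · obtain ⟨u, hu, hne⟩ := hns γ hγ
      exact hne (sub_eq_zero.1 (by simpa [hE] using congrArg Subtype.val (LinearMap.congr_fun e ⟨u, hu⟩)))
  obtain ⟨p, hchar⟩ := CharP.exists F
  haveI : Fact p.Prime := ⟨CharP.char_is_prime F p⟩
  haveI : Nontrivial U₁ := ⟨by
    obtain ⟨u, hu⟩ : ∃ u, G u ≠ 0 := by
      by_contra e; push Not at e; exact hC.ne (LinearMap.ext e)
    exact ⟨⟨G u, LinearMap.mem_range_self _ u⟩, 0, fun e => hu (congrArg Subtype.val e)⟩⟩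
  haveI : CharP (Module.End F U₁) p := charP_of_injective_algebraMap (algebraMap F _).injective p
  -- nilpotency against a Frobenius power
  have hfrob : ∀ (p₀ : Polynomial F), (∀ r, Irreducible r → r ∣ μ → r ∣ p₀) → aeval E p₀ ≠ 0 → ∀ c d : F, c ≠ 0 →
      d ≠ 0 → ∀ N : ℕ, (N : F) ≠ 0 → ∃ x ∈ U₁.prod U₁, (Mh G c d ^ N) x ≠ x := by
    intro p₀ hp₀ hne c d hc hd N hN
    by_contra hcon
    push Not at hcon
    obtain ⟨Q, hQ1, hQr, ⟨p', j, hp', hc', rfl⟩, hQ⟩ := hC.frob_of_fix hc hd hN hcon
    obtain rfl : p' = p := CharP.eq F hc' hchar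
    have hEQ : E ^ p' ^ j = E := LinearMap.ext fun x => Subtype.ext (by
      rw [hE, Module.End.pow_restrict]; exact hQ x x.2)
    have hcl : ∀ f : Polynomial F, (aeval E f) ^ p' ^ j = aeval E f := fun f => by
      induction f using Polynomial.induction_on' with
      | add σ τ e e' => rw [map_add, add_pow_char_pow_of_commute _ _ ((Commute.all σ τ).map (aeval E)), e, e']
      | monomial n r =>
        rw [Polynomial.aeval_monomial, (show Commute _ _ from Algebra.commutes r _).mul_pow, ← map_pow, hQr, ← pow_mul,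
          mul_comm n, pow_mul, hEQ]
    have hfix : (aeval E p₀) ^ p' ^ j = aeval E p₀ := hcl p₀
    obtain ⟨n, hn⟩ := dvd_pow_of_factors hμ0 hp₀
    have hnil : (aeval E p₀) ^ n = 0 := by
      obtain ⟨ρ, hρ⟩ := hn
      rw [← map_pow, hρ, map_mul, hμ, minpoly.aeval, zero_mul]
    have hpow : ∀ k, (aeval E p₀) ^ ((p' ^ j) ^ k) = aeval E p₀ := fun k => by
      induction k with
      | zero => simp
      | succ k ih => rw [pow_succ, pow_mul, ih, hfix]
    refine hne ((hpow n).symm.trans ?_)
    obtain ⟨m, hm⟩ := Nat.exists_eq_add_of_le (Nat.lt_pow_self hQ1 (n := n)).le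
    rw [hm, pow_add, hnil, zero_mul]
  by_cases hlin : ∃ γ₂ : F, ∃ x : U₁, x ≠ 0 ∧ G (x : U) = γ₂ • (x : U)
  · obtain ⟨γ₂, x₂, hx₂, e₂⟩ := hlin
    have hγ₂ : γ₂ ≠ 0 := fun e => hx₂ (Subtype.ext (hC.blk_inj x₂.2 (by rw [e₂, e, zero_smul])))
    set T : Submodule F U := U₁ ⊓ LinearMap.ker (G - γ₂ • 1) with hT
    have hmemT : ∀ x ∈ T, G x = γ₂ • x := fun x hx => sub_eq_zero.1 (by simpa using hx.2)
    have hTG : ∀ x ∈ T, G x ∈ T := fun x hx => by rw [hmemT x hx]; exact T.smul_mem _ hx
    have hT0 : T ≠ ⊥ := fun e => hx₂ (Subtype.ext ((Submodule.mem_bot F).1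
      (e ▸ ⟨x₂.2, by simp [e₂]⟩ : (x₂ : U) ∈ (⊥ : Submodule F U))))
    have hσ : ∀ d : F, ∀ y ∈ T.prod T, aeval (Mh G 1 d)
        (Polynomial.X ^ 2 - Polynomial.C (2 + d * γ₂) * Polynomial.X + 1 : Polynomial F) y = 0 := fun d y hy => by
      obtain ⟨u, v⟩ := y
      have hm := Mh_mapsTo hTG 1 d _ hy
      have e := Mh_quad G 1 d u v
      rw [hmemT _ hm.1, hmemT _ hm.2, one_mul, ← Prod.smul_mk, Prod.mk.eta, smul_smul] at e
      simp [pow_two, Module.End.mul_apply, Module.algebraMap_end_apply]
      linear_combination (norm := module) e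
    by_cases hother : ∃ γ₁ : F, γ₁ ≠ γ₂ ∧ ∃ x : U₁, x ≠ 0 ∧ G (x : U) = γ₁ • (x : U)
    · obtain ⟨γ₁, hne, x₁, hx₁, e₁⟩ := hother
      have hγ₁ : γ₁ ≠ 0 := fun e => hx₁ (Subtype.ext (hC.blk_inj x₁.2 (by rw [e₁, e, zero_smul])))
      exfalso
      obtain ⟨d, hd⟩ : ∃ d : F, d = -4 / γ₁ := ⟨_, rfl⟩
      have h4 : (4 : F) ≠ 0 := fun e => mul_ne_zero h2 h2 (by linear_combination e)
      have hd0 : d ≠ 0 := hd ▸ div_ne_zero (neg_ne_zero.2 h4) hγ₁
      have hdγ : d * γ₁ = -4 := hd ▸ div_mul_cancel₀ _ hγ₁
      refine hC.sep_false hG h2 h3 hno T inf_le_left hTG hT0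
        (separable_quad h2 (t := 2 + d * γ₂) (fun e => ?_) (fun e => ?_)) (hσ d) fun N hN => ?_
      · exact mul_ne_zero hd0 hγ₂ (by linear_combination e)
      · refine hne (mul_left_cancel₀ hd0 ?_)
        rw [hdγ]; linear_combination -e
      · refine ⟨((x₁ : U), 0), ⟨x₁.2, zero_mem _⟩, moved_of_neg _ h2 ?_ ?_ hN⟩
        · simp only [Mh_apply, Prod.mk_add_mk, map_add, map_smul, map_zero, zero_add, ← hGdef, e₁, one_smul, add_zero,
            smul_add, smul_smul, Prod.neg_mk, Prod.mk.injEq]
          constructor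
          · match_scalars
            linear_combination (1 + d * γ₁) * hdγ
          · match_scalars
            linear_combination d * hdγ
        · intro e
          have := congrArg Prod.snd e
          simp [Mh_apply] at this
          exact this.elim hd0 hx₁
    · push Not at hother
      by_cases hquad : ∃ r, Irreducible r ∧ r ∣ μ ∧ r.natDegree ≠ 1
      · obtain ⟨r, hr, hrμ, hrd⟩ := hquad
        obtain ⟨x, hx, hxr⟩ := hfactor r hr hrμ
        have hlc := mul_ne_zero hr.ne_zero (mul_ne_zero (one_ne_zero (α := Polynomial F)) hr.ne_zero)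
        set r' := r * Polynomial.C r.leadingCoeff⁻¹ with hr'
        have hmon : r'.Monic := Polynomial.monic_mul_leadingCoeff_inv hr.ne_zero
        have hassoc : Associated r r' := associated_mul_unit_right _ _ (Polynomial.isUnit_C.2
          (inv_ne_zero (Polynomial.leadingCoeff_ne_zero.2 hr.ne_zero)).isUnit)
        have hdeg : 2 ≤ r'.natDegree := by
          rw [Polynomial.natDegree_mul_leadingCoeff_inv _ hr.ne_zero]
          have := hr.natDegree_pos
          omega
        have hxr' : aeval G r' (x : U) = 0 := by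
          rw [← hres, hr', mul_comm, map_mul, Module.End.mul_apply, hxr, map_zero, Submodule.coe_zero]
        obtain ⟨h3F, hsq⟩ := hC.field_false hG h2 h3 hno hmon (hassoc.irreducible hr) hdeg x.2
          (fun e => hx (Subtype.ext e)) hxr'
        exfalso
        have h3' : (3 : F) = 0 := by
          have := Nat.cast_card_eq_zero F
          rw [h3F] at this
          exact_mod_cast this
        obtain ⟨d, hd⟩ : ∃ d : F, d = -4 / γ₂ := ⟨_, rfl⟩
        have h4 : (4 : F) ≠ 0 := fun e => mul_ne_zero h2 h2 (by linear_combination e)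
        have hd0 : d ≠ 0 := hd ▸ div_ne_zero (neg_ne_zero.2 h4) hγ₂
        have hdγ : d * γ₂ = -4 := hd ▸ div_mul_cancel₀ _ hγ₂
        set T' : Submodule F U := U₁ ⊓ LinearMap.ker (G * G + 1) with hT'
        have hsqT : ∀ y ∈ T', G (G y) = -y := fun y hy => eq_neg_of_add_eq_zero_left (by simpa using hy.2)
        have hTG' : ∀ y ∈ T', G y ∈ T' := fun y hy => ⟨LinearMap.mem_range_self _ y, LinearMap.mem_ker.2 (by
          simp [hsqT y hy])⟩
        refine hC.sep_false hG h2 h3 hno T' inf_le_left hTG' ?_ (separable_quartic h3F) (c := 1) (d := d)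
          (fun y hy => ?_) fun N hN => ?_
        · exact fun e => hx (Subtype.ext ((Submodule.mem_bot F).1
            (e ▸ ⟨x.2, LinearMap.mem_ker.2 (show G (G (x : U)) + (x : U) = 0 by rw [show G (G (x : U)) = -(x : U) from hsq x x.2 hxr', neg_add_cancel])⟩ : (x : U) ∈ (⊥ : Submodule F U))))
        · obtain ⟨u, v⟩ := y
          have hm := Mh_mapsTo hTG' 1 d _ (Mh_mapsTo hTG' 1 d _ hy)
          exact Mh_quartic h3F G one_ne_zero hd0 (hsqT _ hm.1) (hsqT _ hm.2)
        · refine ⟨((x₂ : U), 0), ⟨x₂.2, zero_mem _⟩, moved_of_neg _ h2 ?_ ?_ hN⟩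
          · simp only [Mh_apply, Prod.mk_add_mk, map_add, map_smul, map_zero, zero_add, ← hGdef, e₂, one_smul, add_zero,
              smul_add, smul_smul, Prod.neg_mk, Prod.mk.injEq]
            constructor
            · match_scalars
              linear_combination (1 + d * γ₂) * hdγ
            · match_scalars
              linear_combination d * hdγ
          · intro e
            have := congrArg Prod.snd e
            simp [Mh_apply] at this
            exact this.elim hd0 hx₂
      · push Not at hquad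
        exfalso
        set d : F := -2 / γ₂ with hd
        have hd0 : d ≠ 0 := div_ne_zero (neg_ne_zero.2 h2) hγ₂
        have hdγ : d * γ₂ = -2 := div_mul_cancel₀ _ hγ₂
        refine hC.sep_false hG h2 h3 hno T inf_le_left hTG hT0
          (separable_quad h2 (t := 2 + d * γ₂) (fun e => ?_) (fun e => ?_)) (hσ d)
          (hfrob (Polynomial.X - Polynomial.C γ₂) (fun r hr hrμ => ?_) ?_ 1 d one_ne_zero hd0)
        · exact mul_ne_zero hd0 hγ₂ (by linear_combination e)
        · exact h2 (by linear_combination e - hdγ)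
        · obtain ⟨γ, hγ⟩ := Polynomial.exists_root_of_degree_eq_one
            ((Polynomial.degree_eq_iff_natDegree_eq hr.ne_zero).2 (hquad r hr hrμ))
          obtain ⟨x, hx, hxr⟩ := hfactor r hr hrμ
          obtain ⟨k, hk⟩ := Polynomial.dvd_iff_isRoot.2 hγ
          have hk0 : IsUnit k := ((hr.isUnit_or_isUnit hk).resolve_left (Polynomial.not_isUnit_X_sub_C γ))
          have hxe : aeval E (Polynomial.X - Polynomial.C γ) x = 0 := by
            obtain ⟨k, rfl⟩ := hk0
            rw [show (Polynomial.X - Polynomial.C γ : Polynomial F) = (↑k⁻¹ : Polynomial F) * r by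
              rw [hk, mul_left_comm, Units.inv_mul, mul_one], map_mul, Module.End.mul_apply, hxr, map_zero]
          have hGx : G (x : U) = γ • (x : U) := by
            have := congrArg Subtype.val hxe
            simp [hE] at this
            exact sub_eq_zero.1 this
          by_cases hγe : γ = γ₂
          · exact ⟨(↑hk0.unit⁻¹ : Polynomial F), by rw [hk, hγe, mul_assoc, IsUnit.mul_val_inv, mul_one]⟩
          · exact absurd hGx (hother γ hγe x hx)
        · rw [map_sub, Polynomial.aeval_X, Polynomial.aeval_C, Algebra.algebraMap_eq_smul_one]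
          exact hEne γ₂
  · push Not at hlin
    -- every irreducible factor has degree at least two
    have hall : ∀ r, Irreducible r → r ∣ μ → Fintype.card F = 3 ∧ r ∣ (Polynomial.X ^ 2 + 1 : Polynomial F) := by
      intro r hr hrμ
      obtain ⟨x, hx, hxr⟩ := hfactor r hr hrμ
      have hrd : r.natDegree ≠ 1 := fun e => by
        obtain ⟨γ, hγ⟩ := Polynomial.exists_root_of_degree_eq_one
          ((Polynomial.degree_eq_iff_natDegree_eq hr.ne_zero).2 e)
        obtain ⟨k, hk⟩ := Polynomial.dvd_iff_isRoot.2 hγ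
        obtain ⟨k, rfl⟩ := (hr.isUnit_or_isUnit hk).resolve_left (Polynomial.not_isUnit_X_sub_C γ)
        have hxe : aeval E (Polynomial.X - Polynomial.C γ) x = 0 := by
          rw [show (Polynomial.X - Polynomial.C γ : Polynomial F) = (↑k⁻¹ : Polynomial F) * r by
            rw [hk, mul_left_comm, Units.inv_mul, mul_one], map_mul, Module.End.mul_apply, hxr, map_zero]
        have := congrArg Subtype.val hxe
        simp [hE] at this
        exact hlin γ x hx (sub_eq_zero.1 this)
      set r' := r * Polynomial.C r.leadingCoeff⁻¹ with hr'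
      have hmon : r'.Monic := Polynomial.monic_mul_leadingCoeff_inv hr.ne_zero
      have hassoc : Associated r r' := associated_mul_unit_right _ _ (Polynomial.isUnit_C.2
        (inv_ne_zero (Polynomial.leadingCoeff_ne_zero.2 hr.ne_zero)).isUnit)
      have hdeg : 2 ≤ r'.natDegree := by
        rw [Polynomial.natDegree_mul_leadingCoeff_inv _ hr.ne_zero]
        have := hr.natDegree_pos
        omega
      have hxr' : aeval G r' (x : U) = 0 := by
        rw [← hres, hr', mul_comm, map_mul, Module.End.mul_apply, hxr, map_zero, Submodule.coe_zero]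
      obtain ⟨h3F, hsq⟩ := hC.field_false hG h2 h3 hno hmon (hassoc.irreducible hr) hdeg x.2
        (fun e => hx (Subtype.ext e)) hxr'
      refine ⟨h3F, by_contra fun hndvd => ?_⟩
      obtain ⟨a, b, e⟩ := hr.coprime_iff_not_dvd.2 hndvd
      refine hx ?_
      have := congrArg (fun f => aeval E f x) e
      simp only [map_add, map_mul, LinearMap.add_apply, Module.End.mul_apply, hxr, map_zero, zero_add, map_one,
        Module.End.one_apply] at this
      rw [← this, ← map_add, show (aeval E) (Polynomial.X ^ 2 : Polynomial F) x + x = 0 from Subtype.ext (by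
        simp [hE, pow_two]
        rw [show G (G (x : U)) = -(x : U) from hsq x x.2 hxr', neg_add_cancel]), map_zero]
    obtain ⟨r, hr, hrμ⟩ := WfDvdMonoid.exists_irreducible_factor (minpoly.not_isUnit F E) hμ0
    obtain ⟨h3F, -⟩ := hall r hr hrμ
    refine ⟨h3F, ?_⟩
    by_contra hne
    obtain ⟨x, hx, hxr⟩ := hfactor r hr hrμ
    obtain ⟨k, hk⟩ := (hall r hr hrμ).2
    set T' : Submodule F U := U₁ ⊓ LinearMap.ker (G * G + 1) with hT'
    have hsqT : ∀ y ∈ T', G (G y) = -y := fun y hy => eq_neg_of_add_eq_zero_left (by simpa using hy.2)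
    have hTG' : ∀ y ∈ T', G y ∈ T' := fun y hy => ⟨LinearMap.mem_range_self _ y, LinearMap.mem_ker.2 (by
      simp [hsqT y hy])⟩
    refine hC.sep_false hG h2 h3 hno T' inf_le_left hTG' ?_ (separable_quartic h3F) (c := 1) (d := 1)
      (fun y hy => ?_) (hfrob (Polynomial.X ^ 2 + 1) (fun r hr hrμ => (hall r hr hrμ).2) ?_ 1 1 one_ne_zero one_ne_zero)
    · intro e
      have hx2 : aeval E (Polynomial.X ^ 2 + 1 : Polynomial F) x = 0 := by
        rw [hk, mul_comm, map_mul, Module.End.mul_apply, hxr, map_zero]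
      have := congrArg Subtype.val hx2
      exact hx (Subtype.ext ((Submodule.mem_bot F).1
        (e ▸ ⟨x.2, by simpa [hE, pow_two] using this⟩ : (x : U) ∈ (⊥ : Submodule F U))))
    · obtain ⟨u, v⟩ := y
      have hm := Mh_mapsTo hTG' 1 1 _ (Mh_mapsTo hTG' 1 1 _ hy)
      exact Mh_quartic h3F G one_ne_zero one_ne_zero (hsqT _ hm.1) (hsqT _ hm.2)
    · intro e
      refine hne fun u hu => ?_
      have := congrArg Subtype.val (LinearMap.congr_fun e ⟨u, hu⟩)
      simp [hE, pow_two] at this
      exact eq_neg_of_add_eq_zero_left this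

end TBil

end CfsgLib.TensorMax.Pair
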