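import Mathlib

/-!
An alternating space as a tensor product of a symmetric and an alternating space, and groups containing both
isometry groups of the factors.
-/

set_option autoImplicit false
set_option linter.unusedSectionVars false
set_option linter.unusedVariables false
set_option linter.unusedSimpArgs false

namespace CfsgLib.TensorMax.Pair

open LinearMap (BilinForm)

variable {F V U W : Type*} [Field F] [AddCommGroup V] [Module F V] [AddCommGroup U] [Module F U]
  [AddCommGroup W] [Module F W]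
variable [FiniteDimensional F V] [FiniteDimensional F U] [FiniteDimensional F W]

/-- The alternating form is the product of a symmetric and an alternating form. -/
structure TBil (B : BilinForm F V) (U W : Type*) [AddCommGroup U] [Module F U] [AddCommGroup W] [Module F W] where
  /-- Pure tensors. -/
  tp : U →ₗ[F] W →ₗ[F] V
  /-- The symmetric form. -/
  fU : BilinForm F U
  /-- The alternating form. -/
  gW : BilinForm F W
  bAlt : B.IsAlt
  bnd : B.Nondegenerate
  fSym : ∀ u x, fU u x = fU x u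
  gAlt : gW.IsAlt
  fnd : fU.Nondegenerate
  gnd : gW.Nondegenerate
  pol : ∀ u u' w w', B (tp u w) (tp u' w') = fU u u' * gW w w'
  sep : ∀ T, (∀ u w, B (tp u w) T = 0) → T = 0

variable {B : BilinForm F V}

namespace TBil

variable (h : TBil B U W)

include h in
theorem b_swap (S T : V) : B S T = - B T S := (BilinForm.IsAlt.neg_eq h.bAlt T S).symm

theorem g_self (w : W) : h.gW w w = 0 := h.gAlt w

theorem g_swap (u x : W) : h.gW u x = - h.gW x u := (BilinForm.IsAlt.neg_eq h.gAlt x u).symm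

theorem g_swap_zero {u x : W} (e : h.gW u x = 0) : h.gW x u = 0 := by rw [h.g_swap, e, neg_zero]

theorem flip_nd : h.fU.flip.Nondegenerate := LinearMap.flip_nondegenerate.2 h.fnd

/-- Contraction with a vector of the second factor. -/
noncomputable def c : W →ₗ[F] V →ₗ[F] U :=
  LinearMap.mk₂ F (fun w T => (h.fU.flip.toDual h.flip_nd).symm ((B.flip T) ∘ₗ h.tp.flip w))
    (fun w w' T => by rw [map_add, LinearMap.comp_add, map_add])
    (fun s w T => by rw [map_smul, LinearMap.comp_smul, map_smul])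
    (fun w T T' => by rw [map_add, LinearMap.add_comp, map_add])
    (fun s w T => by rw [map_smul, LinearMap.smul_comp, map_smul])

theorem pol_c (u : U) (w : W) (T : V) : h.fU u (h.c w T) = B (h.tp u w) T := by
  simp only [c, LinearMap.mk₂_apply]
  show h.fU.flip _ u = _
  rw [BilinForm.apply_toDual_symm_apply, LinearMap.comp_apply, LinearMap.flip_apply]
  rfl

theorem pol_c' (u : U) (w : W) (T : V) : B T (h.tp u w) = - h.fU u (h.c w T) := by rw [h.pol_c, ← h.b_swap]

theorem ext_f {x y : U} (e : ∀ u, h.fU u x = h.fU u y) : x = y :=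
  sub_eq_zero.1 (h.fnd.2 (x - y) fun u => by rw [map_sub, e u, sub_self])

@[simp] theorem c_tp (u : U) (w w' : W) : h.c w (h.tp u w') = h.gW w w' • u :=
  h.ext_f fun x => by rw [h.pol_c, h.pol, map_smul, smul_eq_mul, mul_comm]

theorem eq_zero_of_c {T : V} (e : ∀ w, h.c w T = 0) : T = 0 :=
  h.sep T fun u w => by rw [← h.pol_c, e, map_zero]

theorem exists_g_one {w : W} (hw : w ≠ 0) : ∃ x, h.gW x w = 1 := by
  obtain ⟨x, hx⟩ : ∃ x, h.gW x w ≠ 0 := by
    by_contra e
    push Not at e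
    exact hw (h.gnd.2 w e)
  exact ⟨(h.gW x w)⁻¹ • x, by rw [map_smul, LinearMap.smul_apply, smul_eq_mul, inv_mul_cancel₀ hx]⟩

theorem mem_span_of_perp {w v : W} (e : ∀ x, h.gW x w = 0 → h.gW x v = 0) : v ∈ Submodule.span F {w} := by
  by_cases hw : w = 0
  · subst hw
    rw [h.gnd.2 v fun x => e x (by rw [map_zero])]
    exact zero_mem _
  obtain ⟨x₀, hx₀⟩ := h.exists_g_one hw
  refine Submodule.mem_span_singleton.2 ⟨h.gW x₀ v, (sub_eq_zero.1 (h.gnd.2 _ fun x => ?_)).symm⟩
  have h1 := e (x - h.gW x w • x₀) (by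
    rw [map_sub, map_smul, LinearMap.sub_apply, LinearMap.smul_apply, hx₀, smul_eq_mul, mul_one, sub_self])
  rw [map_sub, map_smul, LinearMap.sub_apply, LinearMap.smul_apply, smul_eq_mul] at h1
  rw [map_sub, map_smul, smul_eq_mul]
  linear_combination h1

theorem exists_perp_one {w v : W} (hv : v ∉ Submodule.span F {w}) : ∃ x, h.gW x w = 0 ∧ h.gW x v = 1 := by
  obtain ⟨x, hxw, hxv⟩ : ∃ x, h.gW x w = 0 ∧ h.gW x v ≠ 0 := by
    by_contra e
    push Not at e
    exact hv (h.mem_span_of_perp e)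
  exact ⟨(h.gW x v)⁻¹ • x, by rw [map_smul, LinearMap.smul_apply, hxw, smul_zero],
    by rw [map_smul, LinearMap.smul_apply, smul_eq_mul, inv_mul_cancel₀ hxv]⟩

theorem exists_common {w a b : W} (ha : a ∉ Submodule.span F {w}) (hb : b ∉ Submodule.span F {w}) :
    ∃ x, h.gW x w = 0 ∧ h.gW x a ≠ 0 ∧ h.gW x b ≠ 0 := by
  obtain ⟨x, hx, hxa⟩ := h.exists_perp_one ha
  obtain ⟨y, hy, hyb⟩ := h.exists_perp_one hb
  by_cases h1 : h.gW x b = 0
  · by_cases h2 : h.gW y a = 0
    · exact ⟨x + y, by rw [map_add, LinearMap.add_apply, hx, hy, add_zero],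
        by rw [map_add, LinearMap.add_apply, hxa, h2, add_zero]; exact one_ne_zero,
        by rw [map_add, LinearMap.add_apply, h1, hyb, zero_add]; exact one_ne_zero⟩
    · exact ⟨y, hy, h2, by rw [hyb]; exact one_ne_zero⟩
  · exact ⟨x, hx, by rw [hxa]; exact one_ne_zero, h1⟩

theorem tp_ne_zero {u : U} {w : W} (hu : u ≠ 0) (hw : w ≠ 0) : h.tp u w ≠ 0 := fun e => by
  obtain ⟨x, hx⟩ := h.exists_g_one hw
  have := h.c_tp u x w
  rw [e, map_zero, hx, one_smul] at this
  exact hu this.symm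

/-- The pure tensors with a given second factor. -/
def A (w : W) : Submodule F V := LinearMap.range (h.tp.flip w)

theorem mem_A {w : W} {T : V} : T ∈ h.A w ↔ ∃ u, h.tp u w = T := Iff.rfl

theorem tp_mem_A (u : U) (w : W) : h.tp u w ∈ h.A w := ⟨u, rfl⟩

theorem c_A {w v : W} {T : V} (hwv : h.gW v w = 0) (hT : T ∈ h.A w) : h.c v T = 0 := by
  obtain ⟨u, rfl⟩ := hT
  rw [LinearMap.flip_apply, h.c_tp, hwv, zero_smul]

theorem tp_injective {w : W} (hw : w ≠ 0) : Function.Injective (h.tp.flip w) :=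
  (injective_iff_map_eq_zero _).2 fun u e => by_contra fun hu => h.tp_ne_zero hu hw e

theorem finrank_A {w : W} (hw : w ≠ 0) : Module.finrank F (h.A w) = Module.finrank F U :=
  LinearMap.finrank_range_of_inj (h.tp_injective hw)

theorem tp_mem_A_iff {w v : W} {u : U} (hu : u ≠ 0) (hm : h.tp u v ∈ h.A w) : v ∈ Submodule.span F {w} := by
  refine h.mem_span_of_perp fun x hx => ?_
  have := h.c_A hx hm
  rw [h.c_tp, smul_eq_zero] at this
  exact this.resolve_right hu

theorem mem_A_of_c {w : W} (hw : w ≠ 0) {T : V} (e : ∀ x, h.gW x w = 0 → h.c x T = 0) : T ∈ h.A w := by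
  obtain ⟨x₀, hx₀⟩ := h.exists_g_one hw
  refine ⟨h.c x₀ T, (sub_eq_zero.1 (h.eq_zero_of_c fun x => ?_)).symm⟩
  have h1 := e (x - h.gW x w • x₀) (by
    rw [map_sub, map_smul, LinearMap.sub_apply, LinearMap.smul_apply, hx₀, smul_eq_mul, mul_one, sub_self])
  rw [map_sub, map_smul, LinearMap.sub_apply, LinearMap.smul_apply] at h1
  rw [map_sub, LinearMap.flip_apply, h.c_tp]
  exact h1

include h in
/-- Double orthogonal. -/
theorem perp_perp (S : Submodule F V) {T : V} (hT : ∀ R, (∀ s ∈ S, B s R = 0) → B T R = 0) : T ∈ S := by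
  rw [← BilinForm.orthogonal_orthogonal h.bnd h.bAlt.isRefl S, BilinForm.mem_orthogonal_iff]
  intro R hR
  show B R T = 0
  rw [h.b_swap, hT R (fun s hs => hR s hs), neg_zero]

/-- The pure tensors span. -/
theorem span_tp : Submodule.span F {S | ∃ u v, h.tp u v = S} = ⊤ :=
  eq_top_iff.2 fun T _ => h.perp_perp _ fun R hR => by
    rw [h.sep R fun u w => hR _ (Submodule.subset_span ⟨u, w, rfl⟩), map_zero]

theorem ext_tp {X : Type*} [AddCommGroup X] [Module F X] {φ ψ : V →ₗ[F] X}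
    (e : ∀ u v, φ (h.tp u v) = ψ (h.tp u v)) : φ = ψ :=
  LinearMap.ext_on h.span_tp (by rintro _ ⟨u, v, rfl⟩; exact e u v)

/-- The vectors orthogonal to `A w` are spanned by the pure tensors orthogonal to it. -/
theorem mem_span_perp {w : W} (hw : w ≠ 0) {T : V} (hT : h.c w T = 0) :
    T ∈ Submodule.span F {S | ∃ u v, h.gW v w = 0 ∧ h.tp u v = S} := by
  refine h.perp_perp _ fun R hR => ?_
  have hA : R ∈ h.A w := h.mem_A_of_c hw fun x hx => h.ext_f fun u => by
    rw [h.pol_c, map_zero]; exact hR _ (Submodule.subset_span ⟨u, x, hx, rfl⟩)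
  obtain ⟨u, rfl⟩ := hA
  rw [LinearMap.flip_apply, h.pol_c', hT, map_zero, neg_zero]

/-- A map killing the pure tensors orthogonal to `A w` kills that whole orthogonal. -/
theorem map_eq_zero_of_tp {X : Type*} [AddCommGroup X] [Module F X]
    (φ : V →ₗ[F] X) {w : W} (hw : w ≠ 0) (e : ∀ u v, h.gW v w = 0 → φ (h.tp u v) = 0) {T : V}
    (hT : h.c w T = 0) : φ T = 0 :=
  (Submodule.span_le (p := LinearMap.ker φ)).2 (by rintro _ ⟨u, v, hv, rfl⟩; exact e u v hv)
    (h.mem_span_perp hw hT)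

/-- The basic endomorphisms. -/
noncomputable def P (a b : W) (D : Module.End F U) : Module.End F V := h.tp.flip a ∘ₗ D ∘ₗ h.c b

theorem P_apply (a b : W) (D : Module.End F U) (T : V) : h.P a b D T = h.tp (D (h.c b T)) a := rfl

theorem P_mul (a b a' b' : W) (D D' : Module.End F U) :
    h.P a b D * h.P a' b' D' = h.gW b a' • h.P a b' (D * D') := LinearMap.ext fun T => by
  simp [P_apply, Module.End.mul_apply]

theorem P_mul_zero {b a' : W} (e : h.gW b a' = 0) (a b' : W) (D D' : Module.End F U) :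
    h.P a b D * h.P a' b' D' = 0 := by rw [P_mul, e, zero_smul]

theorem P_add (a b : W) (D D' : Module.End F U) : h.P a b (D + D') = h.P a b D + h.P a b D' :=
  LinearMap.ext fun T => by simp [P_apply]

theorem P_smul (a b : W) (s : F) (D : Module.End F U) : h.P a b (s • D) = s • h.P a b D :=
  LinearMap.ext fun T => by simp [P_apply]

theorem P_neg (a b : W) (D : Module.End F U) : h.P a b (-D) = - h.P a b D :=
  LinearMap.ext fun T => by simp [P_apply]

/-- A rank one endomorphism of the first factor. -/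
def rk (x r : U) : Module.End F U := (h.fU r).smulRight x

theorem rk_apply (x r u : U) : h.rk x r u = h.fU r u • x := rfl

/-- The element attached to an orthogonal pair of the second factor. -/
noncomputable def N (w a : W) : Module.End F V := h.P w a 1 + h.P a w 1

theorem N_smul (w a : W) (s : F) : h.N w (s • a) = s • h.N w a :=
  LinearMap.ext fun T => by simp [N, P_apply]

end TBil

/-- `M` has an element of the shape `1 + X`. -/
def In (M : Subgroup (V ≃ₗ[F] V)) (X : Module.End F V) : Prop := ∃ g ∈ M, ∀ T, g T = T + X T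

variable {M : Subgroup (V ≃ₗ[F] V)}

theorem In.zero (M : Subgroup (V ≃ₗ[F] V)) : In M (0 : Module.End F V) :=
  ⟨1, one_mem M, fun T => by simp⟩

theorem In.mul {X Y : Module.End F V} (hX : In M X) (hY : In M Y) : In M (X + Y + X * Y) := by
  obtain ⟨g, hg, eg⟩ := hX
  obtain ⟨k, hk, ek⟩ := hY
  refine ⟨g * k, mul_mem hg hk, fun T => ?_⟩
  rw [LinearEquiv.mul_apply, eg, ek, map_add]
  simp only [LinearMap.add_apply, Module.End.mul_apply]
  abel

theorem In.add {X Y : Module.End F V} (hX : In M X) (hY : In M Y) (e : X * Y = 0) : In M (X + Y) := by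
  simpa [e] using hX.mul hY

theorem In.neg {X : Module.End F V} (hX : In M X) (e : X * X = 0) : In M (-X) := by
  obtain ⟨g, hg, eg⟩ := hX
  refine ⟨g⁻¹, inv_mem hg, fun T => g.injective ?_⟩
  rw [show g (g⁻¹ T) = T from g.apply_symm_apply T, eg, LinearMap.neg_apply, map_add, map_neg,
    show X (X T) = 0 from LinearMap.congr_fun e T]
  abel

theorem In.conj {X Y : Module.End F V} (hX : In M X) {k : V ≃ₗ[F] V} (hk : k ∈ M)
    (e : ∀ T, k (X T) = Y (k T)) : In M Y := by
  obtain ⟨g, hg, eg⟩ := hX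
  refine ⟨k * g * k⁻¹, mul_mem (mul_mem hk hg) (inv_mem hk), fun T => ?_⟩
  obtain ⟨S, rfl⟩ := k.surjective T
  show k (g (k.symm (k S))) = _
  rw [k.symm_apply_apply, eg, map_add, e]

theorem In.comm {X Y : Module.End F V} (hX : In M X) (hY : In M Y) (hXX : X * X = 0) (hYY : Y * Y = 0)
    (h1 : X * Y * X = 0) (h2 : (X * Y - Y * X) * Y = 0) : In M (X * Y - Y * X) := by
  obtain ⟨g, hg, eg⟩ := ((hX.mul hY).mul (hX.neg hXX)).mul (hY.neg hYY)
  refine ⟨g, hg, fun T => (eg T).trans ?_⟩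
  congr 1
  refine LinearMap.congr_fun ?_ T
  have h1' : X * (Y * X) = 0 := by rw [← mul_assoc]; exact h1
  simp only [add_mul, mul_add, mul_neg, neg_mul, sub_mul, mul_assoc, hXX, hYY, h1', mul_zero, zero_mul,
    add_zero, zero_add, neg_zero, neg_neg] at h2 ⊢
  linear_combination (norm := abel) (-1 : ℤ) • h2

theorem In.div {A X Z : Module.End F V} (hA : In M A) (hX : In M X) (e : Z + X + Z * X = A) : In M Z := by
  obtain ⟨a, ha, ea⟩ := hA
  obtain ⟨x, hx, ex⟩ := hX
  refine ⟨a * x⁻¹, mul_mem ha (inv_mem hx), fun T => ?_⟩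
  obtain ⟨S, rfl⟩ := x.surjective T
  show a (x.symm (x S)) = _
  rw [x.symm_apply_apply, ea, ← e, ex, map_add]
  simp only [LinearMap.add_apply, Module.End.mul_apply]
  abel

namespace TBil

variable (h : TBil B U W)

/-- The group preserves the form and contains the isometries of both factors. -/
structure Gens (M : Subgroup (V ≃ₗ[F] V)) : Prop where
  le : ∀ k ∈ M, ∀ S T, B (k S) (k T) = B S T
  isoU : ∀ γ : U ≃ₗ[F] U, (∀ u x, h.fU (γ u) (γ x) = h.fU u x) → ∃ k ∈ M, ∀ u w, k (h.tp u w) = h.tp (γ u) w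
  isoW : ∀ ρ : W ≃ₗ[F] W, (∀ u x, h.gW (ρ u) (ρ x) = h.gW u x) → ∃ k ∈ M, ∀ u w, k (h.tp u w) = h.tp u (ρ w)

/-- A symplectic transvection of the second factor. -/
def tvW (w : W) (s : F) : W ≃ₗ[F] W :=
  LinearEquiv.ofLinear (1 + s • (h.gW w).smulRight w) (1 + (-s) • (h.gW w).smulRight w)
    (LinearMap.ext fun x => by simp [h.g_self]) (LinearMap.ext fun x => by simp [h.g_self])

theorem tvW_apply (w : W) (s : F) (x : W) : h.tvW w s x = x + (s * h.gW w x) • w := by
  simp [tvW, smul_smul]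

theorem tvW_isom (w : W) (s : F) (u x : W) : h.gW (h.tvW w s u) (h.tvW w s x) = h.gW u x := by
  simp [tvW_apply, h.g_self, h.g_swap u w]
  ring

variable {h}
variable (hG : h.Gens M)

include hG

theorem exists_isoW (ρ : W ≃ₗ[F] W) (hρ : ∀ u x, h.gW (ρ u) (ρ x) = h.gW u x) :
    ∃ k ∈ M, (∀ u w, k (h.tp u w) = h.tp u (ρ w)) ∧ ∀ b T, h.c (ρ b) (k T) = h.c b T := by
  obtain ⟨k, hk, ek⟩ := hG.isoW ρ hρ
  exact ⟨k, hk, ek, fun b T => h.ext_f fun u => by rw [h.pol_c, h.pol_c, ← ek, hG.le k hk]⟩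

theorem exists_isoU (γ : U ≃ₗ[F] U) (hγ : ∀ u x, h.fU (γ u) (γ x) = h.fU u x) :
    ∃ k ∈ M, (∀ u w, k (h.tp u w) = h.tp (γ u) w) ∧ ∀ b T, h.c b (k T) = γ (h.c b T) := by
  obtain ⟨k, hk, ek⟩ := hG.isoU γ hγ
  exact ⟨k, hk, ek, fun b T => h.ext_f fun u => by
    obtain ⟨v, rfl⟩ := γ.surjective u
    rw [hγ, h.pol_c, h.pol_c, ← ek, hG.le k hk]⟩

theorem tau (w : W) (s : F) : In M (s • h.P w w 1) := by
  obtain ⟨k, hk, ek⟩ := hG.isoW (h.tvW w s) (h.tvW_isom w s)
  refine ⟨k, hk, LinearMap.congr_fun (h.ext_tp (φ := k.toLinearMap) (ψ := 1 + s • h.P w w 1) fun u v => ?_)⟩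
  simp [ek, tvW_apply, P_apply, smul_smul]

theorem in_N {w a : W} (hwa : h.gW w a = 0) : In M (h.N w a) := by
  have haw := h.g_swap_zero hwa
  have h1 := tau hG (w + a) 1
  have h2 := tau hG w (-1)
  have h3 := tau hG a (-1)
  have := (h1.add h2 (by simp [P_mul, hwa, haw, h.g_self])).add h3 (by simp [add_mul, P_mul, hwa, haw, h.g_self])
  refine Eq.subst (motive := fun X => In M X) ?_ this
  refine LinearMap.ext fun T => ?_
  simp [N, P_apply]
  abel

theorem in_P_iso {w : W} {D : Module.End F U} (hX : In M (h.P w w D)) (ρ : W ≃ₗ[F] W)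
    (hρ : ∀ u x, h.gW (ρ u) (ρ x) = h.gW u x) : In M (h.P (ρ w) (ρ w) D) := by
  obtain ⟨k, hk, ek, ec⟩ := exists_isoW hG ρ hρ
  exact hX.conj hk fun T => by simp only [P_apply, ek, ec]

theorem exists_move {a b : W} (hab : h.gW b a ≠ 0) :
    ∃ ρ : W ≃ₗ[F] W, (∀ u x, h.gW (ρ u) (ρ x) = h.gW u x) ∧ ρ a = b ∧ ∀ x, h.gW (b - a) x = 0 → ρ x = x := by
  refine ⟨h.tvW (b - a) (h.gW b a)⁻¹, h.tvW_isom _ _, ?_, fun x hx => by
    rw [tvW_apply, hx, mul_zero, zero_smul, add_zero]⟩
  rw [tvW_apply, map_sub, LinearMap.sub_apply, h.g_self, sub_zero, inv_mul_cancel₀ hab, one_smul, add_sub_cancel]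

/-- Transitivity on the vectors orthogonal to a fixed one. -/
theorem exists_move_fix {w a b : W} (haw : h.gW a w = 0) (hbw : h.gW b w = 0)
    (ha : a ∉ Submodule.span F {w}) (hb : b ∉ Submodule.span F {w}) :
    ∃ ρ : W ≃ₗ[F] W, (∀ u x, h.gW (ρ u) (ρ x) = h.gW u x) ∧ ρ w = w ∧ ρ a = b := by
  obtain ⟨x, hxw, hxa, hxb⟩ := h.exists_common ha hb
  obtain ⟨ρ, hρ, e1, f1⟩ := exists_move hG hxa
  obtain ⟨σ, hσ, e2, f2⟩ := exists_move hG (a := x) (b := b) (fun e => hxb (h.g_swap_zero e))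
  refine ⟨ρ.trans σ, fun u y => by simp [hσ, hρ], ?_, by simp [e1, e2]⟩
  rw [LinearEquiv.trans_apply, f1 _ (by rw [map_sub, LinearMap.sub_apply, hxw, haw, sub_zero]),
    f2 _ (by rw [map_sub, LinearMap.sub_apply, hxw, hbw, sub_zero])]

theorem exists_move_zero {a b : W} (ha : a ≠ 0) (hb : b ≠ 0) :
    ∃ ρ : W ≃ₗ[F] W, (∀ u x, h.gW (ρ u) (ρ x) = h.gW u x) ∧ ρ a = b := by
  obtain ⟨ρ, hρ, -, e⟩ := exists_move_fix hG (w := 0) (a := a) (b := b) (map_zero _) (map_zero _)
    (by rwa [Submodule.span_zero_singleton, Submodule.mem_bot])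
    (by rwa [Submodule.span_zero_singleton, Submodule.mem_bot])
  exact ⟨ρ, hρ, e⟩

end TBil

/-- The skew identity of an element of a group of isometries. -/
theorem In.form_eq (hM : ∀ k ∈ M, ∀ S T, B (k S) (k T) = B S T) {X : Module.End F V} (hX : In M X) (S T : V) :
    B (X S) T + B S (X T) + B (X S) (X T) = 0 := by
  obtain ⟨g, hg, eg⟩ := hX
  have e := hM g hg S T
  simp only [eg, map_add, LinearMap.add_apply] at e
  linear_combination e

end CfsgLib.TensorMax.Pair
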