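import Cfsg.Agent.Lib.TensorMax.Pair.Gamma

/-!
Criteria for a Sylow subgroup larger than the root group.
-/

set_option autoImplicit false
set_option linter.unusedSectionVars false
set_option linter.unusedVariables false
set_option linter.unusedSimpArgs false

namespace CfsgLib.TensorMax.Pair

open LinearMap (BilinForm)
open Polynomial (aeval)

variable {F V U W : Type*} [Field F] [AddCommGroup V] [Module F V] [AddCommGroup U] [Module F U]
  [AddCommGroup W] [Module F W]
variable [FiniteDimensional F V] [FiniteDimensional F U] [FiniteDimensional F W]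
variable {B : BilinForm F V} {M : Subgroup (V ≃ₗ[F] V)}

/-- The upper root element on pairs. -/
def Rh (G : Module.End F U) : Module.End F (U × U) := LinearMap.inl F U U ∘ₗ G ∘ₗ LinearMap.snd F U U

/-- The lower root element on pairs. -/
def Ch : Module.End F (U × U) := LinearMap.inr F U U ∘ₗ LinearMap.fst F U U

/-- A product of an upper and a lower root element on pairs. -/
def Mh (G : Module.End F U) (c d : F) : Module.End F (U × U) := (1 + c • Rh G) * (1 + d • Ch)

theorem Mh_apply (G : Module.End F U) (c d : F) (u v : U) :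
    Mh G c d (u, v) = (u + c • G (v + d • u), v + d • u) := by
  simp [Mh, Rh, Ch]

theorem Mh_quad (G : Module.End F U) (c d : F) (u v : U) :
    Mh G c d (Mh G c d (u, v)) - (2 : F) • Mh G c d (u, v) + (u, v) =
      (c * d) • (G (Mh G c d (u, v)).1, G (Mh G c d (u, v)).2) := by
  simp only [Mh_apply, Prod.smul_mk, Prod.mk_sub_mk, Prod.mk_add_mk, map_add, map_smul, Prod.mk.injEq]
  constructor <;> module

theorem Mh_mapsTo {G : Module.End F U} {S : Submodule F U} (hS : ∀ x ∈ S, G x ∈ S) (c d : F) :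
    ∀ x ∈ S.prod S, Mh G c d x ∈ S.prod S := by
  rintro ⟨u, v⟩ ⟨hu, hv⟩
  rw [Mh_apply]
  have h1 := S.add_mem hv (S.smul_mem d hu)
  exact ⟨S.add_mem hu (S.smul_mem c (hS _ h1)), h1⟩

/-- The inverse product. -/
theorem Mh_inv (G : Module.End F U) (c d : F) :
    Mh G c d * ((1 + (-d) • Ch) * (1 + (-c) • Rh G)) = 1 ∧ ((1 + (-d) • Ch) * (1 + (-c) • Rh G)) * Mh G c d = 1 := by
  constructor <;> refine LinearMap.ext fun x => ?_ <;> simp [Mh, Rh, Ch, Prod.ext_iff] <;> constructor <;> module

/-- A vector on which minus the element is unipotent is moved by all powers of degree prime to the characteristic. -/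
theorem moved_of_neg {X : Type*} [AddCommGroup X] [Module F X] (S : Module.End F X) (h2 : (2 : F) ≠ 0) {x : X}
    (h1 : S (S x + x) = -(S x + x)) (h0 : S x + x ≠ 0) {N : ℕ} (hN : (N : F) ≠ 0) : (S ^ N) x ≠ x := by
  have hpow : ∀ N : ℕ, (S ^ N) x = (-1 : F) ^ N • (x - (N : F) • (S x + x)) := fun N => by
    induction N with
    | zero => simp
    | succ N ih =>
      rw [pow_succ', Module.End.mul_apply, ih, map_smul, map_sub, map_smul, h1, pow_succ, mul_comm, mul_smul,
        Nat.cast_succ]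
      module
  intro e
  rw [hpow] at e
  have e2 := congrArg (fun y => S y + y) e
  simp only [map_smul, map_sub, h1] at e2
  rcases neg_one_pow_eq_or F N with h' | h' <;> rw [h'] at e e2
  · exact hN ((smul_eq_zero.1 (show (N : F) • (S x + x) = 0 by linear_combination (norm := module) -e)).resolve_right h0)
  · exact h0 ((smul_eq_zero.1 (show (2 : F) • (S x + x) = 0 by linear_combination (norm := module) -e2)).resolve_left h2)

theorem separable_quad (h2 : (2 : F) ≠ 0) {t : F} (ht : t ≠ 2) (ht' : t ≠ -2) :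
    (Polynomial.X ^ 2 - Polynomial.C t * Polynomial.X + 1 : Polynomial F).Separable := by
  have h4 : (4 : F) - t * t ≠ 0 := fun e => by
    rcases mul_eq_zero.1 (show (2 - t) * (2 + t) = 0 by linear_combination e) with e' | e'
    · exact ht (sub_eq_zero.1 e').symm
    · exact ht' (eq_neg_of_add_eq_zero_right e')
  rw [Polynomial.separable_def']
  refine ⟨Polynomial.C (4 / (4 - t * t)), Polynomial.C (-(1 / (4 - t * t))) * (Polynomial.C 2 * Polynomial.X - Polynomial.C t), ?_⟩
  have e4 : (4 : F) / (4 - t * t) = 4 * (1 / (4 - t * t)) := by ring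
  have e : Polynomial.C ((4 : F) - t * t) * Polynomial.C (1 / (4 - t * t)) = 1 := by
    rw [← map_mul, mul_one_div, div_self h4, map_one]
  simp [e4] at e ⊢
  have e2 : (Polynomial.C (2 : F)) = 2 := Polynomial.C_ofNat 2
  have e3 : (Polynomial.C (4 : F)) = 4 := Polynomial.C_ofNat 4
  simp only [map_sub, map_mul, e3] at e
  simp only [e2, e3]
  linear_combination e

namespace TBil

variable {h : TBil B U W} {q : W} {C : Module.End F V} (hC : h.Good M q C)

include hC

/-- The product of an upper and a lower root element. -/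
noncomputable def Good.el (hC : h.Good M q C) (c d : F) : V ≃ₗ[F] V :=
  uni (h.P q q 1) (h.R_sq q) (Multiplicative.ofAdd c) * uni C hC.sq (Multiplicative.ofAdd d)

theorem Good.el_mem (c d : F) : hC.el c d ∈ hC.grp :=
  mul_mem (Subgroup.mem_sup_left ⟨_, rfl⟩) (Subgroup.mem_sup_right ⟨_, rfl⟩)

theorem Good.el_Phi (c d : F) (x : U × U) : hC.el c d (h.Phi q C x) = h.Phi q C (Mh (h.blk q C) c d x) := by
  obtain ⟨u, v⟩ := x
  rw [Good.el, LinearEquiv.mul_apply, uni_apply, uni_apply, h.C_Phi hC.sq, ← map_smul, ← map_add, Mh_apply]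
  simp only [Prod.smul_mk, Prod.mk_add_mk, smul_zero, add_zero, h.R_Phi]
  rw [← map_smul, ← map_add]
  simp

theorem Good.el_pow_Phi (c d : F) (x : U × U) (N : ℕ) :
    (hC.el c d ^ N) (h.Phi q C x) = h.Phi q C ((Mh (h.blk q C) c d ^ N) x) := by
  induction N with
  | zero => simp
  | succ N ih => rw [pow_succ', LinearEquiv.mul_apply, ih, hC.el_Phi, pow_succ', Module.End.mul_apply]

theorem Good.pow_fix {c d : F} {N : ℕ} {x : U × U} (hx : x.2 ∈ LinearMap.range (h.blk q C))
    (hx' : ((Mh (h.blk q C) c d ^ N) x).2 ∈ LinearMap.range (h.blk q C))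
    (e : (hC.el c d ^ N) (h.Phi q C x) = h.Phi q C x) : (Mh (h.blk q C) c d ^ N) x = x := by
  rw [hC.el_pow_Phi] at e
  obtain ⟨e1, e2⟩ := hC.Phi_inj hx' hx e
  exact Prod.ext e1 e2

theorem Good.Mh_range (c d : F) {N : ℕ} {x : U × U}
    (hx : x ∈ (LinearMap.range (h.blk q C)).prod (LinearMap.range (h.blk q C))) :
    (Mh (h.blk q C) c d ^ N) x ∈ (LinearMap.range (h.blk q C)).prod (LinearMap.range (h.blk q C)) := by
  induction N with
  | zero => simpa using hx
  | succ N ih =>
    rw [pow_succ', Module.End.mul_apply]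
    exact Mh_mapsTo (fun y _ => LinearMap.mem_range_self _ y) c d _ ih

variable [Finite F] (hG : h.Gens M) (h2 : (2 : F) ≠ 0) (h3 : 3 ≤ Module.finrank F U) (hno : ¬ h.Non M)

include hG h2 h3 hno

/-- A semisimple part next to a part which is not semisimple is impossible. -/
theorem Good.sep_false {c d : F} (T : Submodule F U) (hT : T ≤ LinearMap.range (h.blk q C))
    (hTG : ∀ x ∈ T, h.blk q C x ∈ T) (hT0 : T ≠ ⊥) {σ : Polynomial F} (hσ : σ.Separable)
    (hσT : ∀ x ∈ T.prod T, aeval (Mh (h.blk q C) c d) σ x = 0)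
    (hmov : ∀ N : ℕ, (N : F) ≠ 0 → ∃ x ∈ (LinearMap.range (h.blk q C)).prod (LinearMap.range (h.blk q C)),
      (Mh (h.blk q C) c d ^ N) x ≠ x) : False := by
  obtain ⟨p, hp⟩ := CharP.exists F
  haveI : Fact p.Prime := ⟨CharP.char_is_prime F p⟩
  haveI := hC.finite
  obtain ⟨k, hk⟩ : ∃ k, Nat.card F = p ^ k := by
    haveI := Fintype.ofFinite F
    obtain ⟨m, -, hm⟩ := FiniteField.card F p
    exact ⟨m, by rw [Nat.card_eq_fintype_card, hm]⟩
  set Mat := Mh (h.blk q C) c d with hMat
  set g := hC.el c d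
  have hord : orderOf g ≠ 0 := (orderOf_pos g).ne'
  obtain ⟨a, N, hN, hg⟩ : ∃ a N, ¬ p ∣ N ∧ orderOf g = N * p ^ a :=
    ⟨_, _, Nat.not_dvd_ordCompl Fact.out hord, (Nat.ordProj_mul_ordCompl_eq_self _ p).symm.trans (mul_comm _ _)⟩
  have hNF : (N : F) ≠ 0 := fun e => hN ((CharP.cast_eq_zero_iff F p N).1 e)
  obtain ⟨x, hx, hx'⟩ := hmov N hNF
  have hh1 : g ^ N ≠ 1 := fun e => hx' (hC.pow_fix hx.2 (hC.Mh_range c d hx).2 (by rw [show hC.el c d ^ N = 1 from e]; rfl))
  have hfix : ∀ z ∈ T.prod T, (g ^ N) (h.Phi q C z) = h.Phi q C z := fun z hz => by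
    set S := Mat.restrict (Mh_mapsTo hTG c d) with hS
    have hSσ : aeval S σ = 0 := by
      have key : ∀ (σ : Polynomial F) (y : T.prod T), ((aeval S σ y : T.prod T) : U × U) = aeval Mat σ y := fun σ => by
        induction σ using Polynomial.induction_on' with
        | add σ τ e e' => intro y; simp [e, e']
        | monomial n r =>
          intro y
          rw [Polynomial.aeval_monomial, Polynomial.aeval_monomial, Module.End.mul_apply, Module.End.mul_apply,
            Module.algebraMap_end_apply, Module.algebraMap_end_apply, Submodule.coe_smul, hS, Module.End.pow_restrict]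
          rfl
      exact LinearMap.ext fun y => Subtype.ext ((key σ y).trans (hσT _ y.2))
    have hS1 : S ^ (N * p ^ a) = 1 := LinearMap.ext fun y => Subtype.ext (by
      rw [hS, Module.End.pow_restrict]
      refine hC.pow_fix (hT y.2.2) (hC.Mh_range c d ⟨hT y.2.1, hT y.2.2⟩).2 ?_
      rw [← hg, pow_orderOf_eq_one]; rfl)
    have := congrArg Subtype.val (LinearMap.congr_fun (pow_eq_one_of_sep S hσ hSσ hS1) ⟨z, hz⟩)
    rw [hS, Module.End.pow_restrict] at this
    rw [hC.el_pow_Phi]
    exact congrArg (h.Phi q C) this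
  set G := hC.grp
  set U₀ := (uni (h.P q q 1) (h.R_sq q)).range
  have hU₀ : U₀ ≤ G := le_sup_left
  have hcard : Nat.card (U₀.subgroupOf G) = Nat.card F := by
    rw [Nat.card_congr (Subgroup.subgroupOfEquivOfLe hU₀).toEquiv,
      ← Nat.card_congr (MonoidHom.ofInjective (hC.uniR_injective (by omega))).toEquiv]
    exact Nat.card_congr Multiplicative.toAdd
  by_cases hbig : Nat.card F < p ^ (Nat.card G).factorization p
  · exact hC.no_big hG h2 h3 hno (Nat.ordProj_dvd _ p) hbig
  have hH : IsPGroup p (U₀.subgroupOf G) := IsPGroup.of_card (n := k) (by rw [hcard, hk])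
  obtain ⟨P, hP⟩ := hH.exists_le_sylow
  have hPe : U₀.subgroupOf G = (P : Subgroup G) :=
    Subgroup.eq_of_le_of_card_ge hP (by rw [hcard, P.card_eq_multiplicity]; omega)
  set z : G := ⟨g, hC.el_mem c d⟩ ^ N with hz
  have hzp : IsPGroup p (Subgroup.zpowers z) := fun w => by
    obtain ⟨w, hw⟩ := w
    obtain ⟨j, rfl⟩ := hw
    refine ⟨a, Subtype.ext ?_⟩
    have : z ^ (p ^ a) = 1 := Subtype.ext (by
      rw [hz, ← pow_mul]
      show g ^ (N * p ^ a) = 1
      rw [← hg, pow_orderOf_eq_one])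
    show (z ^ j) ^ (p ^ a) = 1
    rw [← zpow_natCast, ← zpow_mul, mul_comm, zpow_mul, zpow_natCast, this, one_zpow]
  obtain ⟨P', hP'⟩ := hzp.exists_le_sylow
  obtain ⟨x, hx⟩ := MulAction.exists_smul_eq G P' P
  have hmem : MulAut.conj x z ∈ (P : Subgroup G) := by
    rw [← hx]
    exact Subgroup.smul_mem_pointwise_smul z (MulAut.conj x) _ (hP' (Subgroup.mem_zpowers z))
  rw [← hPe] at hmem
  obtain ⟨e, he⟩ := hmem
  rw [MulAut.conj_apply] at he
  -- the conjugate fixes the semisimple part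
  obtain ⟨v, hv, hv0⟩ := Submodule.exists_mem_ne_zero_of_ne_bot hT0
  obtain ⟨⟨a', ha', b', hb', c', hc', d', hd', eΦ⟩, -⟩ := hC.shape (x⁻¹ : G).2
  have hstab : ∀ b ∈ h.alg q C, ∀ y ∈ T, b y ∈ T := fun b hb => by
    induction hb using Algebra.adjoin_induction with
    | mem w hw => rw [Set.mem_singleton_iff.1 hw]; exact hTG
    | algebraMap r => intro y hy; rw [Module.algebraMap_end_apply]; exact T.smul_mem r hy
    | add w w' _ _ ih ih' => intro y hy; exact T.add_mem (ih y hy) (ih' y hy)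
    | mul w w' _ _ ih ih' => intro y hy; exact ih _ (ih' y hy)
  have hfixe : uni (h.P q q 1) (h.R_sq q) e (h.Phi q C (0, v)) = h.Phi q C (0, v) := by
    rw [he]
    show (x : V ≃ₗ[F] V) ((g ^ N) (((x⁻¹ : G) : V ≃ₗ[F] V) (h.Phi q C (0, v)))) = _
    rw [eΦ 0 (zero_mem _) v (hT hv), map_zero, map_zero, zero_add, zero_add,
      hfix _ ⟨hstab b' hb' v hv, hstab d' hd' v hv⟩]
    have := eΦ 0 (zero_mem _) v (hT hv)
    rw [map_zero, map_zero, zero_add, zero_add] at this
    rw [← this]
    exact (x : V ≃ₗ[F] V).apply_symm_apply _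
  rw [show e = Multiplicative.ofAdd e.toAdd from rfl, uni_apply, add_eq_left, h.R_Phi, ← map_smul] at hfixe
  have h0 := (hC.Phi_eq_zero (v := e.toAdd • 0) (by simp) hfixe).1
  rcases smul_eq_zero.1 h0 with h0 | h0
  · have e1 : e = 1 := congrArg Multiplicative.ofAdd h0
    rw [e1, map_one] at he
    refine hh1 ?_
    have : x * z * x⁻¹ = 1 := Subtype.ext he.symm
    have hz1 : z = 1 := by
      rw [show z = x⁻¹ * (x * z * x⁻¹) * x by group, this]; group
    exact congrArg Subtype.val hz1
  · exact hv0 (hC.blk_inj (hT hv) h0)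

omit hG h2 h3 hno in
/-- If a power of degree prime to the characteristic is trivial, the block is fixed by a power of the Frobenius. -/
theorem Good.frob_of_fix {c d : F} (hc : c ≠ 0) (hd : d ≠ 0) {N : ℕ} (hN : (N : F) ≠ 0)
    (hfix : ∀ x ∈ (LinearMap.range (h.blk q C)).prod (LinearMap.range (h.blk q C)),
      (Mh (h.blk q C) c d ^ N) x = x) :
    ∃ Q, 1 < Q ∧ (∀ r : F, r ^ Q = r) ∧ (∃ p j, p.Prime ∧ CharP F p ∧ Q = p ^ j) ∧
      ∀ u ∈ LinearMap.range (h.blk q C), (h.blk q C ^ Q) u = h.blk q C u := by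
  obtain ⟨p, hp⟩ := CharP.exists F
  haveI hpp : Fact p.Prime := ⟨CharP.char_is_prime F p⟩
  haveI := Fintype.ofFinite F
  obtain ⟨m, -, hm⟩ := FiniteField.card F p
  have hpN : ¬ p ∣ N := fun e => hN ((CharP.cast_eq_zero_iff F p N).2 e)
  have hN0 : 0 < N := Nat.pos_of_ne_zero fun e => hN (by rw [e, Nat.cast_zero])
  set Q := Fintype.card F ^ Nat.totient N with hQ
  have hQ1 : 1 < Q := Nat.one_lt_pow (Nat.totient_pos.2 hN0).ne' Fintype.one_lt_card
  have hmod : Q ≡ 1 [MOD N] := Nat.ModEq.pow_totient (by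
    rw [hm]; exact Nat.Coprime.pow_left _ ((hpp.out.coprime_iff_not_dvd).2 hpN))
  obtain ⟨k, hk⟩ : ∃ k, Q = N * k + 1 := ⟨(Q - 1) / N, by
    rw [Nat.mul_div_cancel' ((Nat.modEq_iff_dvd' hQ1.le).1 hmod.symm), Nat.sub_add_cancel hQ1.le]⟩
  have hQr : ∀ r : F, r ^ Q = r := fun r => by rw [hQ]; exact FiniteField.pow_card_pow _ r
  refine ⟨Q, hQ1, hQr, ⟨p, (m : ℕ) * Nat.totient N, hpp.out, hp, by rw [hQ, hm, ← pow_mul]⟩, fun u hu => ?_⟩
  set G := h.blk q C
  set S := Mh G c d
  set S' : Module.End F (U × U) := (1 + (-d) • Ch) * (1 + (-c) • Rh G)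
  obtain ⟨hSS, hSS'⟩ := Mh_inv G c d
  rcases eq_or_ne u 0 with rfl | hu0
  · simp
  haveI : Nontrivial U := ⟨⟨u, 0, hu0⟩⟩
  haveI : CharP (Module.End F (U × U)) p := charP_of_injective_algebraMap (algebraMap F _).injective p
  have hcomm : Commute S S' := hSS.trans hSS'.symm
  let T : Module.End F (U × U) := LinearMap.prodMap ((2 : F) • 1 + (c * d) • G) ((2 : F) • 1 + (c * d) • G)
  have hsum : S + S' = T := LinearMap.ext fun x => by
    simp [S, S', T, Mh, Rh, Ch, Prod.ext_iff]
    constructor <;> module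
  set x : U × U := (u, 0)
  have hx : x ∈ (LinearMap.range G).prod (LinearMap.range G) := ⟨hu, zero_mem _⟩
  have hfix' : ∀ j, ((S ^ N) ^ j) x = x := fun j => by
    induction j with
    | zero => simp
    | succ j ih => rw [pow_succ', Module.End.mul_apply, ih, hfix x hx]
  have hS'fix : ∀ j, ((S' ^ N) ^ j) x = x := fun j => by
    conv_rhs => rw [show x = (((S' ^ N) ^ j) * ((S ^ N) ^ j)) x by
      rw [← pow_mul, ← pow_mul, ← hcomm.symm.mul_pow, hSS']; simp]
    rw [Module.End.mul_apply, hfix']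
  have e : (T ^ Q) x = T x := by
    rw [← hsum, hQ, hm, ← pow_mul, add_pow_char_pow_of_commute _ _ hcomm, pow_mul, ← hm, ← hQ, LinearMap.add_apply,
      LinearMap.add_apply, hk, pow_succ', pow_succ', pow_mul, pow_mul, Module.End.mul_apply, Module.End.mul_apply,
      hfix', hS'fix]
  have hTpow : ∀ j, (T ^ j) x = ((((2 : F) • 1 + (c * d) • G) ^ j) u, 0) := fun j => by
    induction j with
    | zero => simp [x]
    | succ j ih => rw [pow_succ', Module.End.mul_apply, ih, pow_succ', Module.End.mul_apply]; simp [T]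
  rw [hTpow, LinearMap.prodMap_apply] at e
  have e' := congrArg Prod.fst e
  haveI : CharP (Module.End F U) p := charP_of_injective_algebraMap (algebraMap F _).injective p
  rw [hQ, hm, ← pow_mul, add_pow_char_pow_of_commute _ _ (((Commute.one_left _).smul_left _)), smul_pow, smul_pow, one_pow,
    pow_mul, ← hm, ← hQ, hQr, hQr] at e'
  simp only [LinearMap.add_apply, LinearMap.smul_apply, Module.End.one_apply, add_right_inj] at e'
  exact smul_right_injective U (mul_ne_zero hc hd) (add_left_cancel (show (2 : F) • u + (c * d) • (G ^ Q) u =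
    (2 : F) • u + (c * d) • G u from e'))

end TBil

end CfsgLib.TensorMax.Pair
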