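import Cfsg.Agent.Lib.TensorMax.Pair.TwoDim

/-!
Without non-scalar root groups the group permutes the lines of pure tensors.
-/

set_option autoImplicit false
set_option linter.unusedSectionVars false
set_option linter.unusedVariables false
set_option linter.unusedSimpArgs false

namespace CfsgLib.TensorMax.Pair

open LinearMap (BilinForm)

variable {F V U W : Type*} [Field F] [AddCommGroup V] [Module F V] [AddCommGroup U] [Module F U]
  [AddCommGroup W] [Module F W]
variable [FiniteDimensional F V] [FiniteDimensional F U] [FiniteDimensional F W]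
variable {B : BilinForm F V} {M : Subgroup (V ≃ₗ[F] V)}

namespace TBil

variable {h : TBil B U W} {C : Module.End F V}
variable [Fintype F] (hG : h.Gens M) (h2 : (2 : F) ≠ 0) (h3 : 3 ≤ Module.finrank F U) (hno : ¬ h.Non M)
  (hW : Module.finrank F W ≤ 2 → 5 ≤ Module.finrank F U ∨ (5 ≤ Fintype.card F ∧ Module.finrank F U = 3))

include hG h2 h3 hno hW

/-- All blocks are scalar. -/
theorem Conj.blk_scalar (hC : h.Conj M C) (q : W) : ∃ s : F, h.blk q C = s • 1 := by
  rcases eq_or_ne q 0 with rfl | hq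
  · exact ⟨0, LinearMap.ext fun u => by simp [blk_apply]⟩
  by_contra hns
  push Not at hns
  obtain ⟨C', hC', hgood, hns', -⟩ := hC.exists_good hG h2 h3 hno hq hns
  by_cases hb : ∃ b, h.gW q b = 0 ∧ b ∉ Submodule.span F {q}
  · obtain ⟨b, hqb, hb⟩ := hb
    exact hgood.big_false hG h2 h3 hno hns' hqb hb
  push Not at hb
  have hker : ∀ x : W, x ≠ 0 → Module.finrank F W = Module.finrank F (LinearMap.ker (h.gW x)) + 1 := fun x hx => by
    have := LinearMap.finrank_range_add_finrank_ker (h.gW x)
    have hr : LinearMap.range (h.gW x) = ⊤ := LinearMap.range_eq_top.2 fun t => by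
      obtain ⟨y, hy⟩ := h.exists_g_one hx
      refine ⟨-(t • y), ?_⟩
      rw [map_neg, map_smul, h.g_swap, hy]
      simp
    rw [hr, finrank_top, Module.finrank_self] at this
    omega
  have hn : Module.finrank F W ≤ 2 := by
    have e := Submodule.finrank_mono (show LinearMap.ker (h.gW q) ≤ Submodule.span F {q} from fun b hb' => hb b hb')
    rw [finrank_span_singleton hq] at e
    have := hker q hq
    omega
  obtain ⟨w', hw'⟩ := h.exists_g_one hq
  have hone : ∀ p v, p ≠ 0 → h.gW p v = 0 → v ∈ Submodule.span F {p} := fun p v hp hv => by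
    have e : Submodule.span F {p} = LinearMap.ker (h.gW p) := by
      refine Submodule.eq_of_le_of_finrank_le ((Submodule.span_singleton_le_iff_mem _ _).2 (h.g_self p)) ?_
      rw [finrank_span_singleton hp]
      have := hker p hp
      omega
    rw [e]; exact hv
  rcases hW hn with h5 | ⟨h5, -⟩
  · exact hgood.two_false hG h2 h3 hno (qop := -w') (by rw [map_neg, h.g_swap, hw', neg_neg])
      (fun v => hone q v hq) hC' hone h5 hns'
  · classical
    obtain ⟨hc1, -⟩ := hgood.config hG h2 h3 hno hns'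
    have hsub : (Finset.univ : Finset F) ⊆ {0, 1, -1} := fun c _ => by
      rcases eq_or_ne c 0 with rfl | hc
      · simp
      · rcases mul_self_eq_one_iff.1 (hc1 c hc) with rfl | rfl <;> simp
    have h4 := (Finset.card_le_card hsub).trans Finset.card_le_three
    rw [Finset.card_univ] at h4
    omega

/-- An element is of one of the two factor types. -/
theorem Conj.factor_type (hC : h.Conj M C) :
    (∃ κ : Module.End F W, ∀ u y, C (h.tp u y) = h.tp u (κ y)) ∨
      ∃ K : Module.End F U, (∀ u x, h.fU (K u) x = - h.fU u (K x)) ∧ ∀ u y, C (h.tp u y) = h.tp (K u) y := by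
  haveI : Nontrivial U := Module.nontrivial_of_finrank_pos (R := F) (by omega)
  obtain ⟨u₀, hu₀⟩ := exists_ne (0 : U)
  obtain ⟨a₀, ha₀⟩ : ∃ a, h.fU a u₀ = 1 := by
    obtain ⟨a, ha⟩ : ∃ a, h.fU a u₀ ≠ 0 := by
      by_contra e
      push Not at e
      exact hu₀ (h.fnd.2 u₀ e)
    exact ⟨(h.fU a u₀)⁻¹ • a, by rw [map_smul, LinearMap.smul_apply, smul_eq_mul, inv_mul_cancel₀ ha]⟩
  let E : Module.End F V → W → W → Module.End F U := fun D a b => h.c a ∘ₗ D ∘ₗ h.tp.flip b
  have hEapp : ∀ D a b u, E D a b u = h.c a (D (h.tp u b)) := fun D a b u => rfl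
  -- the symmetric part is scalar
  have hsum : ∀ D, h.Conj M D → ∀ a b, ∃ s : F, E D a b + E D b a = s • 1 := fun D hD a b => by
    obtain ⟨s₁, e₁⟩ := hD.blk_scalar hG h2 h3 hno hW a
    obtain ⟨s₂, e₂⟩ := hD.blk_scalar hG h2 h3 hno hW b
    obtain ⟨s₃, e₃⟩ := hD.blk_scalar hG h2 h3 hno hW (a + b)
    refine ⟨s₃ - s₁ - s₂, LinearMap.ext fun u => ?_⟩
    have e1 := LinearMap.congr_fun e₁ u
    have e2 := LinearMap.congr_fun e₂ u
    have e3 := LinearMap.congr_fun e₃ u
    simp only [blk_apply, map_add, LinearMap.add_apply, LinearMap.smul_apply, Module.End.one_apply] at e1 e2 e3 ⊢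
    simp only [hEapp]
    linear_combination (norm := module) e3 - e1 - e2
  have hadj : ∀ D, h.Conj M D → ∀ a b x u, h.fU x (E D a b u) = h.fU u (E D b a x) := fun D hD a b x u => by
    rw [hEapp, hEapp, h.pol_c, h.pol_c, eq_neg_of_add_eq_zero_right (hD.skew hG (h.tp x a) (h.tp u b)), ← h.b_swap]
  have hskew : ∀ D, h.Conj M D → ∀ a b u x, h.fU ((E D a b - E D b a) u) x = - h.fU u ((E D a b - E D b a) x) :=
    fun D hD a b u x => by
      rw [h.fSym, LinearMap.sub_apply, LinearMap.sub_apply, map_sub, map_sub, hadj D hD a b x u, hadj D hD b a x u,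
          neg_sub]
  -- the alternating part vanishes on orthogonal pairs
  have hK0 : ∀ a b, h.gW a b = 0 → E C a b - E C b a = 0 := fun a b hab => by
    rcases eq_or_ne b 0 with rfl | hb
    · exact LinearMap.ext fun u => by simp [hEapp]
    refine h.skew_scalar h2 h3 (hskew C hC a b) fun γ hγ E' hE' => ?_
    obtain ⟨k, hk, ek, eck⟩ := exists_isoU hG γ hγ
    let D : Module.End F V := k.toLinearMap ∘ₗ C ∘ₗ k.symm.toLinearMap
    have hD : h.Conj M D := hC.conj hk fun T => by simp [D]
    have hE : ∀ x y u, E D x y (γ u) = γ (E C x y u) := fun x y u => by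
      rw [hEapp, hEapp, ← eck]
      congr 1
      show k (C (k.symm (h.tp (γ u) y))) = _
      rw [← ek, k.symm_apply_apply]
    have hE'e : E' = E D a b - E D b a := LinearMap.ext fun v => by
      obtain ⟨u, rfl⟩ := γ.surjective v
      rw [hE', LinearMap.sub_apply, LinearMap.sub_apply, hE, hE, map_sub]
    have key : ∀ ε δ : F, ε ≠ 0 → δ ≠ 0 → ∃ s : F, h.blk a (h.conj2 b (ε • C) + δ • (D * h.conj2 b (ε • C)) -
        δ • (h.conj2 b (ε • C) * D) - (δ * δ) • (D * h.conj2 b (ε • C) * D)) = s • 1 := fun ε δ hε hδ => by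
      obtain ⟨g, hg, eg⟩ := (hD.smul hδ).inM hG 1
      refine Conj.blk_scalar hG h2 h3 hno hW (((hC.smul hε).conj2 hG hb).conj hg fun T => ?_) a
      have hDD : ∀ S, D (D S) = 0 := fun S => LinearMap.congr_fun hD.sq S
      simp only [eg, one_smul, LinearMap.add_apply, LinearMap.sub_apply, LinearMap.smul_apply, Module.End.mul_apply,
        map_add, map_smul, hDD, map_zero, smul_zero, add_zero, sub_zero]
      module
    obtain ⟨s₁, e₁⟩ := key 1 1 one_ne_zero one_ne_zero
    obtain ⟨s₂, e₂⟩ := key 1 (-1) one_ne_zero (neg_ne_zero.2 one_ne_zero)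
    obtain ⟨s₃, e₃⟩ := key (-1) 1 (neg_ne_zero.2 one_ne_zero) one_ne_zero
    obtain ⟨s₄, e₄⟩ := key (-1) (-1) (neg_ne_zero.2 one_ne_zero) (neg_ne_zero.2 one_ne_zero)
    obtain ⟨σ, hσ⟩ := hsum C hC a b
    obtain ⟨τ, hτ⟩ := hsum D hD a b
    set KC := E C a b - E C b a
    have hba := h.g_swap_zero hab
    have hprod : ∀ u, (4 : F) • (E D a b (E C b a u) + E C a b (E D b a u)) = (- (s₁ - s₂ - s₃ + s₄)) • u := fun u => by
      have f1 := LinearMap.congr_fun e₁ u
      have f2 := LinearMap.congr_fun e₂ u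
      have f3 := LinearMap.congr_fun e₃ u
      have f4 := LinearMap.congr_fun e₄ u
      have r1 : h.P b b 1 (h.tp u a) = 0 := by rw [h.R_apply, h.c_tp, hba, zero_smul]; simp
      have r2 : ∀ T, h.c a (h.P b b 1 T) = 0 := fun T => by rw [h.R_apply, h.c_tp, hab, zero_smul]
      simp only [blk_apply, TBil.conj2, LinearMap.add_apply, LinearMap.sub_apply, LinearMap.smul_apply,
        Module.End.mul_apply, Module.End.one_apply, map_add, map_sub, map_smul, one_smul, neg_smul, one_mul, mul_one,
        mul_neg, neg_neg, smul_neg, map_neg, LinearMap.neg_apply, r1, r2, smul_zero, map_zero, zero_add, add_zero,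
        sub_zero, zero_sub, neg_zero, sub_neg_eq_add] at f1 f2 f3 f4
      simp only [h.R_apply] at f1 f2 f3 f4
      simp only [hEapp]
      linear_combination (norm := module) -(f1 - f2 - f3 + f4)
    refine ⟨2 * σ * τ - (- (s₁ - s₂ - s₃ + s₄)), LinearMap.ext fun u => ?_⟩
    rw [hE'e]
    have a1 : ∀ v, (2 : F) • E C a b v = σ • v + KC v := fun v => by
      have := LinearMap.congr_fun hσ v
      simp only [KC, LinearMap.add_apply, LinearMap.sub_apply, LinearMap.smul_apply, Module.End.one_apply] at this ⊢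
      linear_combination (norm := module) this
    have a2 : ∀ v, (2 : F) • E C b a v = σ • v - KC v := fun v => by
      have := LinearMap.congr_fun hσ v
      simp only [KC, LinearMap.add_apply, LinearMap.sub_apply, LinearMap.smul_apply, Module.End.one_apply] at this ⊢
      linear_combination (norm := module) this
    set KD := E D a b - E D b a
    have b1 : ∀ v, (2 : F) • E D a b v = τ • v + KD v := fun v => by
      have := LinearMap.congr_fun hτ v
      simp only [KD, LinearMap.add_apply, LinearMap.sub_apply, LinearMap.smul_apply, Module.End.one_apply] at this ⊢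
      linear_combination (norm := module) this
    have b2 : ∀ v, (2 : F) • E D b a v = τ • v - KD v := fun v => by
      have := LinearMap.congr_fun hτ v
      simp only [KD, LinearMap.add_apply, LinearMap.sub_apply, LinearMap.smul_apply, Module.End.one_apply] at this ⊢
      linear_combination (norm := module) this
    have c1 : (2 : F) • E D a b ((2 : F) • E C b a u) = τ • (σ • u - KC u) + KD (σ • u - KC u) := by
      rw [a2, b1]
    have c2 : (2 : F) • E C a b ((2 : F) • E D b a u) = σ • (τ • u - KD u) + KC (τ • u - KD u) := by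
      rw [b2, a1]
    simp only [map_smul, map_sub] at c1 c2
    simp only [LinearMap.add_apply, Module.End.mul_apply, LinearMap.smul_apply, Module.End.one_apply]
    linear_combination (norm := module) c1 + c2 - hprod u
  -- the alternating part is a multiple of the form
  let Kl : W → W → Module.End F U := fun a b => E C a b - E C b a
  obtain ⟨K₀, hK⟩ : ∃ K₀ : Module.End F U, ∀ a b u, (E C a b - E C b a) u = h.gW a b • K₀ u := by
    have hlin : ∀ a b v : W, ∀ t : F, E C a (b - t • v) - E C (b - t • v) a = (E C a b - E C b a) - t • (E C a v - E C v a) :=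
      fun a b v t => LinearMap.ext fun u => by
        simp [hEapp, map_sub, map_smul, smul_sub]
        abel
    have hmul : ∀ a x, h.gW a x = 1 → ∀ b, E C a b - E C b a = h.gW a b • (E C a x - E C x a) := fun a x hx b => by
      have := hK0 a (b - h.gW a b • x) (by rw [map_sub, map_smul, hx, smul_eq_mul, mul_one, sub_self])
      rwa [hlin, sub_eq_zero] at this
    rcases subsingleton_or_nontrivial W with hs | hn
    · exact ⟨0, fun a b u => by rw [Subsingleton.elim a 0, Subsingleton.elim b 0]; simp [hEapp]⟩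
    obtain ⟨e, he⟩ := exists_ne (0 : W)
    obtain ⟨e', he'⟩ := h.exists_g_one he
    have he'' : h.gW e (-e') = 1 := by rw [map_neg, h.g_swap, he', neg_neg]
    refine ⟨E C e (-e') - E C (-e') e, fun a b u => ?_⟩
    rcases eq_or_ne a 0 with rfl | ha
    · simp [hEapp]
    obtain ⟨x, -, hxe, hxa⟩ := h.exists_common (w := (0 : W)) (a := e) (b := a)
      (by rwa [Submodule.span_zero_singleton, Submodule.mem_bot])
      (by rwa [Submodule.span_zero_singleton, Submodule.mem_bot])
    have hex : h.gW e x ≠ 0 := fun e' => hxe (h.g_swap_zero e')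
    have hax : h.gW a x ≠ 0 := fun e' => hxa (h.g_swap_zero e')
    have hone : ∀ c, h.gW c x ≠ 0 → ∀ y, h.gW c y = 1 →
        h.gW c x • (E C c y - E C y c) = E C c x - E C x c := fun c hc y hy => (hmul c y hy x).symm
    obtain ⟨a', ha'⟩ := h.exists_g_one ha
    have ha'' : h.gW a (-a') = 1 := by rw [map_neg, h.g_swap, ha', neg_neg]
    obtain ⟨x', hx'⟩ := h.exists_g_one (show x ≠ 0 from fun e => hxa (by rw [e]; simp))
    have hx'' : h.gW x (-x') = 1 := by rw [map_neg, h.g_swap, hx', neg_neg]
    have p1 := hone a hax (-a') ha''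
    have p2 := hone e hex (-e') he''
    have q1 := hmul x (-x') hx'' a
    have q2 := hmul x (-x') hx'' e
    have r1 : h.gW a x • (E C a (-a') - E C (-a') a) = h.gW a x • (E C x (-x') - E C (-x') x) := by
      rw [p1, ← neg_sub (E C x a), q1, ← neg_smul, ← h.g_swap]
    have r2 : h.gW e x • (E C e (-e') - E C (-e') e) = h.gW e x • (E C x (-x') - E C (-x') x) := by
      rw [p2, ← neg_sub (E C x e), q2, ← neg_smul, ← h.g_swap]
    rw [hmul a (-a') ha'' b, smul_right_injective _ hax r1, ← smul_right_injective _ hex r2]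
    rfl
  -- the symmetric part as a map of the second factor
  obtain ⟨κ, hκ⟩ : ∃ κ : Module.End F W, ∀ a y,
      h.gW a (κ y) = (2 : F)⁻¹ * h.fU a₀ (E C a y u₀ + E C y a u₀) := by
    let Λ : W →ₗ[F] Module.Dual F W :=
      LinearMap.mk₂ F (fun y a => (2 : F)⁻¹ * h.fU a₀ (E C a y u₀ + E C y a u₀))
        (fun v v' a => by simp [hEapp]; ring) (fun s v a => by simp [hEapp]; ring)
        (fun v a a' => by simp [hEapp]; ring) (fun s v a => by simp [hEapp]; ring)
    have hgnd : h.gW.flip.Nondegenerate := LinearMap.flip_nondegenerate.2 h.gnd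
    refine ⟨(h.gW.flip.toDual hgnd).symm.toLinearMap ∘ₗ Λ, fun a v => ?_⟩
    show h.gW.flip _ a = _
    exact BilinForm.apply_toDual_symm_apply (hB := hgnd) (Λ v) a
  set K : Module.End F U := (2 : F)⁻¹ • K₀ with hKdef
  have hC' : ∀ u y, C (h.tp u y) = h.tp u (κ y) + h.tp (K u) y := fun u y => sub_eq_zero.1 (h.eq_zero_of_c fun a => by
    obtain ⟨σ, hσ⟩ := hsum C hC a y
    have e0 : h.fU a₀ (E C a y u₀ + E C y a u₀) = σ := by
      rw [← LinearMap.add_apply, hσ, LinearMap.smul_apply, Module.End.one_apply, map_smul, ha₀, smul_eq_mul, mul_one]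
    have e1 := LinearMap.congr_fun hσ u
    have e2 := hK a y u
    rw [map_sub, map_add, h.c_tp, h.c_tp, hκ, e0, hKdef, LinearMap.smul_apply]
    simp only [LinearMap.add_apply, LinearMap.sub_apply, LinearMap.smul_apply, Module.End.one_apply, hEapp] at e1 e2
    have h22 : (2 : F)⁻¹ * 2 = 1 := inv_mul_cancel₀ h2
    linear_combination (norm := skip) (2 : F)⁻¹ • (e1 + e2)
    match_scalars
    · linear_combination -h22
    · ring
    · ring
    · ring)
  have hκsym : ∀ a y, h.gW a (κ y) = h.gW y (κ a) := fun a y => by rw [hκ, hκ, add_comm (E C a y u₀)]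
  have hKskew : ∀ u x, h.fU (K u) x = - h.fU u (K x) := fun u x => by
    obtain ⟨e', he'⟩ : ∃ e' : W, True := ⟨0, trivial⟩
    rcases subsingleton_or_nontrivial W with hs | hn
    · exfalso
      obtain ⟨g, hg, w, hw, -⟩ := id hC
      exact hw (Subsingleton.elim _ _)
    obtain ⟨e, he⟩ := exists_ne (0 : W)
    obtain ⟨e', he'⟩ := h.exists_g_one he
    have hz : ∀ v, K₀ v = (E C e' e - E C e e') v := fun v => by rw [hK, he', one_smul]
    simp only [hKdef, LinearMap.smul_apply, map_smul, LinearMap.smul_apply, hz, hskew C hC e' e, smul_neg]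
  have hscal0 : ∀ t : F, (∀ u, K u = t • u) → ∀ u, K u = 0 := fun t ht u => by
    have := hKskew a₀ u₀
    rw [ht, ht, map_smul, LinearMap.smul_apply, map_smul, ha₀, smul_eq_mul, mul_one] at this
    have ht0 : t = 0 := (mul_eq_zero.1 (show (2 : F) * t = 0 by linear_combination this)).resolve_left h2
    rw [ht, ht0, zero_smul]
  by_cases hκe : ∀ y, κ y ∈ Submodule.span F {y}
  · refine Or.inr ⟨K, hKskew, fun u y => ?_⟩
    rw [hC', add_eq_right]
    suffices κ y = 0 by rw [this, map_zero]
    rcases eq_or_ne y 0 with rfl | hy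
    · exact map_zero κ
    obtain ⟨a, ha⟩ := h.exists_g_one hy
    obtain ⟨ly, hly⟩ := Submodule.mem_span_singleton.1 (hκe y)
    obtain ⟨la, hla⟩ := Submodule.mem_span_singleton.1 (hκe a)
    obtain ⟨l, hl⟩ := Submodule.mem_span_singleton.1 (hκe (a + y))
    have e1 := hκsym a y
    rw [← hly, ← hla, map_smul, map_smul, h.g_swap y a, ha, smul_eq_mul, smul_eq_mul] at e1
    rw [map_add, ← hly, ← hla] at hl
    have c1 := congrArg (h.gW a) hl
    have c2 := congrArg (h.gW y) hl
    simp only [map_add, map_smul, smul_eq_mul, h.g_self, ha, h.g_swap y a] at c1 c2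
    have : (2 : F) * ly = 0 := by linear_combination e1 - c1 - c2
    rw [← hly, (mul_eq_zero.1 this).resolve_left h2, zero_smul]
  · push Not at hκe
    obtain ⟨y, hy⟩ := hκe
    obtain ⟨x, hxy, hx⟩ := h.exists_perp_one hy
    have hK0' : ∀ u, K u = 0 := hscal0 (-(h.gW x (κ (κ y)) / 2)) fun u => by
      have e : C (C (h.tp u y)) = 0 := LinearMap.congr_fun hC.sq _
      simp only [hC', map_add] at e
      have e' := congrArg (h.c x) e
      simp only [map_add, map_zero, h.c_tp, hxy, hx, zero_smul, add_zero, one_smul] at e'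
      refine smul_right_injective U h2 ?_
      simp only
      rw [smul_smul, mul_neg, mul_div_cancel₀ _ h2]
      linear_combination (norm := module) e'
    exact Or.inl ⟨κ, fun u y => by rw [hC', hK0']; simp⟩

omit hG h2 h3 hno hW in
/-- The rank of an element of the first factor. -/
theorem rank_first {K : Module.End F U} (hK : ∀ u y, C (h.tp u y) = h.tp (K u) y) :
    Module.finrank F (LinearMap.range C) = Module.finrank F W * Module.finrank F (LinearMap.range K) := by
  classical
  set b := Module.finBasis F W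
  let Φ : (Fin (Module.finrank F W) → LinearMap.range K) →ₗ[F] V :=
    ∑ i, (h.tp.flip (b i)) ∘ₗ (LinearMap.range K).subtype ∘ₗ LinearMap.proj i
  have hΦ : ∀ x, Φ x = ∑ i, h.tp (x i : U) (b i) := fun x => by simp [Φ]
  have hinj : Function.Injective Φ := (injective_iff_map_eq_zero _).2 fun x hx => funext fun i => Subtype.ext (by
    have := congrArg (h.c (h.gW.dualBasis h.gnd b i)) hx
    rw [hΦ, map_sum, map_zero] at this
    simp only [h.c_tp, BilinForm.apply_dualBasis_left, ite_smul, one_smul, zero_smul, Finset.sum_ite_eq',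
      Finset.mem_univ, if_true] at this
    exact this)
  have hrange : LinearMap.range Φ = LinearMap.range C := by
    refine le_antisymm ?_ ?_
    · rintro _ ⟨x, rfl⟩
      rw [hΦ]
      refine Submodule.sum_mem _ fun i _ => ?_
      obtain ⟨u, hu⟩ := (x i).2
      exact ⟨h.tp u (b i), by rw [hK, hu]⟩
    · rintro _ ⟨T, rfl⟩
      have : T ∈ Submodule.span F {S | ∃ u v, h.tp u v = S} := by rw [h.span_tp]; exact Submodule.mem_top
      refine (Submodule.span_le (p := (LinearMap.range Φ).comap C)).2 ?_ this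
      rintro _ ⟨u, v, rfl⟩
      refine ⟨fun i => (b.repr v i) • ⟨K u, LinearMap.mem_range_self K u⟩, ?_⟩
      rw [hΦ, hK]
      conv_rhs => rw [← b.sum_repr v, map_sum]
      simp
  rw [← hrange, LinearMap.finrank_range_of_inj hinj, Module.finrank_pi_fintype]
  simp

/-- No element is of the type of the first factor. -/
theorem Conj.not_first (hC : h.Conj M C) {K : Module.End F U} (hKs : ∀ u x, h.fU (K u) x = - h.fU u (K x))
    (hK : ∀ u y, C (h.tp u y) = h.tp (K u) y) : False := by
  haveI : Nontrivial U := Module.nontrivial_of_finrank_pos (R := F) (by omega)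
  obtain ⟨g, hg, w, hw, s, hs, eg⟩ := id hC
  haveI : Nontrivial W := ⟨⟨w, 0, hw⟩⟩
  obtain ⟨w₁, hw₁⟩ := h.exists_g_one hw
  set n := Module.finrank F W
  set k := Module.finrank F (LinearMap.range K)
  have hrk : n * k = Module.finrank F U := by rw [← rank_first hK, hC.rank]
  have hn : 2 ≤ n := by
    by_contra hn
    obtain ⟨t, ht⟩ : ∃ t : F, t • w = w₁ := by
      have e : Submodule.span F {w} = ⊤ := Submodule.eq_top_of_finrank_eq (by
        rw [finrank_span_singleton hw]; have := Module.finrank_pos (R := F) (M := W); omega)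
      exact Submodule.mem_span_singleton.1 (e ▸ Submodule.mem_top)
    rw [← ht, map_smul, LinearMap.smul_apply, h.g_self, smul_zero] at hw₁
    exact zero_ne_one hw₁
  have hk : 2 ≤ k := by
    by_contra hk
    have hk1 : k = 1 := by
      rcases Nat.eq_zero_or_pos k with e | e
      · rw [e, mul_zero] at hrk; omega
      · omega
    obtain ⟨l, hl0, hl⟩ := finrank_eq_one_iff'.1 hk1
    choose φ hφ using fun u => hl ⟨K u, LinearMap.mem_range_self K u⟩
    have hφ' : ∀ u, K u = φ u • (l : U) := fun u => (congrArg Subtype.val (hφ u)).symm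
    obtain ⟨x, hx⟩ : ∃ x, h.fU l x ≠ 0 := by
      by_contra e
      push Not at e
      exact hl0 (Subtype.ext (h.fnd.1 _ e))
    have e1 := hKs x x
    rw [hφ', map_smul, LinearMap.smul_apply, map_smul, smul_eq_mul, smul_eq_mul, h.fSym x l] at e1
    have hφx : φ x = 0 := (mul_eq_zero.1 ((mul_eq_zero.1 (show (2 : F) * (φ x * h.fU l x) = 0 by
      linear_combination e1)).resolve_left h2)).resolve_right hx
    have hzero : ∀ u, K u = 0 := fun u => by
      have e := hKs u x
      rw [hφ', hφ' x, hφx, zero_smul, map_zero, neg_zero, map_smul, LinearMap.smul_apply, smul_eq_mul] at e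
      rw [hφ', (mul_eq_zero.1 e).resolve_right hx, zero_smul]
    exact hl0 (Subtype.ext (by obtain ⟨u, hu⟩ := l.2; rw [← hu, hzero]; rfl))
  have hKK : ∀ u, K (K u) = 0 := fun u => by
    have e : C (C (h.tp u w)) = 0 := LinearMap.congr_fun hC.sq _
    rw [hK, hK] at e
    exact h.tp_injective hw (e.trans (map_zero (h.tp.flip w)).symm)
  have hiso : ∀ x ∈ LinearMap.range K, h.fU x x = 0 := by
    rintro _ ⟨u, rfl⟩
    rw [hKs, hKK, map_zero, neg_zero]
  obtain ⟨x, hx, hx0⟩ : ∃ x ∈ LinearMap.range K, x ≠ 0 := Submodule.exists_mem_ne_zero_of_ne_bot fun e => by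
    have : k = 0 := by show Module.finrank F (LinearMap.range K) = 0; rw [e, finrank_bot]
    omega
  obtain ⟨a, ha, hax⟩ : ∃ a, h.fU a a ≠ 0 ∧ h.fU a x ≠ 0 := by
    by_contra hcon
    push Not at hcon
    refine hx0 (h.fnd.2 x fun y => ?_)
    have : y ∈ Submodule.span F {a : U | h.fU a a ≠ 0} := by rw [h.span_aniso h2]; exact Submodule.mem_top
    exact (Submodule.span_le (p := LinearMap.ker (h.fU.flip x))).2 (fun a ha => hcon a ha) this
  set r := h.reflU a ha with hr
  have hrr : ∀ u, r (r u) = u := fun u => r.symm_apply_apply u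
  have hrx : r x ∉ LinearMap.range K := fun hm => by
    rw [hr, reflU_apply, Submodule.add_mem_iff_right _ hx, Submodule.smul_mem_iff _ (mul_ne_zero
      (neg_ne_zero.2 (div_ne_zero h2 ha)) hax)] at hm
    exact ha (hiso a hm)
  obtain ⟨e, he, ee, -⟩ := exists_isoU hG r (h.reflU_isom a ha)
  let C₂ : Module.End F V := e.toLinearMap ∘ₗ C ∘ₗ e.symm.toLinearMap
  have hC₂ : h.Conj M C₂ := hC.conj he fun T => by simp [C₂]
  have hC₂' : ∀ u y, C₂ (h.tp u y) = h.tp (r (K (r u))) y := fun u y => by
    show e (C (e.symm (h.tp u y))) = _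
    rw [show h.tp u y = e (h.tp (r u) y) by rw [ee, hrr], e.symm_apply_apply, hK, ee]
  let D : Module.End F V := g.symm.toLinearMap ∘ₗ C₂ ∘ₗ g.toLinearMap
  have hD : h.Conj M D := hC₂.conj (inv_mem hg) fun T => by
    show g.symm (C₂ (g (g.symm T))) = g.symm (C₂ T)
    rw [g.apply_symm_apply]
  set H := LinearMap.range K ⊓ LinearMap.ker (h.fU a) with hH
  have hHr : ∀ x ∈ H, r x = x := fun x hx => by
    rw [hr, reflU_apply, LinearMap.mem_ker.1 hx.2, mul_zero, zero_smul, add_zero]
  have hHk : k ≤ Module.finrank F H + 1 := by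
    have e1 := Submodule.finrank_sup_add_finrank_inf_eq (LinearMap.range K) (LinearMap.ker (h.fU a))
    have e2 := LinearMap.finrank_range_add_finrank_ker (h.fU a)
    have e3 := Submodule.finrank_le (LinearMap.range (h.fU a))
    have e4 := Submodule.finrank_le (LinearMap.range K ⊔ LinearMap.ker (h.fU a))
    rw [Module.finrank_self] at e3
    rw [← hH] at e1
    have e5 : Module.finrank F (LinearMap.range K) = k := rfl
    omega
  -- the images of the fixed part
  have hAw : ∀ v ∈ H, ∀ y, g.symm (h.tp v y) ∈ h.A w := fun v hv y => by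
    obtain ⟨u, hu⟩ := hv.1
    obtain ⟨S, hS⟩ := g.surjective (h.tp u y)
    have e1 := eg S
    rw [hS, hK, hu] at e1
    rw [e1, g.symm_apply_apply]
    exact (h.A w).smul_mem s ⟨_, rfl⟩
  have hDr : ∀ v ∈ H, ∀ y, g.symm (h.tp v y) ∈ LinearMap.range D := fun v hv y => by
    obtain ⟨u, hu⟩ := hv.1
    refine ⟨g.symm (h.tp (r u) y), ?_⟩
    show g.symm (C₂ (g (g.symm _))) = _
    rw [g.apply_symm_apply, hC₂', hrr, hu, hHr v hv]
  rcases hD.factor_type hG h2 h3 hno hW with ⟨κ, hκ⟩ | ⟨K', -, hK'⟩
  · obtain ⟨y₀, hy₀⟩ : ∃ y, κ y ≠ 0 := by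
      by_contra hcon
      push Not at hcon
      have hD0 : D = 0 := h.ext_tp fun u v => by rw [hκ, hcon, map_zero]; simp
      have := hD.rank
      rw [hD0, LinearMap.range_zero, finrank_bot] at this
      omega
    have heq : h.A (κ y₀) = LinearMap.range D := Submodule.eq_of_le_of_finrank_eq
      (by rintro _ ⟨u, rfl⟩; exact ⟨_, hκ u y₀⟩) (by rw [h.finrank_A hy₀, hD.rank])
    obtain ⟨v, hv, hv0⟩ : ∃ v ∈ H, v ≠ 0 := Submodule.exists_mem_ne_zero_of_ne_bot fun e => by
      rw [e, finrank_bot] at hHk; omega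
    obtain ⟨p, hp⟩ := hAw v hv w
    have hp0 : p ≠ 0 := fun e => by
      rw [e, map_zero, eq_comm, LinearEquiv.map_eq_zero_iff] at hp
      exact h.tp_ne_zero hv0 hw hp
    obtain ⟨t, ht⟩ := Submodule.mem_span_singleton.1 (h.tp_mem_A_iff (w := κ y₀) hp0 (by
      rw [heq]; exact hp.symm ▸ hDr v hv w))
    -- the two images agree
    refine hrx ?_
    obtain ⟨u, hu⟩ := hx
    have hm : g.symm (h.tp (r x) w) ∈ LinearMap.range D := ⟨g.symm (h.tp (r u) w), by
      show g.symm (C₂ (g (g.symm _))) = _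
      rw [g.apply_symm_apply, hC₂', hrr, hu]⟩
    rw [← heq] at hm
    obtain ⟨p', hp'⟩ := hm
    have ht0 : t ≠ 0 := fun e => hw (by rw [← ht, e, zero_smul])
    have e1 : h.tp (r x) w = g (h.tp (t⁻¹ • p') w) := by
      rw [map_smul, LinearMap.smul_apply]
      rw [map_smul, show h.tp p' w = t • h.tp p' (κ y₀) by rw [← map_smul, ht], map_smul, smul_smul,
        inv_mul_cancel₀ ht0, one_smul]
      rw [show h.tp p' (κ y₀) = g.symm (h.tp (r x) w) from hp', g.apply_symm_apply]
    have e2 : h.tp (r x) w ∈ LinearMap.range C := by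
      refine ⟨g (h.tp (s⁻¹ • t⁻¹ • p') (-w₁)), ?_⟩
      rw [eg, h.R_apply, h.c_tp, map_neg, h.g_swap, hw₁, neg_neg, one_smul, ← LinearMap.smul_apply, ← map_smul h.tp,
        smul_smul s, mul_inv_cancel₀ hs, one_smul, e1]
    obtain ⟨S, hS⟩ := e2
    have e3 := congrArg (h.c w₁) hS
    rw [h.c_tp, hw₁, one_smul] at e3
    have hcK : ∀ T, h.c w₁ (C T) = K (h.c w₁ T) := LinearMap.congr_fun (h.ext_tp (φ := h.c w₁ ∘ₗ C)
      (ψ := K ∘ₗ h.c w₁) fun u v => by simp [hK])
    exact ⟨_, (hcK S).symm.trans e3⟩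
  · -- a count of dimensions
    classical
    have hrk' : n * Module.finrank F (LinearMap.range K') = Module.finrank F U := by
      rw [← rank_first hK', hD.rank]
    set b := Module.finBasis F W
    let Φ : (Fin n → H) →ₗ[F] V := ∑ i, (h.tp.flip (b i)) ∘ₗ H.subtype ∘ₗ LinearMap.proj i
    have hΦ : ∀ x, Φ x = ∑ i, h.tp (x i : U) (b i) := fun x => by simp [Φ]; rfl
    have hcK : ∀ T, h.c w₁ (D T) = K' (h.c w₁ T) := LinearMap.congr_fun (h.ext_tp (φ := h.c w₁ ∘ₗ D)
      (ψ := K' ∘ₗ h.c w₁) fun u v => by simp [hK'])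
    let Ψ : (Fin n → H) →ₗ[F] U := h.c w₁ ∘ₗ g.symm.toLinearMap ∘ₗ Φ
    have hmemA : ∀ x, g.symm (Φ x) ∈ h.A w ⊓ LinearMap.range D := fun x => by
      rw [hΦ, map_sum]
      exact Submodule.sum_mem _ fun i _ => ⟨hAw _ (x i).2 _, hDr _ (x i).2 _⟩
    have hinj : Function.Injective Ψ := (injective_iff_map_eq_zero _).2 fun x hx => funext fun i => Subtype.ext (by
      obtain ⟨p, hp⟩ := (hmemA x).1
      have hp0 : p = 0 := by
        rw [← show h.c w₁ (h.tp p w) = p by rw [h.c_tp, hw₁, one_smul], show h.tp p w = g.symm (Φ x) from hp]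
        exact hx
      rw [hp0, map_zero, eq_comm, LinearEquiv.map_eq_zero_iff] at hp
      have := congrArg (h.c (h.gW.dualBasis h.gnd b i)) hp
      rw [hΦ, map_sum, map_zero] at this
      simp only [h.c_tp, BilinForm.apply_dualBasis_left, ite_smul, one_smul, zero_smul, Finset.sum_ite_eq',
        Finset.mem_univ, if_true] at this
      exact this)
    have hle : LinearMap.range Ψ ≤ LinearMap.range K' := by
      rintro _ ⟨x, rfl⟩
      obtain ⟨S, hS⟩ := (hmemA x).2
      exact ⟨h.c w₁ S, by rw [← hcK, hS]; rfl⟩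
    have e := Submodule.finrank_mono hle
    rw [LinearMap.finrank_range_of_inj hinj, Module.finrank_pi_fintype] at e
    simp at e
    have e' : n * k ≤ n * (Module.finrank F H + 1) := Nat.mul_le_mul_left n hHk
    have hkk : Module.finrank F (LinearMap.range K') = k := Nat.eq_of_mul_eq_mul_left (by omega) (hrk'.trans hrk.symm)
    rw [Nat.mul_add, mul_one] at e'
    have h7 := hW
    by_cases hn2 : n ≤ 2
    · have hn2' : n = 2 := by omega
      rw [hn2'] at e e' hrk
      have := h7 (by omega)
      omega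
    · nlinarith

/-- Without non-scalar root groups the lines of pure tensors are permuted. -/
theorem map_line {g : V ≃ₗ[F] V} (hg : g ∈ M) {w : W} (hw : w ≠ 0) :
    ∃ x : W, x ≠ 0 ∧ (h.A w).map g.toLinearMap = h.A x := by
  obtain ⟨w₁, hw₁⟩ := h.exists_g_one hw
  let C : Module.End F V := g.toLinearMap ∘ₗ h.P w w 1 ∘ₗ g.symm.toLinearMap
  have hC : h.Conj M C := ⟨g, hg, w, hw, 1, one_ne_zero, fun T => by simp [C]⟩
  have hr : (h.A w).map g.toLinearMap = LinearMap.range C := by
    refine le_antisymm ?_ ?_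
    · rintro _ ⟨_, ⟨u, rfl⟩, rfl⟩
      exact ⟨g (h.tp u (-w₁)), by simp [C, h.R_apply, h.g_swap w w₁, hw₁]⟩
    · rintro _ ⟨T, rfl⟩
      exact ⟨h.P w w 1 (g.symm T), ⟨_, rfl⟩, rfl⟩
  rcases hC.factor_type hG h2 h3 hno hW with ⟨κ, hκ⟩ | ⟨K, hKs, hK⟩
  · obtain ⟨y₀, hy₀⟩ : ∃ y, κ y ≠ 0 := by
      by_contra hcon
      push Not at hcon
      have hC0 : C = 0 := h.ext_tp fun u v => by rw [hκ, hcon, map_zero]; simp
      have := hC.rank
      rw [hC0, LinearMap.range_zero, finrank_bot] at this
      omega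
    exact ⟨κ y₀, hy₀, by rw [hr]; exact (Submodule.eq_of_le_of_finrank_eq
      (by rintro _ ⟨u, rfl⟩; exact ⟨_, hκ u y₀⟩) (by rw [h.finrank_A hy₀, hC.rank])).symm⟩
  · exact (hC.not_first hG h2 h3 hno hW hKs hK).elim

end TBil

end CfsgLib.TensorMax.Pair
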