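import Cfsg.Agent.Lib.TensorMax.Pair.Crit
import Cfsg.Agent.Lib.PSL2.DicksonGen

/-!
An irreducible factor of degree at least two of the block.
-/

set_option autoImplicit false
set_option linter.unusedSectionVars false
set_option linter.unusedVariables false
set_option linter.unusedSimpArgs false

namespace CfsgLib.TensorMax.Pair

open LinearMap (BilinForm)
open Polynomial (aeval)

variable {F V U W : Type*} [Field F] [AddCommGroup V] [Module F V] [AddCommGroup U] [Module F U]
  [AddCommGroup W] [Module F W]
variable [FiniteDimensional F V] [FiniteDimensional F U] [FiniteDimensional F W]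
variable {B : BilinForm F V} {M : Subgroup (V ≃ₗ[F] V)}

/-- The evaluation of an adjoined root at an endomorphism annihilated by its polynomial. -/
noncomputable def evalRoot {X : Type*} [AddCommGroup X] [Module F X] {p : Polynomial F} (hp : p.Monic)
    (S : Module.End F X) (hS : aeval S p = 0) : AdjoinRoot p →+* Module.End F X :=
  have key : ∀ f, aeval S (AdjoinRoot.modByMonicHom hp (AdjoinRoot.mk p f)) = aeval S f := fun f => by
    rw [AdjoinRoot.modByMonicHom_mk]
    conv_rhs => rw [← Polynomial.modByMonic_add_div f p]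
    rw [map_add, map_mul, hS, zero_mul, add_zero]
  { toFun := fun k => aeval S (AdjoinRoot.modByMonicHom hp k)
    map_one' := by rw [← map_one (AdjoinRoot.mk p), key, map_one]
    map_zero' := by rw [map_zero, map_zero]
    map_add' := fun a b => by rw [map_add, map_add]
    map_mul' := fun a b => by
      induction a using AdjoinRoot.induction_on with
      | ih f =>
        induction b using AdjoinRoot.induction_on with
        | ih g => rw [← map_mul (AdjoinRoot.mk p), key, key, key, map_mul] }

theorem evalRoot_mk {X : Type*} [AddCommGroup X] [Module F X] {p : Polynomial F} (hp : p.Monic)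
    (S : Module.End F X) (hS : aeval S p = 0) (f : Polynomial F) :
    evalRoot hp S hS (AdjoinRoot.mk p f) = aeval S f := by
  show aeval S (AdjoinRoot.modByMonicHom hp (AdjoinRoot.mk p f)) = _
  rw [AdjoinRoot.modByMonicHom_mk]
  conv_rhs => rw [← Polynomial.modByMonic_add_div f p]
  rw [map_add, map_mul, hS, zero_mul, add_zero]

/-- An upper unitriangular matrix. -/
def up {K : Type*} [CommRing K] (k : K) : Matrix.SpecialLinearGroup (Fin 2) K :=
  ⟨!![1, k; 0, 1], by simp [Matrix.det_fin_two]⟩

theorem up_mul {K : Type*} [CommRing K] (k l : K) : up k * up l = up (k + l) :=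
  Subtype.ext (by
    rw [Matrix.SpecialLinearGroup.coe_mul]
    ext i j; fin_cases i <;> fin_cases j <;> simp [up, Matrix.mul_apply, Fin.sum_univ_two, add_comm])

theorem card_three [Fintype F] (h2 : (2 : F) ≠ 0) (h : ∀ c : F, c ≠ 0 → c * c = 1) : Fintype.card F = 3 := by
  classical
  have hu : (Finset.univ : Finset F) = {0, 1, -1} := by
    ext c
    simp only [Finset.mem_univ, Finset.mem_insert, Finset.mem_singleton, true_iff]
    rcases eq_or_ne c 0 with h0 | h0
    · exact Or.inl h0
    · exact Or.inr (mul_self_eq_one_iff.1 (h c h0))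
  rw [← Finset.card_univ, hu, Finset.card_insert_of_notMem, Finset.card_pair]
  · exact fun e => h2 (by linear_combination e)
  · simp only [Finset.mem_insert, Finset.mem_singleton, not_or]
    exact ⟨zero_ne_one, fun e => one_ne_zero (α := F) (by linear_combination e)⟩

namespace TBil

variable {h : TBil B U W} {q : W} {C : Module.End F V} (hC : h.Good M q C)

include hC

variable [Fintype F] (hG : h.Gens M) (h2 : (2 : F) ≠ 0) (h3 : 3 ≤ Module.finrank F U) (hno : ¬ h.Non M)

include hG h2 h3 hno

/-- An irreducible factor of degree at least two forces three field elements and a square root of minus one. -/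
theorem Good.field_false {p₀ : Polynomial F} (hmon : p₀.Monic) (hirr : Irreducible p₀) (hdeg : 2 ≤ p₀.natDegree)
    {v : U} (hv : v ∈ LinearMap.range (h.blk q C)) (hv0 : v ≠ 0) (hpv : aeval (h.blk q C) p₀ v = 0) :
    Fintype.card F = 3 ∧ ∀ x ∈ LinearMap.range (h.blk q C), aeval (h.blk q C) p₀ x = 0 →
      h.blk q C (h.blk q C x) = -x := by
  classical
  set G := h.blk q C with hGdef
  set T : Submodule F U := LinearMap.range G ⊓ LinearMap.ker (aeval G p₀) with hTdef
  have hTG : ∀ x ∈ T, G x ∈ T := fun x hx => ⟨LinearMap.mem_range_self _ x, LinearMap.mem_ker.2 (by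
    have e := LinearMap.congr_fun (congrArg (aeval G) (mul_comm p₀ Polynomial.X)) x
    rw [map_mul, map_mul, Polynomial.aeval_X, Module.End.mul_apply, Module.End.mul_apply, LinearMap.mem_ker.1 hx.2,
      map_zero] at e
    exact e)⟩
  set Gt : Module.End F T := G.restrict hTG with hGt
  have hres : ∀ (f : Polynomial F) (x : T), ((aeval Gt f x : T) : U) = aeval G f x := fun f => by
    induction f using Polynomial.induction_on' with
    | add σ τ e e' => intro y; simp [e, e']
    | monomial n r =>
      intro y
      rw [Polynomial.aeval_monomial, Polynomial.aeval_monomial, Module.End.mul_apply, Module.End.mul_apply,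
        Module.algebraMap_end_apply, Module.algebraMap_end_apply, Submodule.coe_smul, hGt, Module.End.pow_restrict]
      rfl
  have hGt0 : aeval Gt p₀ = 0 := LinearMap.ext fun x => Subtype.ext ((hres p₀ x).trans x.2.2)
  haveI : Fact (Irreducible p₀) := ⟨hirr⟩
  set K := AdjoinRoot p₀
  haveI : Module.Finite F K := (AdjoinRoot.powerBasis hirr.ne_zero).finite
  haveI : Finite K := Module.finite_of_finite F
  haveI : Fintype K := Fintype.ofFinite K
  set ev := evalRoot hmon Gt hGt0 with hev
  set r : K := AdjoinRoot.root p₀ with hr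
  have hev_r : ev r = Gt := by rw [hr, hev, AdjoinRoot.root, evalRoot_mk, Polynomial.aeval_X]
  have hev_F : ∀ (c : F) (x : T), ev (algebraMap F K c) x = c • x := fun c x => by
    rw [AdjoinRoot.algebraMap_eq, ← AdjoinRoot.mk_C, hev, evalRoot_mk, Polynomial.aeval_C, Module.algebraMap_end_apply]
  haveI : Nontrivial T := ⟨⟨⟨v, hv, hpv⟩, 0, fun e => hv0 (congrArg Subtype.val e)⟩⟩
  have hinj : Function.Injective ev := ev.injective
  obtain ⟨p, hp⟩ := CharP.exists F
  haveI : Fact p.Prime := ⟨CharP.char_is_prime F p⟩
  haveI : CharP K p := charP_of_injective_algebraMap (algebraMap F K).injective p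
  haveI := hC.finite
  -- pairs of an element and its matrix
  let rel : (V ≃ₗ[F] V) × Matrix.SpecialLinearGroup (Fin 2) K → Prop := fun y => y.1 ∈ hC.grp ∧ ∀ a b : T,
    y.1 (h.Phi q C ((a : U), (b : U))) = h.Phi q C (((ev (y.2.1 0 0) a + ev (y.2.1 0 1) b : T) : U),
      ((ev (y.2.1 1 0) a + ev (y.2.1 1 1) b : T) : U))
  have hmul : ∀ {x y}, rel x → rel y → rel (x * y) := fun {x y} hx hy => ⟨mul_mem hx.1 hy.1, fun a b => by
    rw [Prod.fst_mul, LinearEquiv.mul_apply, hy.2, hx.2, Prod.snd_mul, Matrix.SpecialLinearGroup.coe_mul]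
    simp [Matrix.mul_apply, Fin.sum_univ_two, map_add, map_mul, Module.End.mul_apply]
    congr 1
    exact Prod.ext (by simp only; abel) (by simp only; abel)⟩
  have hone : rel 1 := ⟨one_mem _, fun a b => by simp⟩
  let Γp : Subgroup ((V ≃ₗ[F] V) × Matrix.SpecialLinearGroup (Fin 2) K) :=
    { carrier := {y | rel y}
      mul_mem' := fun hx hy => hmul hx hy
      one_mem' := hone
      inv_mem' := fun {x} hx => by
        have hpow : ∀ n : ℕ, rel (x ^ n) := fun n => by
          induction n with
          | zero => rw [pow_zero]; exact hone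
          | succ n ih => rw [pow_succ]; exact hmul ih hx
        show rel x⁻¹
        rw [inv_eq_of_mul_eq_one_right (show x * x ^ (orderOf x - 1) = 1 by
          rw [← pow_succ', Nat.sub_add_cancel (orderOf_pos x), pow_orderOf_eq_one])]
        exact hpow _ }
  have hgenR : ∀ c : F, (uni (h.P q q 1) (h.R_sq q) (Multiplicative.ofAdd c), up (algebraMap F K c * r)) ∈ Γp :=
    fun c => ⟨Subgroup.mem_sup_left ⟨_, rfl⟩, fun a b => by
      rw [uni_apply, h.R_Phi, ← map_smul, ← map_add]
      simp [up, map_mul, Module.End.mul_apply, hev_F, hev_r, hGt, hGdef]⟩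
  have hgenC : (uni C hC.sq (Multiplicative.ofAdd (1 : F)),
      (⟨!![1, 0; 1, 1], by simp [Matrix.det_fin_two]⟩ : Matrix.SpecialLinearGroup (Fin 2) K)) ∈ Γp :=
    ⟨Subgroup.mem_sup_right ⟨_, rfl⟩, fun a b => by
      rw [uni_apply, h.C_Phi hC.sq, ← map_smul, ← map_add]
      simp [add_comm]⟩
  set S := Γp.map (MonoidHom.snd _ _) with hS
  -- the first projection is injective
  have hdvdΓ : Nat.card S ∣ Nat.card hC.grp := by
    refine (Subgroup.card_map_dvd _ _).trans ?_
    let f : Γp →* hC.grp := MonoidHom.mk' (fun y => ⟨y.1.1, y.2.1⟩) (fun _ _ => rfl)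
    refine Subgroup.card_dvd_of_injective f ((injective_iff_map_eq_one f).2 fun y hy => ?_)
    have hy1 : y.1.1 = 1 := congrArg Subtype.val hy
    refine Subtype.ext (Prod.ext hy1 (Subtype.ext ?_))
    have hall : ∀ a b : T, ev (y.1.2.1 0 0) a + ev (y.1.2.1 0 1) b = a ∧ ev (y.1.2.1 1 0) a + ev (y.1.2.1 1 1) b = b :=
      fun a b => by
        have e := y.2.2 a b
        rw [hy1, LinearEquiv.coe_one, id] at e
        obtain ⟨e1, e2⟩ := hC.Phi_inj (T.add_mem (Submodule.coe_mem _) (Submodule.coe_mem _)).1 b.2.1 e.symm
        exact ⟨Subtype.ext e1, Subtype.ext e2⟩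
    ext i j
    fin_cases i <;> fin_cases j
    · exact hinj (LinearMap.ext fun a => by simpa using (hall a 0).1)
    · exact hinj (LinearMap.ext fun b => by simpa using (hall 0 b).1)
    · exact hinj (LinearMap.ext fun a => by simpa using (hall a 0).2)
    · exact hinj (LinearMap.ext fun b => by simpa using (hall 0 b).2)
  have hupR : ∀ c : F, up (algebraMap F K c * r) ∈ S := fun c => ⟨_, hgenR c, rfl⟩
  let Λ : AddSubgroup K :=
    { carrier := {k | up k ∈ S}
      zero_mem' := by simpa using hupR 0
      add_mem' := fun {a b} ha hb => by show up (a + b) ∈ S; rw [← up_mul]; exact mul_mem ha hb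
      neg_mem' := fun {a} ha => by
        show up (-a) ∈ S
        rw [show up (-a) = (up a)⁻¹ from eq_inv_of_mul_eq_one_left (by
          rw [up_mul, neg_add_cancel]; exact Subtype.ext (by simp [up, Matrix.one_fin_two]))]
        exact inv_mem ha }
  -- the unit lies among the parameters unless there are three elements
  have hone_mem : (Fintype.card F = 3 ∧ r * r = -1) ∨ (1 : K) ∈ Λ := by
    refine or_iff_not_imp_left.2 fun hex => ?_
    obtain ⟨c, hc, hcr⟩ : ∃ c : F, c ≠ 0 ∧ (algebraMap F K c * r) * (algebraMap F K c * r) ≠ -1 := by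
      by_contra hcon
      push Not at hcon
      have h1 := hcon 1 one_ne_zero
      rw [map_one, one_mul] at h1
      refine hex ⟨card_three h2 fun c hc => ?_, h1⟩
      have e := hcon c hc
      rw [mul_mul_mul_comm, h1, mul_neg, mul_one, neg_inj, ← map_mul, ← map_one (algebraMap F K)] at e
      exact (algebraMap F K).injective e
    set lam := algebraMap F K c * r with hlam
    set K₀ := Subfield.closure ({lam} : Set K) with hK₀
    haveI : Fintype K₀ := Fintype.ofFinite K₀
    haveI : CharP K₀ p := (RingHom.charP_iff_charP K₀.subtype p).2 inferInstance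
    let lam₀ : K₀ := ⟨lam, Subfield.subset_closure rfl⟩
    have hlam0 : lam₀ ≠ 0 := fun e => by
      have e' : lam = 0 := congrArg Subtype.val e
      rw [hlam, mul_eq_zero] at e'
      rcases e' with e' | e'
      · exact hc ((map_eq_zero _).1 e')
      · refine absurd ?_ hv0
        have e2 := congrArg Subtype.val (LinearMap.congr_fun ((congrArg ev e').symm.trans hev_r) ⟨v, hv, hpv⟩)
        rw [map_zero, LinearMap.zero_apply] at e2
        exact hC.blk_inj hv e2.symm
    have hgen : Subfield.closure ({lam₀} : Set K₀) = ⊤ := by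
      have key : (Subfield.closure ({lam₀} : Set K₀)).map K₀.subtype = K₀ := by
        rw [RingHom.map_field_closure, Set.image_singleton]; rfl
      refine eq_top_iff.2 fun x _ => ?_
      have hx : (x : K) ∈ (Subfield.closure ({lam₀} : Set K₀)).map K₀.subtype := key.symm ▸ x.2
      obtain ⟨y, hy, e⟩ := hx
      exact Subtype.ext e ▸ hy
    have h20 : (2 : K₀) ≠ 0 := fun e => h2 ((algebraMap F K).injective (by
      rw [map_ofNat, map_zero]; exact congrArg Subtype.val e))
    rcases CfsgLib.PSL2.Gen.main p h20 lam₀ hlam0 hgen with htop | ⟨-, hsq⟩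
    · have hle : Subgroup.closure (CfsgLib.PSL2.Gen.gens lam₀) ≤ S.comap (Matrix.SpecialLinearGroup.map K₀.subtype) := by
        refine (Subgroup.closure_le _).2 ?_
        rintro g (hg | hg)
        · refine ⟨_, hgenC, Subtype.ext ?_⟩
          show _ = (g : Matrix (Fin 2) (Fin 2) K₀).map K₀.subtype
          rw [hg]; ext i j; fin_cases i <;> fin_cases j <;> simp
        · refine ⟨_, hgenR c, Subtype.ext ?_⟩
          show _ = (g : Matrix (Fin 2) (Fin 2) K₀).map K₀.subtype
          rw [hg]; ext i j; fin_cases i <;> fin_cases j <;> simp [up, lam₀, lam]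
      rw [htop] at hle
      have h1 := hle (Subgroup.mem_top (up (1 : K₀)))
      show up (1 : K) ∈ S
      convert Subgroup.mem_comap.1 h1 using 1
      refine Subtype.ext ?_
      show _ = (up (1 : K₀) : Matrix (Fin 2) (Fin 2) K₀).map K₀.subtype
      ext i j; fin_cases i <;> fin_cases j <;> simp [up]
    · refine absurd ?_ hcr
      have := congrArg Subtype.val hsq
      rw [← pow_two]; simpa [lam₀] using this
  rcases hone_mem with ⟨h3F, hr2⟩ | hone_mem
  · refine ⟨h3F, fun x hx hpx => ?_⟩
    have e := congrArg Subtype.val (LinearMap.congr_fun ((map_mul ev r r).symm.trans (congrArg ev hr2)) ⟨x, hx, hpx⟩)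
    rw [Module.End.mul_apply, hev_r, map_neg, map_one, LinearMap.neg_apply, Module.End.one_apply] at e
    simpa [hGt] using e
  exfalso
  obtain ⟨n, hn⟩ : ∃ n, Nat.card Λ = p ^ n := by
    obtain ⟨k, -, hk⟩ := FiniteField.card K p
    obtain ⟨n, -, hn⟩ := (Nat.dvd_prime_pow Fact.out).1
      (hk ▸ Nat.card_eq_fintype_card (α := K) ▸ AddSubgroup.card_addSubgroup_dvd_card Λ)
    exact ⟨n, hn⟩
  refine hC.no_big hG h2 h3 hno (n := n) ?_ ?_
  · refine dvd_trans ?_ hdvdΓ
    rw [← hn, ← Nat.card_congr (Multiplicative.ofAdd (α := Λ)).symm]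
    refine Subgroup.card_dvd_of_injective
      (MonoidHom.mk' (fun k : Multiplicative Λ => (⟨up ((Multiplicative.toAdd k : Λ) : K), (Multiplicative.toAdd k).2⟩ : S))
        (fun a b => Subtype.ext (up_mul _ _).symm)) fun a b e => ?_
    have := congrFun (congrFun (congrArg Subtype.val (congrArg Subtype.val e)) 0) 1
    exact Multiplicative.toAdd.injective (Subtype.ext (by simpa [up] using this))
  · rw [← hn, Nat.card_eq_fintype_card (α := F)]
    let f : F → Λ := fun c => ⟨algebraMap F K c * r, hupR c⟩
    haveI : Fintype Λ := Fintype.ofFinite _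
    rw [Nat.card_eq_fintype_card]
    have hr0 : r ≠ 0 := fun e => by
      have e2 := congrArg Subtype.val (LinearMap.congr_fun ((congrArg ev e).symm.trans hev_r) ⟨v, hv, hpv⟩)
      rw [map_zero, LinearMap.zero_apply] at e2
      exact hv0 (hC.blk_inj hv e2.symm)
    have hfi : Function.Injective f := fun a b e => (algebraMap F K).injective
      (mul_right_cancel₀ hr0 (congrArg Subtype.val e))
    refine Fintype.card_lt_of_injective_of_notMem f hfi (b := ⟨1, hone_mem⟩) ?_
    rintro ⟨c, hc⟩
    have hc' : algebraMap F K c * r = 1 := congrArg Subtype.val hc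
    have hroot : p₀.IsRoot c⁻¹ := by
      refine (algebraMap F K).injective ?_
      rw [← Polynomial.aeval_algebraMap_apply_eq_algebraMap_eval, map_zero, map_inv₀, inv_eq_of_mul_eq_one_right hc']
      exact AdjoinRoot.eval₂_root p₀
    have : p₀.natDegree = 1 :=
      Polynomial.natDegree_eq_of_degree_eq_some (Polynomial.degree_eq_one_of_irreducible_of_root hirr hroot)
    omega

end TBil

end CfsgLib.TensorMax.Pair
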