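import Cfsg.Agent.Lib.TensorMax.Pair.TwoDim

/-!
A non-scalar root group gives all transvections.
-/

set_option autoImplicit false
set_option linter.unusedSectionVars false
set_option linter.unusedVariables false
set_option linter.unusedSimpArgs false

namespace CfsgLib.TensorMax.Pair

open LinearMap (BilinForm)

variable {F V U W : Type*} [Field F] [AddCommGroup V] [Module F V] [AddCommGroup U] [Module F U]
  [AddCommGroup W] [Module F W]
variable [FiniteDimensional F V] [FiniteDimensional F U] [FiniteDimensional F W]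
variable {B : BilinForm F V} {M : Subgroup (V ≃ₗ[F] V)}

/-- All transvections with a given centre. -/
def TV (B : BilinForm F V) (M : Subgroup (V ≃ₗ[F] V)) (v : V) : Prop := ∀ t : F, In M (t • (B v).smulRight v)

theorem TV.smul {v : V} (hv : TV B M v) (r : F) : TV B M (r • v) := fun t => by
  refine Eq.subst (motive := fun X => In M X) (LinearMap.ext fun T => ?_) (hv (t * r * r))
  simp [smul_smul]
  ring_nf

theorem TV.map (hM : ∀ k ∈ M, ∀ S T, B (k S) (k T) = B S T) {v : V} (hv : TV B M v) {k : V ≃ₗ[F] V} (hk : k ∈ M) :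
    TV B M (k v) := fun t => (hv t).conj hk fun T => by simp [hM k hk]

theorem TV.move (hM : ∀ k ∈ M, ∀ S T, B (k S) (k T) = B S T) {a b : V} (ha : TV B M a) (hb : TV B M b)
    (hab : B a b ≠ 0) (s : F) : TV B M (b + s • a) := by
  obtain ⟨k, hk, e⟩ := ha (s / B a b)
  have := hb.map hM hk
  rwa [e, LinearMap.smul_apply, LinearMap.smulRight_apply, smul_smul, div_mul_cancel₀ _ hab] at this

/-- A set of centres containing a hyperbolic pair and not split by orthogonality is everything. -/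
theorem TV.all (hM : ∀ k ∈ M, ∀ S T, B (k S) (k T) = B S T) (h2 : (2 : F) ≠ 0) (hB : B.IsAlt)
    (hnd : B.Nondegenerate) {a b : V} (ha : TV B M a) (hb : TV B M b) (hab : B a b = 1)
    (hdec : ∀ S : Submodule F V, a ∈ S → b ∈ S →
      (∀ c, TV B M c → c ∈ S ∨ ∀ s ∈ S, B c s = 0) → S = ⊤) : ∀ v, TV B M v := by
  have hskew : ∀ x y, B x y = - B y x := fun x y => (BilinForm.IsAlt.neg_eq hB y x).symm
  have hba : B b a = -1 := by rw [hskew, hab]
  let zp : Module.End F V := 1 - (B.flip b).smulRight a - (B a).smulRight b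
  have hzp : ∀ v, zp v = v - B v b • a - B a v • b := fun v => by simp [zp]
  have hdecomp : ∀ v, v = B v b • a + B a v • b + zp v := fun v => by rw [hzp]; abel
  have hza : ∀ v, B a (zp v) = 0 := fun v => by simp [hzp, hB a, hab]
  have hzb : ∀ v, B (zp v) b = 0 := fun v => by simp [hzp, hB b, hab]
  -- changing the plane part
  have stepA : ∀ (α β : F) (z : V), B a z = 0 → β ≠ 0 → TV B M (α • a + β • b + z) → ∀ α' : F,
      TV B M (α' • a + β • b + z) := fun α β z hz hβ hv α' => by
    have := ha.move hM hv (by simp [hB a, hab, hz, hβ]) (α' - α)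
    rwa [show α • a + β • b + z + (α' - α) • a = α' • a + β • b + z by module] at this
  have stepB : ∀ (α β : F) (z : V), B z b = 0 → α ≠ 0 → TV B M (α • a + β • b + z) → ∀ β' : F,
      TV B M (α • a + β' • b + z) := fun α β z hz hα hv β' => by
    have := hb.move hM hv (by
      rw [hskew]; simp [hB b, hab, hz, hα]) (β' - β)
    rwa [show α • a + β • b + z + (β' - β) • b = α • a + β' • b + z by module] at this
  have change : ∀ (α β : F) (z : V), B a z = 0 → B z b = 0 → (α ≠ 0 ∨ β ≠ 0) → TV B M (α • a + β • b + z) →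
      ∀ α' β' : F, (α' ≠ 0 ∨ β' ≠ 0) → TV B M (α' • a + β' • b + z) := by
    intro α β z hza hzb hαβ hv α' β' hαβ'
    have h11 : TV B M ((1 : F) • a + (1 : F) • b + z) := by
      by_cases hβ : β = 0
      · exact stepA α 1 z hza one_ne_zero (stepB α β z hzb (hαβ.resolve_right (not_not.2 hβ)) hv 1) 1
      · exact stepB 1 β z hzb one_ne_zero (stepA α β z hza hβ hv 1) 1
    by_cases hβ' : β' = 0
    · exact stepB α' 1 z hzb (hαβ'.resolve_right (not_not.2 hβ')) (stepA 1 1 z hza one_ne_zero h11 α') β'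
    · exact stepA 1 β' z hza hβ' (stepB 1 1 z hzb one_ne_zero h11 β') α'
  let Z : Submodule F V :=
    { carrier := {z | B a z = 0 ∧ B z b = 0 ∧ TV B M (a + z)}
      zero_mem' := ⟨map_zero _, by simp, by simpa using ha⟩
      add_mem' := fun {z z'} ⟨h1, h2', h3⟩ ⟨k1, k2, k3⟩ => by
        refine ⟨by simp [h1, k1], by simp [h2', k2], ?_⟩
        obtain ⟨μ, hμ, hμ'⟩ : ∃ μ : F, μ ≠ 0 ∧ μ + B z z' ≠ 0 := by
          by_cases e : (1 : F) + B z z' = 0
          · exact ⟨-1, neg_ne_zero.2 one_ne_zero, fun e' => h2 (by linear_combination e - e')⟩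
          · exact ⟨1, one_ne_zero, e⟩
        have hy := change 1 0 z' k1 k2 (Or.inl one_ne_zero) (by simpa using k3) 0 μ (Or.inr hμ)
        have := h3.move hM hy (by
          rw [zero_smul, zero_add]
          simp only [map_add, map_smul, LinearMap.add_apply, LinearMap.smul_apply, smul_eq_mul, hab, k1, h2', mul_zero,
            add_zero, zero_add, mul_one]
          simpa using hμ') 1
        have e := change 1 μ (z + z') (by simp [h1, k1]) (by simp [h2', k2]) (Or.inl one_ne_zero) (by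
          rwa [show (0 : F) • a + μ • b + z' + (1 : F) • (a + z) = (1 : F) • a + μ • b + (z + z') by module] at this)
          1 0 (Or.inl one_ne_zero)
        simpa using e
      smul_mem' := fun r z ⟨h1, h2', h3⟩ => by
        refine ⟨by simp [h1], by simp [h2'], ?_⟩
        rcases eq_or_ne r 0 with rfl | hr
        · simpa using ha
        have e := change r 0 (r • z) (by simp [h1]) (by simp [h2']) (Or.inl hr) (by
          have := h3.smul r
          rwa [show r • (a + z) = r • a + (0 : F) • b + r • z by module] at this) 1 0 (Or.inl one_ne_zero)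
        simpa using e }
  let S : Submodule F V := Z.comap zp
  have hout : ∀ c, TV B M c → (B c b ≠ 0 ∨ B a c ≠ 0) → c ∈ S := fun c hc hne => by
    refine ⟨hza c, hzb c, ?_⟩
    have e := change (B c b) (B a c) (zp c) (hza c) (hzb c) hne (by rw [← hdecomp]; exact hc) 1 0 (Or.inl one_ne_zero)
    simpa using e
  have hS : S = ⊤ := hdec S (hout a ha (Or.inl (by rw [hab]; exact one_ne_zero)))
    (hout b hb (Or.inr (by rw [hab]; exact one_ne_zero))) fun c hc => by
      by_cases hne : B c b ≠ 0 ∨ B a c ≠ 0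
      · exact Or.inl (hout c hc hne)
      push Not at hne
      by_cases hd : ∃ d, TV B M d ∧ (B d b ≠ 0 ∨ B a d ≠ 0) ∧ B c d ≠ 0
      · obtain ⟨d, hd, hdne, hcd⟩ := hd
        refine Or.inl ?_
        have := hout _ (hd.move hM hc (by rw [hskew]; exact neg_ne_zero.2 hcd) 1) (by simpa [hne.1, hne.2] using hdne)
        rw [one_smul] at this
        have e := S.sub_mem this (hout d hd hdne)
        rwa [add_sub_cancel_right] at e
      push Not at hd
      refine Or.inr fun s hs => ?_
      have h1 : B c a = 0 := by rw [hskew, hne.2, neg_zero]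
      obtain ⟨k1, k2, k3⟩ := hs
      have := hd _ k3 (Or.inl (by simp [hab, k2]))
      rw [map_add, h1, zero_add] at this
      rw [hdecomp s]
      simp [hne.1, h1, this]
  intro v
  have hz : ∀ x, zp x ∈ Z := fun x => (hS ▸ Submodule.mem_top : x ∈ S)
  have hout' : ∀ x, (B x b ≠ 0 ∨ B a x ≠ 0) → TV B M x := fun x hx => by
    have e := change 1 0 (zp x) (hza x) (hzb x) (Or.inl one_ne_zero) (by simpa using (hz x).2.2) _ _ hx
    rwa [← hdecomp] at e
  by_cases hv : B v b ≠ 0 ∨ B a v ≠ 0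
  · exact hout' v hv
  push Not at hv
  rcases eq_or_ne v 0 with rfl | hv0
  · simpa using ha.smul 0
  obtain ⟨y, hy⟩ : ∃ y, B y v ≠ 0 := by
    by_contra e
    push Not at e
    exact hv0 (hnd.2 v e)
  set x := a + zp y
  have hxb : B x b = 1 := by simp [x, hab, hzb]
  have hBv : B x v ≠ 0 := by
    have hbv : B b v = 0 := by rw [hskew, hv.1, neg_zero]
    simp [x, hzp, hv.2, hbv, hy]
  have := (hout' x (Or.inl (by rw [hxb]; exact one_ne_zero))).move hM
    (hout' (v - x) (Or.inl (by rw [map_sub, LinearMap.sub_apply, hv.1, hxb, zero_sub]; exact neg_ne_zero.2 one_ne_zero)))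
    (by rw [map_sub, hB x, sub_zero]; exact hBv) 1
  rwa [one_smul, sub_add_cancel] at this

namespace TBil

variable {h : TBil B U W}
variable [Fintype F] (hG : h.Gens M) (h2 : (2 : F) ≠ 0) (h3 : 3 ≤ Module.finrank F U)

omit [FiniteDimensional F V] [FiniteDimensional F W] in
/-- A nondegenerate subspace of dimension two represents every value. -/
theorem exists_value (h2 : (2 : F) ≠ 0) {p q : U} (hp : h.fU p p ≠ 0) (hq : h.fU q q ≠ 0) (hpq : h.fU p q = 0)
    (v : F) : ∃ s t : F, h.fU (s • p + t • q) (s • p + t • q) = v := by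
  have hchar : ringChar F ≠ 2 := fun e => h2 (by
    have := ringChar.Nat.cast_ringChar (R := F)
    rw [e] at this
    exact_mod_cast this)
  have hd : Fintype.card F % 2 = 1 := FiniteField.odd_card_of_char_ne_two hchar
  obtain ⟨s, t, e⟩ := FiniteField.exists_root_sum_quadratic
    (f := Polynomial.C (h.fU p p) * Polynomial.X ^ 2) (g := Polynomial.C (h.fU q q) * Polynomial.X ^ 2 - Polynomial.C v)
    (Polynomial.degree_C_mul_X_pow 2 hp)
    (by rw [Polynomial.degree_sub_C (by rw [Polynomial.degree_C_mul_X_pow 2 hq]; exact two_pos),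
      Polynomial.degree_C_mul_X_pow 2 hq]; rfl) hd
  refine ⟨s, t, ?_⟩
  simp at e
  simp [hpq, h.fSym q p]
  linear_combination e

include h2 h3 in
/-- A subspace which every anisotropic vector lies in or is orthogonal to is everything. -/
theorem inv_top (hex : 4 ≤ Module.finrank F U ∨ ∃ s : F, s ≠ 0 ∧ s * s ≠ 1) {a : U} (ha : a = 0 ∨ h.fU a a ≠ 0)
    (Y : Submodule F U) (hY : Y ≤ LinearMap.ker (h.fU a)) (hY0 : Y ≠ ⊥)
    (hinv : ∀ b, h.fU a b = 0 → h.fU b b ≠ 0 → b ∈ Y ∨ ∀ y ∈ Y, h.fU b y = 0) : LinearMap.ker (h.fU a) ≤ Y := by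
  haveI : Nontrivial U := Module.nontrivial_of_finrank_pos (R := F) (by omega)
  set A := LinearMap.ker (h.fU a) with hA
  have hA2 : Module.finrank F U ≤ Module.finrank F A + 1 := by
    have e1 := LinearMap.finrank_range_add_finrank_ker (h.fU a)
    have e2 := Submodule.finrank_le (LinearMap.range (h.fU a))
    rw [Module.finrank_self] at e2
    rw [← hA] at e1
    omega
  have hndA : ∀ x ∈ A, (∀ z ∈ A, h.fU x z = 0) → x = 0 := fun x hx hxz => h.fnd.1 x fun z => by
    rcases ha with rfl | ha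
    · exact hxz z (LinearMap.mem_ker.2 (by simp))
    · have := hxz (z - (h.fU a z / h.fU a a) • a) (LinearMap.mem_ker.2 (by
        rw [map_sub, map_smul, smul_eq_mul, div_mul_cancel₀ _ ha, sub_self]))
      rwa [map_sub, map_smul, h.fSym x a, LinearMap.mem_ker.1 hx, smul_zero, sub_zero] at this
  obtain ⟨b₀, hb₀, hb₀'⟩ : ∃ b ∈ A, h.fU b b ≠ 0 := by
    by_contra hcon
    push Not at hcon
    obtain ⟨x, hx, hx0⟩ := Submodule.exists_mem_ne_zero_of_ne_bot (show A ≠ ⊥ from fun e => by
      rw [e, finrank_bot] at hA2; omega)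
    refine hx0 (hndA x hx fun z hz => ?_)
    have := hcon _ (A.add_mem hx hz)
    simp only [map_add, LinearMap.add_apply, hcon x hx, hcon z hz, h.fSym z x, zero_add, add_zero] at this
    exact (mul_eq_zero.1 (show (2 : F) * h.fU x z = 0 by linear_combination this)).resolve_left h2
  have hdisj : Y ⊓ h.fU.orthogonal Y = ⊥ := (Submodule.eq_bot_iff _).2 fun x hx => by
    obtain ⟨hxY, hx'⟩ := hx
    have hb : ∀ b ∈ A, h.fU b b ≠ 0 → h.fU x b = 0 := fun b hb hbb => by
      rcases hinv b hb hbb with hm | hm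
      · rw [h.fSym]; exact BilinForm.mem_orthogonal_iff.1 hx' b hm
      · rw [h.fSym]; exact hm x hxY
    refine hndA x (hY hxY) fun z hz => ?_
    by_cases hzz : h.fU z z = 0
    · have h0 := hb b₀ hb₀ hb₀'
      by_cases hp : h.fU (z + b₀) (z + b₀) = 0
      · have hm : h.fU (z - b₀) (z - b₀) ≠ 0 := fun hm => by
          simp only [map_add, map_sub, LinearMap.add_apply, LinearMap.sub_apply, hzz, h.fSym b₀ z] at hp hm
          exact mul_ne_zero h2 hb₀' (by linear_combination hp + hm)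
        have := hb _ (A.sub_mem hz hb₀) hm
        rwa [map_sub, h0, sub_zero] at this
      · have := hb _ (A.add_mem hz hb₀) hp
        rwa [map_add, h0, add_zero] at this
    · exact hb z hz hzz
  have hsup : Y ⊔ h.fU.orthogonal Y = ⊤ := Submodule.eq_top_of_finrank_eq (by
    have e1 := Submodule.finrank_sup_add_finrank_inf_eq Y (h.fU.orthogonal Y)
    have e3 := BilinForm.finrank_orthogonal h.fnd Y
    have e4 := Submodule.finrank_le Y
    rw [hdisj, finrank_bot] at e1
    omega)
  set Y' := h.fU.orthogonal Y ⊓ A with hY'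
  have hsplit : ∀ z ∈ A, ∃ y ∈ Y, ∃ y' ∈ Y', y + y' = z := fun z hz => by
    obtain ⟨y, hy, y', hy', rfl⟩ := Submodule.mem_sup.1 (show z ∈ Y ⊔ h.fU.orthogonal Y by
      rw [hsup]; exact Submodule.mem_top)
    exact ⟨y, hy, y', ⟨hy', by have := A.sub_mem hz (hY hy); rwa [add_sub_cancel_left] at this⟩, rfl⟩
  have horth : ∀ y ∈ Y, ∀ y' ∈ Y', h.fU y y' = 0 := fun y hy y' hy' => BilinForm.mem_orthogonal_iff.1 hy'.1 y hy
  -- each part is nondegenerate
  have hndY : ∀ x ∈ Y, (∀ z ∈ Y, h.fU x z = 0) → x = 0 := fun x hx hxz => hndA x (hY hx) fun z hz => by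
    obtain ⟨y, hy, y', hy', rfl⟩ := hsplit z hz
    rw [map_add, hxz y hy, horth x hx y' hy', add_zero]
  have hndY' : ∀ x ∈ Y', (∀ z ∈ Y', h.fU x z = 0) → x = 0 := fun x hx hxz => hndA x hx.2 fun z hz => by
    obtain ⟨y, hy, y', hy', rfl⟩ := hsplit z hz
    rw [map_add, h.fSym x y, horth y hy x hx, hxz y' hy', add_zero]
  have haniso : ∀ S : Submodule F U, (∀ x ∈ S, (∀ z ∈ S, h.fU x z = 0) → x = 0) → S ≠ ⊥ →
      ∃ p ∈ S, h.fU p p ≠ 0 := fun S hS hS0 => by
    by_contra hcon
    push Not at hcon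
    obtain ⟨x, hx, hx0⟩ := Submodule.exists_mem_ne_zero_of_ne_bot hS0
    refine hx0 (hS x hx fun z hz => ?_)
    have := hcon _ (S.add_mem hx hz)
    simp only [map_add, LinearMap.add_apply, hcon x hx, hcon z hz, h.fSym z x, zero_add, add_zero] at this
    exact (mul_eq_zero.1 (show (2 : F) * h.fU x z = 0 by linear_combination this)).resolve_left h2
  have hany : ∀ S : Submodule F U, (∀ x ∈ S, (∀ z ∈ S, h.fU x z = 0) → x = 0) → 2 ≤ Module.finrank F S → ∀ v,
      ∃ p ∈ S, h.fU p p = v := fun S hS hS2 v => by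
    obtain ⟨p, hp, hpp⟩ := haniso S hS (fun e => by rw [e, finrank_bot] at hS2; omega)
    have hT : ∀ x ∈ S ⊓ LinearMap.ker (h.fU p), (∀ z ∈ S ⊓ LinearMap.ker (h.fU p), h.fU x z = 0) → x = 0 :=
      fun x hx hxz => hS x hx.1 fun z hz => by
        have hpx : h.fU x p = 0 := by rw [h.fSym]; exact hx.2
        have := hxz (z - (h.fU p z / h.fU p p) • p) ⟨S.sub_mem hz (S.smul_mem _ hp), LinearMap.mem_ker.2 (by
          rw [map_sub, map_smul, smul_eq_mul, div_mul_cancel₀ _ hpp, sub_self])⟩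
        rwa [map_sub, map_smul, hpx, smul_zero, sub_zero] at this
    obtain ⟨q, hq, hqq⟩ := haniso _ hT (fun e => by
      have e1 := Submodule.finrank_sup_add_finrank_inf_eq S (LinearMap.ker (h.fU p))
      rw [e, finrank_bot] at e1
      have e2 := Submodule.finrank_le (S ⊔ LinearMap.ker (h.fU p))
      have e3 := LinearMap.finrank_range_add_finrank_ker (h.fU p)
      have e4 := Submodule.finrank_le (LinearMap.range (h.fU p))
      rw [Module.finrank_self] at e4
      omega)
    obtain ⟨s, t, e⟩ := exists_value (h := h) h2 hpp hqq (LinearMap.mem_ker.1 hq.2) v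
    exact ⟨_, S.add_mem (S.smul_mem s hp) (S.smul_mem t hq.1), e⟩
  by_contra hne
  have hY'0 : Y' ≠ ⊥ := fun e => hne fun z hz => by
    obtain ⟨y, hy, y', hy', rfl⟩ := hsplit z hz
    obtain rfl : y' = 0 := (Submodule.mem_bot F).1 (e ▸ hy')
    rw [add_zero]; exact hy
  have key : ∀ y ∈ Y, ∀ y' ∈ Y', h.fU y y ≠ 0 → h.fU y' y' ≠ 0 → ∀ s : F, s ≠ 0 →
      h.fU y y + s * s * h.fU y' y' = 0 := fun y hy y' hy' hyy hyy' s hs => by
    by_contra hn
    have hval : h.fU (y + s • y') (y + s • y') = h.fU y y + s * s * h.fU y' y' := by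
      simp [horth y hy y' hy', h.fSym y' y]; ring
    rcases hinv (y + s • y') (LinearMap.mem_ker.1 (A.add_mem (hY hy) (A.smul_mem s hy'.2))) (by rw [hval]; exact hn)
      with hm | hm
    · have hm' : y' ∈ Y := by
        have := Y.smul_mem s⁻¹ (Y.sub_mem hm hy)
        rwa [add_sub_cancel_left, inv_smul_smul₀ hs] at this
      exact hyy' (horth y' hm' y' hy')
    · have := hm y hy
      rw [map_add, LinearMap.add_apply, map_smul, LinearMap.smul_apply, h.fSym y' y, horth y hy y' hy'] at this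
      simp at this
      exact hyy this
  obtain ⟨y, hy, hyy⟩ := haniso Y hndY hY0
  obtain ⟨y', hy', hyy'⟩ := haniso Y' hndY' hY'0
  by_cases hbig : 2 ≤ Module.finrank F Y ∨ 2 ≤ Module.finrank F Y'
  · rcases hbig with hb | hb
    · obtain ⟨p, hp, hpv⟩ := hany Y hndY hb (h.fU y' y')
      have := key p hp y' hy' (by rw [hpv]; exact hyy') hyy' 1 one_ne_zero
      rw [hpv] at this
      exact mul_ne_zero h2 hyy' (by linear_combination this)
    · obtain ⟨p, hp, hpv⟩ := hany Y' hndY' hb (h.fU y y)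
      have := key y hy p hp hyy (by rw [hpv]; exact hyy) 1 one_ne_zero
      rw [hpv] at this
      exact mul_ne_zero h2 hyy (by linear_combination this)
  push Not at hbig
  have hle : Module.finrank F A ≤ Module.finrank F Y + Module.finrank F Y' := by
    refine le_trans (Submodule.finrank_mono (show A ≤ Y ⊔ Y' from fun z hz => ?_)) ?_
    · obtain ⟨y, hy, y', hy', rfl⟩ := hsplit z hz
      exact Submodule.add_mem_sup hy hy'
    · have := Submodule.finrank_sup_add_finrank_inf_eq Y Y'
      omega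
  obtain ⟨s, hs, hs1⟩ := hex.resolve_left (by omega)
  have e1 := key y hy y' hy' hyy hyy' 1 one_ne_zero
  have e2 := key y hy y' hy' hyy hyy' s hs
  exact hs1 (mul_right_cancel₀ hyy' (by linear_combination e2 - e1))

/-- The coefficients of root groups. -/
def InX (h : TBil B U W) (M : Subgroup (V ≃ₗ[F] V)) (D : Module.End F U) : Prop :=
  ∀ q : W, In M (h.P q q D)

include hG

theorem InX.of_one {q : W} (hq : q ≠ 0) {D : Module.End F U} (hD : In M (h.P q q D)) : InX h M D := fun p => by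
  rcases eq_or_ne p 0 with rfl | hp
  · rw [show h.P (0 : W) 0 D = 0 from LinearMap.ext fun T => by simp [P_apply]]; exact In.zero M
  obtain ⟨ρ, hρ, e⟩ := exists_move_zero hG hq hp
  exact e ▸ in_P_iso hG hD ρ hρ

omit hG in
theorem InX.add {D D' : Module.End F U} (hD : InX h M D) (hD' : InX h M D') : InX h M (D + D') := fun q => by
  rw [P_add]; exact (hD q).add (hD' q) (h.P_mul_zero (h.g_self q) _ _ _ _)

omit hG in
theorem InX.neg {D : Module.End F U} (hD : InX h M D) : InX h M (-D) := fun q => by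
  rw [P_neg]; exact (hD q).neg (h.P_mul_zero (h.g_self q) _ _ _ _)

include h2 in
theorem InX.smul {D : Module.End F U} (hD : InX h M D) (s : F) : InX h M (s • D) := by
  have hsq : ∀ t : F, InX h M ((t * t) • D) := fun t q => by
    refine Eq.subst (motive := fun X => In M X) (LinearMap.ext fun T => ?_) (hD (t • q))
    simp [P_apply, smul_smul]
  have e : s • D = (((s + 1) / 2) * ((s + 1) / 2)) • D + -((((s - 1) / 2) * ((s - 1) / 2)) • D) := by
    rw [← sub_eq_add_neg, ← sub_smul]
    congr 1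
    field_simp
    ring
  rw [e]
  exact (hsq _).add (hsq _).neg

theorem InX.conj {D : Module.End F U} (hD : InX h M D) (γ : U ≃ₗ[F] U) (hγ : ∀ u x, h.fU (γ u) (γ x) = h.fU u x)
    {D' : Module.End F U} (e : ∀ u, D' (γ u) = γ (D u)) : InX h M D' := fun q => by
  obtain ⟨k, hk, ek, ec⟩ := exists_isoU hG γ hγ
  exact (hD q).conj hk fun T => by simp only [P_apply, ek, ec, e]

theorem InX.adj {D : Module.End F U} (hD : InX h M D) {q : W} (hq : q ≠ 0) (u x : U) :
    h.fU (D u) x = h.fU u (D x) := by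
  obtain ⟨w, hw⟩ := h.exists_g_one hq
  have hwq : h.gW q (-w) = 1 := by rw [map_neg, h.g_swap, hw, neg_neg]
  have e := (hD q).form_eq hG.le (h.tp u (-w)) (h.tp x (-w))
  rw [P_apply, P_apply, h.c_tp, h.c_tp, hwq, one_smul, one_smul, h.pol, h.pol, h.pol, h.g_self, mul_zero, add_zero,
    hwq, map_neg, LinearMap.neg_apply, hw] at e
  linear_combination e

include h2 h3

/-- A non-scalar coefficient gives a singular vector whose square is a coefficient. -/
theorem exists_rk (hex : 4 ≤ Module.finrank F U ∨ ∃ s : F, s ≠ 0 ∧ s * s ≠ 1) (hN : h.Non M) :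
    ∃ e : U, e ≠ 0 ∧ h.fU e e = 0 ∧ InX h M (h.rk e e) := by
  haveI : Nontrivial U := Module.nontrivial_of_finrank_pos (R := F) (by omega)
  obtain ⟨q, hq, D, hD, hns⟩ := hN
  have hXD := InX.of_one hG hq hD
  obtain ⟨a, ha, hea⟩ : ∃ a, h.fU a a ≠ 0 ∧ ∀ t : F, D a ≠ t • a := by
    by_contra hcon
    push Not at hcon
    obtain ⟨t, ht⟩ := eigen_scalar (h := h) h2 h3 D hcon
    exact hns t ht
  let sy : U → U →ₗ[F] Module.End F U := fun a =>
    { toFun := fun x => h.rk a x + h.rk x a
      map_add' := fun x y => LinearMap.ext fun u => by simp [rk_apply, add_smul]; abel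
      map_smul' := fun s x => LinearMap.ext fun u => by simp [rk_apply, smul_add, smul_smul, mul_comm] }
  have hsy : ∀ a x u, sy a x u = h.fU x u • a + h.fU a u • x := fun a x u => rfl
  -- conjugation
  have hconj : ∀ a x (γ : U ≃ₗ[F] U), (∀ u y, h.fU (γ u) (γ y) = h.fU u y) → InX h M (sy a x) →
      InX h M (sy (γ a) (γ x)) := fun a x γ hγ hX => hX.conj hG γ hγ fun u => by
    simp [hsy, hγ]
  -- one coefficient gives a whole hyperplane
  have hfull : ∀ a, h.fU a a ≠ 0 → ∀ x₀, x₀ ≠ 0 → h.fU a x₀ = 0 → InX h M (sy a x₀) →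
      ∀ x, h.fU a x = 0 → InX h M (sy a x) := fun a ha x₀ hx₀ hax₀ hX₀ => by
    let Y : Submodule F U :=
      { carrier := {x | h.fU a x = 0 ∧ InX h M (sy a x)}
        zero_mem' := ⟨map_zero _, by rw [map_zero]; exact fun q => by simpa [P] using In.zero M⟩
        add_mem' := fun {x y} ⟨h1, h1'⟩ ⟨k1, k1'⟩ => ⟨by rw [map_add, h1, k1, add_zero], by
          rw [map_add]; exact h1'.add k1'⟩
        smul_mem' := fun s x ⟨h1, h1'⟩ => ⟨by rw [map_smul, h1, smul_zero], by
          rw [map_smul]; exact InX.smul hG h2 h1' s⟩ }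
    refine fun x hx => ((inv_top h2 h3 hex (Or.inr ha) Y (fun x hx => hx.1)
      (fun e => hx₀ ((Submodule.mem_bot F).1 (e ▸ (⟨hax₀, hX₀⟩ : x₀ ∈ Y)))) fun b hab hbb => ?_)
      (LinearMap.mem_ker.2 hx)).2
    by_cases hb : ∀ y ∈ Y, h.fU b y = 0
    · exact Or.inr hb
    push Not at hb
    obtain ⟨y, hy, hby⟩ := hb
    have hfa : h.reflU b hbb a = a := by rw [reflU_apply, h.fSym b a, hab, mul_zero, zero_smul, add_zero]
    have hy2 : h.reflU b hbb y ∈ Y := ⟨by rw [← hfa, h.reflU_isom, hy.1], by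
      have := hconj a y _ (h.reflU_isom b hbb) hy.2
      rwa [hfa] at this⟩
    have := Y.sub_mem hy2 hy
    rw [reflU_apply, add_sub_cancel_left] at this
    exact Or.inl ((Submodule.smul_mem_iff _ (mul_ne_zero (neg_ne_zero.2 (div_ne_zero h2 hbb)) hby)).1 this)
  -- the first coefficient
  set x := D a - (h.fU a (D a) / h.fU a a) • a with hxdef
  have hax : h.fU a x = 0 := by rw [hxdef, map_sub, map_smul, smul_eq_mul, div_mul_cancel₀ _ ha, sub_self]
  have hx0 : x ≠ 0 := fun e => hea _ (sub_eq_zero.1 (hxdef ▸ e))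
  set r := h.reflU a ha with hr
  have hrr : ∀ u, r (r u) = u := fun u => r.symm_apply_apply u
  have hX1 : InX h M (sy a x) := by
    have hconjD : InX h M (r.toLinearMap ∘ₗ D ∘ₗ r.toLinearMap) :=
      hXD.conj hG r (h.reflU_isom a ha) fun u => by simp [hrr]
    have e := InX.smul hG h2 (hXD.add hconjD.neg) (h.fU a a / 2)
    refine Eq.subst (motive := fun X => InX h M X) (LinearMap.ext fun u => ?_) e
    have hadu : h.fU a (D u) = h.fU (D a) u := (hXD.adj hG hq a u).symm
    simp only [LinearMap.smul_apply, LinearMap.add_apply, LinearMap.neg_apply, LinearMap.comp_apply,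
      LinearEquiv.coe_coe, hr, reflU_apply, map_add, map_smul, smul_eq_mul, hsy, hxdef, map_sub,
      LinearMap.sub_apply, LinearMap.smul_apply, hadu]
    match_scalars <;> field_simp <;> ring
  have hall1 := hfull a ha x hx0 hax hX1
  -- an orthogonal basis
  have hexa : ∀ a b : U, h.fU a a ≠ 0 → (b = 0 ∨ (h.fU b b ≠ 0 ∧ h.fU a b = 0)) →
      ∃ c, h.fU a c = 0 ∧ h.fU b c = 0 ∧ h.fU c c ≠ 0 := fun a b ha hb => by
    have hK : LinearMap.ker (h.fU a) ⊓ LinearMap.ker (h.fU b) ≠ ⊥ := fun e => by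
      have e1 := Submodule.finrank_sup_add_finrank_inf_eq (LinearMap.ker (h.fU a)) (LinearMap.ker (h.fU b))
      rw [e, finrank_bot] at e1
      have e2 := LinearMap.finrank_range_add_finrank_ker (h.fU a)
      have e2' := LinearMap.finrank_range_add_finrank_ker (h.fU b)
      have e3 := Submodule.finrank_le (LinearMap.range (h.fU a))
      have e3' := Submodule.finrank_le (LinearMap.range (h.fU b))
      have e4 := Submodule.finrank_le (LinearMap.ker (h.fU a) ⊔ LinearMap.ker (h.fU b))
      rw [Module.finrank_self] at e3 e3'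
      omega
    obtain ⟨v, hv, hv0⟩ := Submodule.exists_mem_ne_zero_of_ne_bot hK
    by_contra hcon
    push Not at hcon
    have hva : h.fU a v = 0 := hv.1
    have hvb : h.fU b v = 0 := hv.2
    refine hv0 (h.fnd.1 v fun z => ?_)
    have hkey : ∀ z, h.fU a z = 0 → h.fU b z = 0 → h.fU v z = 0 := fun z hza hzb => by
      have e3 := hcon (v + z) (by rw [map_add, hva, hza, add_zero]) (by rw [map_add, hvb, hzb, add_zero])
      simp only [map_add, LinearMap.add_apply, h.fSym z v, hcon v hva hvb, hcon z hza hzb, zero_add, add_zero] at e3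
      exact (mul_eq_zero.1 (show (2 : F) * h.fU v z = 0 by linear_combination e3)).resolve_left h2
    rcases hb with rfl | ⟨hbb, hab⟩
    · have := hkey (z - (h.fU a z / h.fU a a) • a)
        (by rw [map_sub, map_smul, smul_eq_mul, div_mul_cancel₀ _ ha, sub_self]) (by simp)
      rwa [map_sub, map_smul, h.fSym v a, hva, smul_zero, sub_zero] at this
    · have := hkey (z - (h.fU a z / h.fU a a) • a - (h.fU b z / h.fU b b) • b)
        (by simp only [map_sub, map_smul, smul_eq_mul, hab, mul_zero, sub_zero, div_mul_cancel₀ _ ha, sub_self])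
        (by simp only [map_sub, map_smul, smul_eq_mul, h.fSym b a, hab, mul_zero, sub_zero, div_mul_cancel₀ _ hbb,
          sub_self])
      simpa [h.fSym v a, h.fSym v b, hva, hvb] using this
  obtain ⟨p, hap, -, hpp⟩ := hexa a 0 ha (Or.inl rfl)
  obtain ⟨r', har, hpr, hrr'⟩ := hexa a p ha (Or.inr ⟨hpp, hap⟩)
  -- a singular vector and an anisotropic one orthogonal to it
  obtain ⟨s, t, hst⟩ := exists_value (h := h) h2 ha hpp hap (-h.fU r' r')
  simp [hap, h.fSym p a] at hst
  set x₁ := s • a + t • p + r' with hx₁def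
  set a₁ := (t * h.fU p p) • a + (-(s * h.fU a a)) • p with ha₁def
  have hx₁ : h.fU x₁ x₁ = 0 := by
    simp [hx₁def, hap, har, hpr, h.fSym p a, h.fSym r' a, h.fSym r' p]
    linear_combination hst
  have hx₁0 : x₁ ≠ 0 := fun e => hrr' (by
    have := congrArg (h.fU r') e
    simpa [hx₁def, h.fSym r' a, h.fSym r' p, har, hpr] using this)
  have ha₁x : h.fU a₁ x₁ = 0 := by
    simp [ha₁def, hx₁def, hap, har, hpr, h.fSym p a]; ring
  have ha₁ : h.fU a₁ a₁ ≠ 0 := by
    have : h.fU a₁ a₁ = h.fU a a * h.fU p p * (-h.fU r' r') := by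
      simp [ha₁def, hap, h.fSym p a]
      linear_combination (h.fU a a * h.fU p p) * hst
    rw [this]; exact mul_ne_zero (mul_ne_zero ha hpp) (neg_ne_zero.2 hrr')
  -- the norm is changed inside the hyperplane
  obtain ⟨s', t', hv⟩ := exists_value (h := h) h2 hpp hrr' hpr (h.fU a₁ a₁)
  set c := s' • p + t' • r' with hcdef
  have hac : h.fU a c = 0 := by simp [hcdef, hap, har]
  have hca : InX h M (sy c a) := by
    refine Eq.subst (motive := fun X => InX h M X) (LinearMap.ext fun u => ?_) (hall1 c hac)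
    simp [hsy, add_comm]
  have ha0 : a ≠ 0 := fun e => ha (by rw [e]; simp)
  have hcc : h.fU c c ≠ 0 := by rw [hv]; exact ha₁
  have hall2 := hfull c hcc a ha0 (by rw [h.fSym]; exact hac) hca
  obtain ⟨γ, hγ, hγc⟩ : ∃ γ : U ≃ₗ[F] U, (∀ u y, h.fU (γ u) (γ y) = h.fU u y) ∧ γ c = a₁ := by
    by_cases hd : h.fU (c - a₁) (c - a₁) = 0
    · have hd' : h.fU (c + a₁) (c + a₁) ≠ 0 := fun e => by
        simp only [map_add, map_sub, LinearMap.add_apply, LinearMap.sub_apply, h.fSym a₁ c, hv] at e hd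
        exact mul_ne_zero (mul_ne_zero h2 h2) ha₁ (by linear_combination e + hd)
      refine ⟨(h.reflU _ hd').trans (LinearEquiv.neg F), fun u y => by simp [h.reflU_isom], ?_⟩
      simp only [LinearEquiv.trans_apply, LinearEquiv.neg_apply, reflU_apply]
      have : h.fU (c + a₁) (c + a₁) = 2 * h.fU (c + a₁) c := by
        simp only [map_add, LinearMap.add_apply, h.fSym a₁ c, hv]; ring
      have hc' : h.fU (c + a₁) c ≠ 0 := fun e => hd' (by rw [this, e, mul_zero])
      rw [this, show -(2 / (2 * h.fU (c + a₁) c)) * h.fU (c + a₁) c = -1 by field_simp]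
      module
    · refine ⟨h.reflU _ hd, h.reflU_isom _ hd, ?_⟩
      rw [reflU_apply]
      have : h.fU (c - a₁) (c - a₁) = 2 * h.fU (c - a₁) c := by
        simp only [map_sub, LinearMap.sub_apply, h.fSym a₁ c, hv]; ring
      have hc' : h.fU (c - a₁) c ≠ 0 := fun e => hd (by rw [this, e, mul_zero])
      rw [this, show -(2 / (2 * h.fU (c - a₁) c)) * h.fU (c - a₁) c = -1 by field_simp]
      module
  have hy : InX h M (sy a₁ (γ a)) := hγc ▸ hconj c a γ hγ hca
  have hX₁ : InX h M (sy a₁ x₁) :=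
    hfull a₁ ha₁ (γ a) (fun e => ha0 (γ.injective (e.trans (map_zero γ).symm)))
      (by rw [← hγc, hγ, h.fSym]; exact hac) hy x₁ ha₁x
  -- a unipotent isometry
  refine ⟨x₁, hx₁0, hx₁, ?_⟩
  set b := a₁ + x₁ with hbdef
  have hbb : h.fU b b = h.fU a₁ a₁ := by simp [hbdef, hx₁, ha₁x, h.fSym x₁ a₁]
  have hbb0 : h.fU b b ≠ 0 := by rw [hbb]; exact ha₁
  set γ' := (h.reflU a₁ ha₁).trans (h.reflU b hbb0) with hγ'
  have hγa : γ' a₁ = a₁ + (2 : F) • x₁ := by
    have hba : h.fU b a₁ = h.fU a₁ a₁ := by simp [hbdef, h.fSym x₁ a₁, ha₁x]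
    simp only [hγ', LinearEquiv.trans_apply, reflU_apply, map_add, map_smul, smul_eq_mul, hba, hbb]
    rw [hbdef]
    match_scalars <;> field_simp <;> ring
  have hγx : γ' x₁ = x₁ := by
    have hbx : h.fU b x₁ = 0 := by simp [hbdef, hx₁, ha₁x]
    simp [hγ', reflU_apply, ha₁x, hbx]
  have hX₂ := hconj a₁ x₁ γ' (fun u y => by simp [hγ', h.reflU_isom]) hX₁
  rw [hγa, hγx] at hX₂
  refine Eq.subst (motive := fun X => InX h M X) (LinearMap.ext fun u => ?_)
    (InX.smul hG h2 (hX₂.add hX₁.neg) (1 / 4))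
  have h4 : (4 : F) ≠ 0 := fun e => mul_ne_zero h2 h2 (by linear_combination e)
  simp [hsy, rk_apply]
  match_scalars <;> field_simp <;> ring

/-- A non-scalar root group gives all transvections. -/
theorem all_TV (hex : 4 ≤ Module.finrank F U ∨ ∃ s : F, s ≠ 0 ∧ s * s ≠ 1) (hN : h.Non M) : ∀ v, TV B M v := by
  haveI : Nontrivial U := Module.nontrivial_of_finrank_pos (R := F) (by omega)
  obtain ⟨q, hq, -⟩ := id hN
  obtain ⟨e, he0, hee, hX⟩ := exists_rk hG h2 h3 hex hN
  have hTV : ∀ e : U, InX h M (h.rk e e) → ∀ w, TV B M (h.tp e w) := fun e hX w t => by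
    refine Eq.subst (motive := fun X => In M X) (LinearMap.ext fun T => ?_) (InX.smul hG h2 hX t w)
    simp [P_apply, rk_apply, ← h.pol_c, smul_smul]
  have hrefl : ∀ (e c : U) (hc : h.fU c c ≠ 0), InX h M (h.rk e e) → InX h M (h.rk (h.reflU c hc e) (h.reflU c hc e)) :=
    fun e c hc hX => hX.conj hG _ (h.reflU_isom c hc) fun u => by simp [rk_apply, h.reflU_isom]
  have hne : ∀ (e c : U) (hc : h.fU c c ≠ 0), h.fU e e = 0 → h.fU c e ≠ 0 → h.fU e (h.reflU c hc e) ≠ 0 :=
    fun e c hc he hce => by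
      rw [reflU_apply, map_add, map_smul, he, h.fSym e c, zero_add, smul_eq_mul]
      exact mul_ne_zero (mul_ne_zero (neg_ne_zero.2 (div_ne_zero h2 hc)) hce) hce
  obtain ⟨c₀, hc₀, hc₀e⟩ : ∃ c, h.fU c c ≠ 0 ∧ h.fU c e ≠ 0 := by
    by_contra hcon
    push Not at hcon
    refine he0 (h.fnd.2 e fun y => ?_)
    have : y ∈ Submodule.span F {a : U | h.fU a a ≠ 0} := by rw [h.span_aniso h2]; exact Submodule.mem_top
    exact (Submodule.span_le (p := LinearMap.ker (h.fU.flip e))).2 (fun a ha => hcon a ha) this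
  obtain ⟨w₁, hw₁⟩ := h.exists_g_one hq
  set e₂ := h.reflU c₀ hc₀ e
  have he₂ : h.fU e e₂ ≠ 0 := hne e c₀ hc₀ hee hc₀e
  have ha : TV B M (h.tp e q) := hTV e hX q
  have hb : TV B M (h.tp ((h.fU e e₂)⁻¹ • e₂) (-w₁)) := by
    rw [map_smul, LinearMap.smul_apply]; exact (hTV e₂ (hrefl e c₀ hc₀ hX) _).smul _
  refine TV.all hG.le h2 h.bAlt h.bnd ha hb (by
    rw [h.pol, map_smul, map_neg, h.g_swap q w₁, hw₁, smul_eq_mul, inv_mul_cancel₀ he₂]; ring) ?_
  intro S haS hbS hdec
  have key : ∀ (e₁ e₂ : U) (w₁ w₂ : W), InX h M (h.rk e₂ e₂) → h.tp e₁ w₁ ∈ S → h.fU e₁ e₂ ≠ 0 → h.gW w₁ w₂ ≠ 0 →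
      h.tp e₂ w₂ ∈ S := fun e₁ e₂ w₁ w₂ hX hS hf hg => by
    refine (hdec _ (hTV e₂ hX w₂)).resolve_right fun hperp => ?_
    have := hperp _ hS
    rw [h.b_swap, h.pol, neg_eq_zero] at this
    exact mul_ne_zero hf hg this
  let K : Set U := {e | h.fU e e = 0 ∧ InX h M (h.rk e e) ∧ ∀ w, h.tp e w ∈ S}
  have heK : e ∈ K := by
    refine ⟨hee, hX, fun w => ?_⟩
    rcases eq_or_ne w 0 with rfl | hw
    · rw [map_zero]; exact zero_mem S
    obtain ⟨v, -, hvq, hvw⟩ := h.exists_common (w := (0 : W)) (a := q) (b := w)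
      (by rwa [Submodule.span_zero_singleton, Submodule.mem_bot])
      (by rwa [Submodule.span_zero_singleton, Submodule.mem_bot])
    exact key e₂ e v w hX (key e e₂ q v (hrefl e c₀ hc₀ hX) haS he₂ (fun e' => hvq (h.g_swap_zero e')))
      (by rw [h.fSym]; exact he₂) hvw
  have hKr : ∀ e ∈ K, ∀ (c : U) (hc : h.fU c c ≠ 0), h.reflU c hc e ∈ K := fun e he c hc => by
    refine ⟨by rw [h.reflU_isom]; exact he.1, hrefl e c hc he.2.1, fun w => ?_⟩
    rcases eq_or_ne (h.fU c e) 0 with h0 | h0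
    · rw [reflU_apply, h0, mul_zero, zero_smul, add_zero]; exact he.2.2 w
    rcases eq_or_ne w 0 with rfl | hw
    · rw [map_zero]; exact zero_mem S
    obtain ⟨v, hv⟩ := h.exists_g_one hw
    exact key e _ v w (hrefl e c hc he.2.1) (he.2.2 v) (hne e c hc he.1 h0) (by rw [hv]; exact one_ne_zero)
  have hK : LinearMap.ker (h.fU 0) ≤ Submodule.span F K := by
    refine inv_top h2 h3 hex (Or.inl rfl) _ (fun x _ => LinearMap.mem_ker.2 (by simp))
      (fun e' => he0 ((Submodule.mem_bot F).1 (e' ▸ Submodule.subset_span heK))) fun b _ hbb => ?_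
    by_cases hb : ∀ y ∈ K, h.fU b y = 0
    · exact Or.inr fun y hy => (Submodule.span_le (p := LinearMap.ker (h.fU b))).2 (fun z hz => hb z hz) hy
    push Not at hb
    obtain ⟨y, hy, hby⟩ := hb
    have := Submodule.sub_mem _ (Submodule.subset_span (hKr y hy b hbb)) (Submodule.subset_span (R := F) hy)
    rw [reflU_apply, add_sub_cancel_left] at this
    exact Or.inl ((Submodule.smul_mem_iff _ (mul_ne_zero (neg_ne_zero.2 (div_ne_zero h2 hbb)) hby)).1 this)
  refine eq_top_iff.2 ?_
  rw [← h.span_tp, Submodule.span_le]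
  rintro _ ⟨u, w, rfl⟩
  exact (Submodule.span_le (p := S.comap (h.tp.flip w))).2 (fun z hz => hz.2.2 w)
    (hK (LinearMap.mem_ker.2 (by simp) : u ∈ LinearMap.ker (h.fU 0)))

end TBil

end CfsgLib.TensorMax.Pair
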