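import Cfsg.Agent.Lib.TensorMax.Pair.Group

/-!
A Sylow subgroup larger than the root group gives a non-scalar root group.
-/

set_option autoImplicit false
set_option linter.unusedSectionVars false
set_option linter.unusedVariables false
set_option linter.unusedSimpArgs false

namespace CfsgLib.TensorMax.Pair

open LinearMap (BilinForm)

variable {F V U W : Type*} [Field F] [AddCommGroup V] [Module F V] [AddCommGroup U] [Module F U]
  [AddCommGroup W] [Module F W]
variable [FiniteDimensional F V] [FiniteDimensional F U] [FiniteDimensional F W]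
variable {B : BilinForm F V} {M : Subgroup (V ≃ₗ[F] V)}

namespace TBil

variable {h : TBil B U W} {q : W} {C : Module.End F V}

/-- The algebra of the block. -/
noncomputable abbrev alg (h : TBil B U W) (q : W) (C : Module.End F V) : Subalgebra F (Module.End F U) :=
  Algebra.adjoin F {h.blk q C}

theorem alg_range {a : Module.End F U} (ha : a ∈ h.alg q C) {u : U} (hu : u ∈ LinearMap.range (h.blk q C)) :
    a u ∈ LinearMap.range (h.blk q C) := by
  obtain ⟨x, rfl⟩ := hu
  refine ⟨a x, ?_⟩
  have hc : Commute a (h.blk q C) := (Algebra.commute_of_mem_adjoin_self ha).symm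
  exact (LinearMap.congr_fun hc.eq x).symm

/-- The group generated by the two root groups. -/
noncomputable def Good.grp (hC : h.Good M q C) : Subgroup (V ≃ₗ[F] V) :=
  (uni (h.P q q 1) (h.R_sq q)).range ⊔ (uni C hC.sq).range

/-- The shape of the elements of the group. -/
def Shape (h : TBil B U W) (q : W) (C : Module.End F V) (g : V ≃ₗ[F] V) : Prop :=
  (∃ a ∈ h.alg q C, ∃ b ∈ h.alg q C, ∃ c ∈ h.alg q C, ∃ d ∈ h.alg q C,
    ∀ u ∈ LinearMap.range (h.blk q C), ∀ v ∈ LinearMap.range (h.blk q C),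
      g (h.Phi q C (u, v)) = h.Phi q C (a u + b v, c u + d v)) ∧
  ∃ s t : F, ∀ T ∈ h.V₂ q C, g T = T + s • h.P q q 1 T + t • C T

variable (hC : h.Good M q C)

include hC

theorem Good.shape_mul {g g' : V ≃ₗ[F] V} (hg : Shape h q C g) (hg' : Shape h q C g') : Shape h q C (g * g') := by
  obtain ⟨⟨a, ha, b, hb, c, hc, d, hd, e⟩, s, t, e2⟩ := hg
  obtain ⟨⟨a', ha', b', hb', c', hc', d', hd', e'⟩, s', t', e2'⟩ := hg'
  refine ⟨⟨a * a' + b * c', add_mem (mul_mem ha ha') (mul_mem hb hc'),
    a * b' + b * d', add_mem (mul_mem ha hb') (mul_mem hb hd'),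
    c * a' + d * c', add_mem (mul_mem hc ha') (mul_mem hd hc'),
    c * b' + d * d', add_mem (mul_mem hc hb') (mul_mem hd hd'), fun u hu v hv => ?_⟩, s + s', t + t', fun T hT => ?_⟩
  · rw [LinearEquiv.mul_apply, e' u hu v hv, e _ (Submodule.add_mem _ (alg_range ha' hu) (alg_range hb' hv)) _
      (Submodule.add_mem _ (alg_range hc' hu) (alg_range hd' hv))]
    simp only [LinearMap.add_apply, Module.End.mul_apply, map_add]
    congr 1
    exact Prod.ext (by simp only; abel) (by simp only; abel)
  · obtain ⟨hR, hCR⟩ := hC.V₂_R hT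
    obtain ⟨hCT, hRC⟩ := hC.V₂_C hT
    have h1 : T + s' • h.P q q 1 T + t' • C T ∈ h.V₂ q C :=
      Submodule.add_mem _ (Submodule.add_mem _ hT (Submodule.smul_mem _ _ hR)) (Submodule.smul_mem _ _ hCT)
    rw [LinearEquiv.mul_apply, e2' T hT, e2 _ h1]
    simp only [map_add, map_smul, show C (C T) = 0 from LinearMap.congr_fun hC.sq T, hCR, hRC,
      show h.P q q 1 (h.P q q 1 T) = 0 from LinearMap.congr_fun (h.R_sq q) T, smul_zero, add_zero]
    module

theorem Good.shape_one : Shape h q C 1 :=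
  ⟨⟨1, one_mem _, 0, zero_mem _, 0, zero_mem _, 1, one_mem _, fun u hu v hv => by simp⟩, 0, 0, fun T hT => by simp⟩

theorem Good.shape_uniR (c : F) : Shape h q C (uni (h.P q q 1) (h.R_sq q) (Multiplicative.ofAdd c)) := by
  refine ⟨⟨1, one_mem _, c • h.blk q C, Subalgebra.smul_mem _ (Algebra.self_mem_adjoin_singleton F _) c,
    0, zero_mem _, 1, one_mem _, fun u hu v hv => ?_⟩, c, 0, fun T hT => by rw [uni_apply]; simp⟩
  rw [uni_apply, h.R_Phi, ← map_smul, ← map_add]
  simp

theorem Good.shape_uniC (d : F) : Shape h q C (uni C hC.sq (Multiplicative.ofAdd d)) := by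
  refine ⟨⟨1, one_mem _, 0, zero_mem _, d • 1, Subalgebra.smul_mem _ (one_mem _) d, 1, one_mem _,
    fun u hu v hv => ?_⟩, 0, d, fun T hT => by rw [uni_apply]; simp⟩
  rw [uni_apply, h.C_Phi hC.sq, ← map_smul, ← map_add]
  simp [add_comm]

variable [Finite F]

theorem Good.finite : Finite (V ≃ₗ[F] V) := by
  haveI : Finite V := Module.finite_of_finite F
  exact Finite.of_injective _ DFunLike.coe_injective

theorem Good.shape {g : V ≃ₗ[F] V} (hg : g ∈ hC.grp) : Shape h q C g := by
  haveI := hC.finite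
  haveI : Fintype (V ≃ₗ[F] V) := Fintype.ofFinite _
  have hle : hC.grp ≤
      { carrier := {g | Shape h q C g}
        mul_mem' := fun hg hg' => hC.shape_mul hg hg'
        one_mem' := hC.shape_one
        inv_mem' := fun {x} hx => by
          have hpow : ∀ n : ℕ, Shape h q C (x ^ n) := fun n => by
            induction n with
            | zero => rw [pow_zero]; exact hC.shape_one
            | succ n ih => rw [pow_succ]; exact hC.shape_mul ih hx
          show Shape h q C x⁻¹
          rw [inv_eq_of_mul_eq_one_right (show x * x ^ (orderOf x - 1) = 1 by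
            rw [← pow_succ', Nat.sub_add_cancel (orderOf_pos x), pow_orderOf_eq_one])]
          exact hpow _ } := sup_le
    (by rintro _ ⟨c, rfl⟩; exact hC.shape_uniR c.toAdd) (by rintro _ ⟨c, rfl⟩; exact hC.shape_uniC c.toAdd)
  exact hle hg

theorem Good.grp_le (hG : h.Gens M) : hC.grp ≤ M :=
  sup_le (by rintro _ ⟨c, rfl⟩; exact uni_mem (h.R_sq q) (tau hG q c.toAdd))
    (by rintro _ ⟨c, rfl⟩; exact uni_mem hC.sq (hC.inM c.toAdd))

theorem Good.uniR_injective (hU : 0 < Module.finrank F U) :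
    Function.Injective (uni (h.P q q 1) (h.R_sq q)) := by
  refine (injective_iff_map_eq_one _).2 fun c hc => ?_
  haveI : Nontrivial U := Module.nontrivial_of_finrank_pos hU
  obtain ⟨u, hu⟩ := exists_ne (0 : U)
  obtain ⟨w, hw⟩ := h.exists_g_one hC.q_ne
  have e := LinearEquiv.congr_fun hc (h.tp u w)
  rw [show c = Multiplicative.ofAdd c.toAdd from rfl, uni_apply, LinearEquiv.coe_one, id, add_eq_left,
    h.R_apply, h.c_tp, smul_eq_zero] at e
  rcases e with e | e
  · exact congrArg Multiplicative.ofAdd e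
  · rw [h.g_swap, hw, neg_one_smul, map_neg, LinearMap.neg_apply, neg_eq_zero] at e
    exact absurd e (h.tp_ne_zero hu hC.q_ne)

variable (hG : h.Gens M) (h2 : (2 : F) ≠ 0) (h3 : 3 ≤ Module.finrank F U) (hno : ¬ h.Non M)

include hG h2 h3 hno

/-- A Sylow subgroup of the group is no larger than the root group. -/
theorem Good.no_big {p : ℕ} [hp : Fact p.Prime] [CharP F p] {n : ℕ} (hdvd : p ^ n ∣ Nat.card hC.grp)
    (hlt : Nat.card F < p ^ n) : False := by
  haveI := hC.finite
  set G := hC.grp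
  set U₀ := (uni (h.P q q 1) (h.R_sq q)).range
  have hU₀ : U₀ ≤ G := le_sup_left
  have hcard : Nat.card U₀ = Nat.card F := by
    rw [← Nat.card_congr (MonoidHom.ofInjective (hC.uniR_injective (by omega))).toEquiv]
    exact Nat.card_congr Multiplicative.toAdd
  obtain ⟨k, hk⟩ : ∃ k, Nat.card F = p ^ k := by
    haveI := Fintype.ofFinite F
    obtain ⟨m, -, hm⟩ := FiniteField.card F p
    exact ⟨m, by rw [Nat.card_eq_fintype_card, hm]⟩
  set H := U₀.subgroupOf G
  have hH : IsPGroup p H := by
    refine IsPGroup.of_card (n := k) ?_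
    rw [Nat.card_congr (Subgroup.subgroupOfEquivOfLe hU₀).toEquiv, hcard, hk]
  obtain ⟨P, hP⟩ := hH.exists_le_sylow
  have hPc : Nat.card F < Nat.card (P : Subgroup G) := by
    refine hlt.trans_le ?_
    rw [P.card_eq_multiplicity]
    exact Nat.pow_le_pow_right hp.out.pos ((Nat.Prime.pow_dvd_iff_le_factorization hp.out Nat.card_pos.ne').1 hdvd)
  haveI := P.isPGroup'.isNilpotent
  set K := H.subgroupOf (P : Subgroup G)
  have hK : K < ⊤ := lt_top_iff_ne_top.2 fun e => by
    have e' := Nat.card_congr (Subgroup.subgroupOfEquivOfLe hP).toEquiv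
    rw [show H.subgroupOf (P : Subgroup G) = ⊤ from e, Subgroup.card_top,
      Nat.card_congr (Subgroup.subgroupOfEquivOfLe hU₀).toEquiv, hcard] at e'
    omega
  obtain ⟨y', hy'n, hy'⟩ := SetLike.exists_of_lt (Group.normalizerCondition_of_isNilpotent K hK)
  set y : V ≃ₗ[F] V := ((y' : G) : V ≃ₗ[F] V)
  have hyG : y ∈ G := (y' : G).2
  have hy0 : y ∉ U₀ := fun e => hy' e
  obtain ⟨a, ha⟩ := P.isPGroup' y'
  have hya : y ^ p ^ a = 1 := by
    have := congrArg (fun z : (P : Subgroup G) => ((z : G) : V ≃ₗ[F] V)) ha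
    simpa [y] using this
  -- the element commutes with the root element
  obtain ⟨lam, hlam⟩ : ∃ lam : F, ∀ T, y (h.P q q 1 T) = lam • h.P q q 1 (y T) := by
    have hu : uni (h.P q q 1) (h.R_sq q) (Multiplicative.ofAdd 1) ∈ U₀ := ⟨_, rfl⟩
    let z : (P : Subgroup G) := ⟨⟨_, hU₀ hu⟩, hP hu⟩
    have hz : y' * z * y'⁻¹ ∈ K := (Subgroup.mem_normalizer_iff.1 hy'n z).1 hu
    obtain ⟨l, hl⟩ := hz
    refine ⟨l.toAdd, fun T => ?_⟩
    have e := LinearEquiv.congr_fun hl (y T)
    rw [show l = Multiplicative.ofAdd l.toAdd from rfl, uni_apply] at e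
    have e' : (y * uni (h.P q q 1) (h.R_sq q) (Multiplicative.ofAdd 1) * y⁻¹) (y T) =
        y T + y (h.P q q 1 T) := by
      show y (uni _ _ _ (y.symm (y T))) = _
      rw [y.symm_apply_apply, uni_apply, one_smul, map_add]
    exact (add_left_cancel (e.trans e')).symm
  have hcomm : ∀ T, y (h.P q q 1 T) = h.P q q 1 (y T) := by
    have hpow : ∀ (j : ℕ) T, (y ^ j) (h.P q q 1 T) = lam ^ j • h.P q q 1 ((y ^ j) T) := fun j => by
      induction j with
      | zero => intro T; simp
      | succ j ih => intro T; rw [pow_succ', LinearEquiv.mul_apply, ih, map_smul, hlam, smul_smul, ← pow_succ]; rfl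
    haveI : Nontrivial U := Module.nontrivial_of_finrank_pos (R := F) (by omega)
    obtain ⟨u, hu⟩ := exists_ne (0 : U)
    obtain ⟨w, hw⟩ := h.exists_g_one hC.q_ne
    have e := hpow (p ^ a) (h.tp u w)
    rw [hya, LinearEquiv.coe_one, id, id] at e
    have hne : h.P q q 1 (h.tp u w) ≠ 0 := by
      rw [h.R_apply, h.c_tp, h.g_swap, hw]
      exact h.tp_ne_zero (by simpa using hu) hC.q_ne
    have h1 : lam ^ p ^ a = 1 := by
      by_contra hne'
      refine hne ?_
      have : (lam ^ p ^ a - 1) • h.P q q 1 (h.tp u w) = 0 := by rw [sub_smul, ← e, one_smul, sub_self]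
      exact (smul_eq_zero.1 this).resolve_left (sub_ne_zero.2 hne')
    have h1' : lam = 1 := by
      rw [← sub_eq_zero, ← pow_eq_zero_iff (n := p ^ a) (pow_ne_zero _ hp.out.pos.ne'), sub_pow_char_pow, h1, one_pow,
        sub_self]
    intro T
    rw [hlam, h1', one_smul]
  obtain ⟨⟨α, hα, β, hβ, γ, hγ, δ, hδ, hΦ⟩, s, t, hV⟩ := hC.shape hyG
  -- it fixes the line pointwise
  have hline : ∀ u ∈ LinearMap.range (h.blk q C), y (h.tp u q) = h.tp (α u) q := fun u hu => by
    have e := hΦ u hu 0 (zero_mem _)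
    simp only [map_zero, add_zero] at e
    have e1 : h.Phi q C (u, (0 : U)) = h.tp u q := by simp [Phi_apply]
    have e2 := congrArg (h.P q q 1) e
    rw [← hcomm, h.R_Phi, h.R_Phi] at e2
    simp only [map_zero] at e2
    rw [show ((0, 0) : U × U) = 0 from rfl, map_zero, map_zero] at e2
    have e3 : h.blk q C (γ u) = 0 := h.tp_injective hC.q_ne (by simpa [Phi_apply] using e2.symm)
    rw [← e1, e, hC.blk_inj (alg_range hγ hu) e3]
    simp [Phi_apply]
  have hα1 : ∀ u ∈ LinearMap.range (h.blk q C), α u = u := by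
    have hadj : ∀ b ∈ h.alg q C, ∀ u x, h.fU (b u) x = h.fU u (b x) := fun b hb => by
      induction hb using Algebra.adjoin_induction with
      | mem z hz => rw [Set.mem_singleton_iff.1 hz]; exact hC.self_adj
      | algebraMap r => intro u x; simp
      | add z z' _ _ ih ih' => intro u x; simp [ih, ih']
      | mul z z' hz hz' ih ih' =>
        intro u x
        rw [Module.End.mul_apply, ih, ih']
        exact congrArg (h.fU u) (LinearMap.congr_fun
          (Algebra.commute_of_mem_adjoin_singleton_of_commute hz (Algebra.commute_of_mem_adjoin_self hz').symm).eq x)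
    have hsq : ∀ u ∈ LinearMap.range (h.blk q C), α (α u) = u := fun u hu => by
      obtain ⟨w, hw⟩ := h.exists_g_one hC.q_ne
      obtain ⟨v, rfl⟩ := hu
      have hu : h.blk q C v ∈ LinearMap.range (h.blk q C) := ⟨v, rfl⟩
      set T := C (h.tp v q)
      have hT : h.c q T = h.blk q C v := rfl
      have hy' : h.c q (y T) = α (h.blk q C v) := by
        have e := hcomm T
        rw [h.R_apply, h.R_apply, hT, hline _ hu] at e
        exact (h.tp_injective hC.q_ne e).symm
      refine h.ext_f fun x => ?_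
      obtain ⟨a₁, ha₁, b₁, hb₁, rfl⟩ := Submodule.mem_sup.1 (show x ∈ LinearMap.ker (h.blk q C) ⊔
        LinearMap.range (h.blk q C) by rw [hC.compl.sup_eq_top]; exact Submodule.mem_top)
      have horth : ∀ z ∈ LinearMap.range (h.blk q C), h.fU a₁ z = 0 := by
        rintro _ ⟨z, rfl⟩
        rw [← hC.self_adj, LinearMap.mem_ker.1 ha₁, map_zero, LinearMap.zero_apply]
      rw [map_add, LinearMap.add_apply, LinearMap.add_apply, horth _ (alg_range hα (alg_range hα hu)), horth _ hu]
      rw [← hadj α hα, ← hy', h.pol_c, ← hline _ hb₁, hG.le y (hC.grp_le hG hyG), ← h.pol_c, hT]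
    intro u hu
    have hpow : ∀ (j : ℕ), (y ^ j) (h.tp u q) = h.tp ((α ^ j) u) q ∧ (α ^ j) u ∈ LinearMap.range (h.blk q C) := by
      intro j
      induction j with
      | zero => simp [hu]
      | succ j ih =>
        rw [pow_succ', LinearEquiv.mul_apply, ih.1, hline _ ih.2, pow_succ', Module.End.mul_apply]
        exact ⟨rfl, alg_range hα ih.2⟩
    have hodd : Odd (p ^ a) := by
      refine Odd.pow (hp.out.odd_of_ne_two fun e => h2 ?_)
      subst e
      exact_mod_cast CharP.cast_eq_zero F 2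
    have h1 := (hpow (p ^ a)).1
    rw [hya, LinearEquiv.coe_one, id] at h1
    have h1' := h.tp_injective hC.q_ne h1
    obtain ⟨j, hj⟩ := hodd
    have heven : ∀ j, (α ^ (2 * j)) u = u := fun j => by
      induction j with
      | zero => simp
      | succ j ih => rw [mul_add, mul_one, pow_succ', pow_succ', Module.End.mul_apply, Module.End.mul_apply, ih, hsq u hu]
    rw [hj, pow_succ', Module.End.mul_apply, heven] at h1'
    exact h1'.symm
  have hfix : ∀ u, y (h.tp u q) = h.tp u q := fun u => by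
    obtain ⟨a₁, ha₁, b₁, hb₁, rfl⟩ := Submodule.mem_sup.1 (show u ∈ LinearMap.ker (h.blk q C) ⊔
      LinearMap.range (h.blk q C) by rw [hC.compl.sup_eq_top]; exact Submodule.mem_top)
    have hmem : h.tp a₁ q ∈ h.V₂ q C :=
      ⟨show h.c q (C _) = 0 by rw [hC.kill a₁ ha₁, map_zero], show h.blk q C (h.c q _) = 0 by simp [h.g_self]⟩
    rw [map_add, LinearMap.add_apply, map_add, hline b₁ hb₁, hα1 b₁ hb₁, hV _ hmem, hC.kill a₁ ha₁, h.R_apply]
    simp [h.g_self]
  -- and moves little
  obtain ⟨s', hs'⟩ := hC.in_root hG h2 h3 hno (hC.grp_le hG hyG) hfix fun T => by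
    obtain ⟨u, hu, v, hv, T₂, hT₂, rfl⟩ := hC.decomp T
    have e := hΦ u hu v hv
    have hc : h.c q (y (h.Phi q C (u, v))) = h.c q (h.Phi q C (u, v)) := h.ext_f fun x => by
      rw [h.pol_c, h.pol_c]
      conv_rhs => rw [← hG.le y (hC.grp_le hG hyG) (h.tp x q), hfix]
    rw [e, h.c_Phi, h.c_Phi] at hc
    have hd : γ u + δ v = v := sub_eq_zero.1 (hC.blk_inj
      (Submodule.sub_mem _ (Submodule.add_mem _ (alg_range hγ hu) (alg_range hδ hv)) hv)
      (by rw [map_sub, hc, sub_self]))
    refine ⟨t • T₂, α u + β v - u + s • h.c q T₂, ?_, ?_⟩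
    · rw [map_smul, map_smul, show h.c q (C T₂) = 0 from hT₂.1, smul_zero]
    · rw [map_add, e, hd, hV _ hT₂, h.R_apply]
      simp [Phi_apply]
      abel
  exact hy0 ⟨Multiplicative.ofAdd s', LinearEquiv.ext fun T => by rw [uni_apply, hs']⟩

end TBil

end CfsgLib.TensorMax.Pair
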