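import Cfsg.Agent.Lib.TensorMax.Pair.Radical

/-!
The group generated by a root group and a conjugate of a root group.
-/

set_option autoImplicit false
set_option linter.unusedSectionVars false
set_option linter.unusedVariables false
set_option linter.unusedSimpArgs false

namespace CfsgLib.TensorMax.Pair

open LinearMap (BilinForm)

variable {F V U W : Type*} [Field F] [AddCommGroup V] [Module F V] [AddCommGroup U] [Module F U]
  [AddCommGroup W] [Module F W]
variable [FiniteDimensional F V] [FiniteDimensional F U] [FiniteDimensional F W]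
variable {B : BilinForm F V} {M : Subgroup (V ≃ₗ[F] V)}

/-- The one parameter group of a nilpotent map of square zero. -/
def uni (X : Module.End F V) (hX : X * X = 0) : Multiplicative F →* (V ≃ₗ[F] V) where
  toFun c := LinearEquiv.ofLinear (1 + c.toAdd • X) (1 + (-c.toAdd) • X)
    (LinearMap.ext fun T => by simp [show X (X T) = 0 from LinearMap.congr_fun hX T])
    (LinearMap.ext fun T => by simp [show X (X T) = 0 from LinearMap.congr_fun hX T])
  map_one' := LinearEquiv.ext fun T => by simp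
  map_mul' c d := LinearEquiv.ext fun T => by
    simp [show X (X T) = 0 from LinearMap.congr_fun hX T, add_smul]
    abel

theorem uni_apply (X : Module.End F V) (hX : X * X = 0) (c : F) (T : V) :
    uni X hX (Multiplicative.ofAdd c) T = T + c • X T := by
  simp [uni]

theorem uni_mem {X : Module.End F V} (hX : X * X = 0) {c : F} (h : In M (c • X)) :
    uni X hX (Multiplicative.ofAdd c) ∈ M := by
  obtain ⟨g, hg, e⟩ := h
  convert hg using 1
  exact LinearEquiv.ext fun T => by rw [uni_apply, e, LinearMap.smul_apply]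

/-- A semisimple element of finite order has no unipotent part. -/
theorem pow_eq_one_of_sep [Finite F] {X : Type*} [AddCommGroup X] [Module F X] [FiniteDimensional F X] {p : ℕ}
    [Fact p.Prime] [CharP F p] (S : Module.End F X) {σ : Polynomial F} (hσ : σ.Separable)
    (hS : Polynomial.aeval S σ = 0) {N a : ℕ} (h : S ^ (N * p ^ a) = 1) : S ^ N = 1 := by
  have hss : S.IsSemisimple := Module.End.isSemisimple_of_squarefree_aeval_eq_zero hσ.squarefree hS
  have h1 := hss.aeval (Polynomial.X ^ N - 1)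
  have hnil : IsNilpotent (Polynomial.aeval S (Polynomial.X ^ N - 1 : Polynomial F)) := by
    refine ⟨p ^ a, ?_⟩
    rw [← map_pow, sub_pow_char_pow, one_pow, ← pow_mul, map_sub, map_pow, Polynomial.aeval_X, map_one, h, sub_self]
  have := Module.End.eq_zero_of_isNilpotent_isSemisimple hnil h1
  rwa [map_sub, map_pow, Polynomial.aeval_X, map_one, sub_eq_zero] at this

namespace TBil

variable (h : TBil B U W)

/-- The diagonal block of a map at a vector of the second factor. -/
noncomputable def blk (q : W) (C : Module.End F V) : Module.End F U := h.c q ∘ₗ C ∘ₗ h.tp.flip q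

theorem blk_apply (q : W) (C : Module.End F V) (u : U) : h.blk q C u = h.c q (C (h.tp u q)) := rfl

/-- A conjugate of a root element of the second factor, with a block whose kernel is a direct summand. -/
structure Good (M : Subgroup (V ≃ₗ[F] V)) (q : W) (C : Module.End F V) : Prop where
  q_ne : q ≠ 0
  sq : C * C = 0
  skew : ∀ S T, B (C S) T + B S (C T) = 0
  inM : ∀ d : F, In M (d • C)
  rank : Module.finrank F (LinearMap.range C) = Module.finrank F U
  compl : IsCompl (LinearMap.ker (h.blk q C)) (LinearMap.range (h.blk q C))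
  kill : ∀ u, h.blk q C u = 0 → C (h.tp u q) = 0
  ne : h.blk q C ≠ 0

variable {q : W} {C : Module.End F V}

theorem R_sq (q : W) : h.P q q 1 * h.P q q 1 = 0 := h.P_mul_zero (h.g_self q) _ _ _ _

theorem R_apply (q : W) (T : V) : h.P q q 1 T = h.tp (h.c q T) q := by rw [P_apply, Module.End.one_apply]

/-- The parametrisation of the span of the line and its image. -/
noncomputable def Phi (q : W) (C : Module.End F V) : U × U →ₗ[F] V :=
  (h.tp.flip q).coprod (C ∘ₗ h.tp.flip q)

theorem Phi_apply (q : W) (C : Module.End F V) (u v : U) : h.Phi q C (u, v) = h.tp u q + C (h.tp v q) := rfl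

theorem c_Phi (q : W) (C : Module.End F V) (u v : U) : h.c q (h.Phi q C (u, v)) = h.blk q C v := by
  simp [Phi_apply, blk_apply, h.g_self]

theorem R_Phi (q : W) (C : Module.End F V) (u v : U) :
    h.P q q 1 (h.Phi q C (u, v)) = h.Phi q C (h.blk q C v, 0) := by
  rw [R_apply, c_Phi]
  simp [Phi_apply]

theorem C_Phi (hC : C * C = 0) (u v : U) : C (h.Phi q C (u, v)) = h.Phi q C (0, u) := by
  simp [Phi_apply, show C (C (h.tp v q)) = 0 from LinearMap.congr_fun hC _]

/-- The complement of the span of the line and its image. -/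
noncomputable def V₂ (q : W) (C : Module.End F V) : Submodule F V :=
  LinearMap.ker (h.c q ∘ₗ C) ⊓ (LinearMap.ker (h.blk q C)).comap (h.c q)

theorem mem_V₂ {T : V} : T ∈ h.V₂ q C ↔ h.c q (C T) = 0 ∧ h.blk q C (h.c q T) = 0 := Iff.rfl

variable {h}
variable (hC : h.Good M q C)

include hC

theorem Good.self_adj (u x : U) : h.fU (h.blk q C u) x = h.fU u (h.blk q C x) := by
  rw [h.fSym, blk_apply, blk_apply, h.pol_c, h.pol_c]
  have := hC.skew (h.tp u q) (h.tp x q)
  rw [h.b_swap (h.tp x q), ← eq_neg_of_add_eq_zero_right this]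

theorem Good.V₂_R {T : V} (hT : T ∈ h.V₂ q C) : h.P q q 1 T ∈ h.V₂ q C ∧ C (h.P q q 1 T) = 0 := by
  have e : C (h.P q q 1 T) = 0 := by rw [h.R_apply]; exact hC.kill _ hT.2
  exact ⟨⟨show h.c q (C _) = 0 by rw [e, map_zero], show h.blk q C (h.c q _) = 0 by simp [h.R_apply, h.g_self]⟩, e⟩

theorem Good.V₂_C {T : V} (hT : T ∈ h.V₂ q C) : C T ∈ h.V₂ q C ∧ h.P q q 1 (C T) = 0 := by
  have e : C (C T) = 0 := LinearMap.congr_fun hC.sq T
  have e' : h.c q (C T) = 0 := hT.1
  exact ⟨⟨show h.c q (C _) = 0 by rw [e, map_zero], show h.blk q C _ = 0 by rw [e', map_zero]⟩,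
    by rw [h.R_apply, e']; simp⟩

theorem Good.decomp (T : V) : ∃ u ∈ LinearMap.range (h.blk q C), ∃ v ∈ LinearMap.range (h.blk q C),
    ∃ T₂ ∈ h.V₂ q C, T = h.Phi q C (u, v) + T₂ := by
  have hsol : ∀ x : U, ∃ v ∈ LinearMap.range (h.blk q C), h.blk q C (x - h.blk q C v) = 0 := fun x => by
    obtain ⟨a, ha, b, hb, e⟩ := Submodule.mem_sup.1 (show x ∈ LinearMap.ker (h.blk q C) ⊔ LinearMap.range (h.blk q C)
      by rw [hC.compl.sup_eq_top]; exact Submodule.mem_top)
    obtain ⟨z, hz⟩ := hb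
    obtain ⟨a', ha', b', hb', e'⟩ := Submodule.mem_sup.1 (show z ∈ LinearMap.ker (h.blk q C) ⊔ LinearMap.range (h.blk q C)
      by rw [hC.compl.sup_eq_top]; exact Submodule.mem_top)
    refine ⟨b', hb', ?_⟩
    rw [show x - h.blk q C b' = a by rw [← e, ← hz, ← e', map_add, LinearMap.mem_ker.1 ha', zero_add, add_sub_cancel_right]]
    exact ha
  obtain ⟨v, hv, ev⟩ := hsol (h.c q T)
  obtain ⟨u, hu, eu⟩ := hsol (h.c q (C T))
  refine ⟨u, hu, v, hv, T - h.Phi q C (u, v), ⟨?_, ?_⟩, (add_sub_cancel _ _).symm⟩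
  · show h.c q (C (T - _)) = 0
    rw [map_sub, h.C_Phi hC.sq, map_sub, h.c_Phi]
    -- the difference lies in the kernel and is orthogonal to it
    refine h.ext_f fun x => ?_
    rw [map_zero]
    obtain ⟨a, ha, b, ⟨z, hz⟩, e⟩ := Submodule.mem_sup.1 (show x ∈ LinearMap.ker (h.blk q C) ⊔ LinearMap.range (h.blk q C)
      by rw [hC.compl.sup_eq_top]; exact Submodule.mem_top)
    rw [← e, ← hz, map_add, LinearMap.add_apply, hC.self_adj, eu, map_zero, add_zero, map_sub, ← hC.self_adj,
      LinearMap.mem_ker.1 ha, map_zero, LinearMap.zero_apply, sub_zero, h.pol_c]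
    have := hC.skew (h.tp a q) T
    rwa [hC.kill a ha, map_zero, LinearMap.zero_apply, zero_add] at this
  · show h.blk q C (h.c q (T - _)) = 0
    rw [map_sub, h.c_Phi]; exact ev

theorem Good.blk_inj {u : U} (hu : u ∈ LinearMap.range (h.blk q C)) (e : h.blk q C u = 0) : u = 0 :=
  (Submodule.disjoint_def.1 hC.compl.disjoint) u e hu

theorem Good.Phi_eq_zero {u v : U} (hv : v ∈ LinearMap.range (h.blk q C)) (e : h.Phi q C (u, v) = 0) :
    u = 0 ∧ v = 0 := by
  have e' := congrArg (h.c q) e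
  rw [h.c_Phi, map_zero] at e'
  obtain rfl := hC.blk_inj hv e'
  rw [h.Phi_apply, map_zero, LinearMap.zero_apply, map_zero, add_zero] at e
  exact ⟨h.tp_injective hC.q_ne (e.trans (map_zero (h.tp.flip q)).symm), rfl⟩

theorem Good.Phi_inj {u v u' v' : U} (hv : v ∈ LinearMap.range (h.blk q C)) (hv' : v' ∈ LinearMap.range (h.blk q C))
    (e : h.Phi q C (u, v) = h.Phi q C (u', v')) : u = u' ∧ v = v' := by
  have := hC.Phi_eq_zero (u := u - u') (v := v - v') (Submodule.sub_mem _ hv hv') (by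
    rw [show (u - u', v - v') = ((u, v) - (u', v')) from rfl, map_sub, e, sub_self])
  exact ⟨sub_eq_zero.1 this.1, sub_eq_zero.1 this.2⟩

theorem Good.not_killed : ∃ T ∈ h.V₂ q C, h.blk q C (h.c q T) = 0 ∧
    (LinearMap.ker (h.blk q C) ≠ ⊥ → h.c q T ≠ 0) := by
  by_cases h0 : LinearMap.ker (h.blk q C) = ⊥
  · exact ⟨0, zero_mem _, by simp, fun e => absurd h0 e⟩
  obtain ⟨x, hx, hx0⟩ := Submodule.exists_mem_ne_zero_of_ne_bot h0
  obtain ⟨w, hw⟩ := h.exists_g_one hC.q_ne
  obtain ⟨u, hu, v, hv, T₂, hT₂, e⟩ := hC.decomp (h.tp x (-w))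
  refine ⟨T₂, hT₂, hT₂.2, fun _ e2 => hx0 ?_⟩
  have e' := congrArg (h.c q) e
  rw [map_add, e2, add_zero, h.c_Phi, h.c_tp, map_neg, h.g_swap, hw, neg_neg, one_smul] at e'
  exact (Submodule.disjoint_def.1 hC.compl.disjoint) x hx ⟨v, e'.symm⟩

variable (hG : h.Gens M) (h2 : (2 : F) ≠ 0) (h3 : 3 ≤ Module.finrank F U) (hno : ¬ h.Non M)

include hG h2 h3 hno

/-- An element fixing the line which moves little lies in the root group. -/
theorem Good.in_root {y : V ≃ₗ[F] V} (hy : y ∈ M) (hfix : ∀ u, y (h.tp u q) = h.tp u q)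
    (hr : ∀ T, ∃ T', ∃ u, h.c q (C T') = 0 ∧ y T = T + h.tp u q + C T') :
    ∃ s : F, ∀ T, y T = T + s • h.P q q 1 T := by
  haveI : Nontrivial U := Module.nontrivial_of_finrank_pos (R := F) (by omega)
  obtain ⟨ρ, hρ⟩ := fixA hG h2 h3 hno hC.q_ne hy hfix
  set Y : Submodule F V := LinearMap.range C ⊓ LinearMap.ker (h.c q) with hY
  have hYlt : Module.finrank F Y < Module.finrank F U := by
    rw [← hC.rank]
    refine Submodule.finrank_lt_finrank_of_lt (lt_of_le_of_ne inf_le_left fun e => hC.ne ?_)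
    refine LinearMap.ext fun u => ?_
    have : C (h.tp u q) ∈ Y := by rw [e]; exact ⟨_, rfl⟩
    exact this.2
  have hx : ∀ x, ρ x - x ∈ Submodule.span F {q} := fun x => by
    by_contra hn
    have hd : ∀ u, h.tp u (ρ x - x) ∈ h.A q ⊔ Y := fun u => by
      obtain ⟨T', u', hT', e⟩ := hr (h.tp u x)
      rw [hρ, add_assoc, ← sub_eq_iff_eq_add', ← map_sub] at e
      rw [e]
      exact Submodule.add_mem_sup (h.tp_mem_A _ q) ⟨⟨T', rfl⟩, hT'⟩
    obtain ⟨z, hz, hz'⟩ := h.exists_perp_one hn
    have hinj : Function.Injective (((h.A q).mkQ) ∘ₗ h.tp.flip (ρ x - x)) :=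
      (injective_iff_map_eq_zero _).2 fun u e => by_contra fun hu =>
        hn (h.tp_mem_A_iff hu ((Submodule.Quotient.mk_eq_zero _).1 e))
    have h1 := Submodule.finrank_mono (show LinearMap.range (((h.A q).mkQ) ∘ₗ h.tp.flip (ρ x - x)) ≤
        Y.map (h.A q).mkQ from by
      rintro _ ⟨u, rfl⟩
      obtain ⟨a, ha, b, hb, e⟩ := Submodule.mem_sup.1 (hd u)
      refine ⟨b, hb, ?_⟩
      rw [LinearMap.comp_apply, LinearMap.flip_apply, ← e, map_add]
      simp [(Submodule.Quotient.mk_eq_zero _).2 ha])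
    rw [LinearMap.finrank_range_of_inj hinj] at h1
    have h2' := Submodule.finrank_map_le (h.A q).mkQ Y
    omega
  obtain ⟨w, hw⟩ := h.exists_g_one hC.q_ne
  have hwq : h.gW q (-w) = 1 := by rw [map_neg, h.g_swap, hw, neg_neg]
  choose φ hφ using fun x => Submodule.mem_span_singleton.1 (hx x)
  have hρx : ∀ x, ρ x = x + φ x • q := fun x => by rw [hφ, add_sub_cancel]
  obtain ⟨u₀, hu₀⟩ := exists_ne (0 : U)
  obtain ⟨a₀, ha₀⟩ : ∃ a, h.fU a u₀ ≠ 0 := by
    by_contra e
    push Not at e
    exact hu₀ (h.fnd.2 u₀ e)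
  have hpres : ∀ x z, φ x * h.gW q z + φ z * h.gW x q = 0 := fun x z => by
    have e := hG.le y hy (h.tp a₀ x) (h.tp u₀ z)
    rw [hρ, hρ, h.pol, h.pol] at e
    have e' := mul_left_cancel₀ ha₀ e
    rw [hρx, hρx] at e'
    simp only [map_add, map_smul, LinearMap.add_apply, LinearMap.smul_apply, smul_eq_mul, h.g_self] at e'
    linear_combination e'
  refine ⟨φ (-w), LinearMap.congr_fun (h.ext_tp (φ := y.toLinearMap) (ψ := 1 + φ (-w) • h.P q q 1) fun u x => ?_)⟩
  have := hpres x (-w)
  rw [hwq, mul_one] at this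
  simp only [LinearEquiv.coe_coe, hρ, hρx, map_add, map_smul, LinearMap.add_apply, Module.End.one_apply,
    LinearMap.smul_apply, P_apply, h.c_tp, smul_smul]
  rw [eq_neg_of_add_eq_zero_left this, h.g_swap q x]
  module

end TBil

end CfsgLib.TensorMax.Pair
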