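import Cfsg.Agent.Lib.TensorMax.Pair.Factor
import Cfsg.Agent.Lib.TensorMax.Pair.Full
import Cfsg.Agent.Lib.OrthMax.TensorSp.Bridge
import Cfsg.Agent.Lib.Maximal.SpTv

/-!
The stabiliser of a tensor product of a symplectic and an orthogonal space is maximal.
-/

set_option autoImplicit false
set_option linter.unusedSectionVars false
set_option linter.unusedVariables false
set_option linter.unusedSimpArgs false

namespace CfsgLib.TensorMax.Pair

open Cfsg Cfsg.Geo CfsgLib.AschbacherOrth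
open CfsgLib.Geometry (glEquiv glEquiv_apply glEquiv_symm_mulVec)
open CfsgLib.Maximal (stv stv_mulVec stv_mem_spGL mem_spGL_iff sf_exists fvec)
open scoped Matrix MatrixGroups

variable {F : Type*} [Field F] [Fintype F]

/-- An element with prescribed factors. -/
theorem exists_factor {ι : Type} [Fintype ι] [DecidableEq ι] {n₁ n₂ : ℕ} (e : ι ≃ Fin n₁ × Fin n₂) (P : GL ι F)
    (A : GL (Fin n₁) F) (B : GL (Fin n₂) F) :
    ∃ g ∈ tensorProductSubgroup n₁ n₂ e P, ∀ x y, (g : Matrix ι ι F) *ᵥ pureVec e P x y =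
      pureVec e P ((A : Matrix (Fin n₁) (Fin n₁) F) *ᵥ x) ((B : Matrix (Fin n₂) (Fin n₂) F) *ᵥ y) := by
  refine ⟨MulAut.conj P (glReindex e.symm (AschbacherForm.kronGL A B)), ⟨_, ⟨_, ⟨A, B, rfl⟩, rfl⟩, rfl⟩,
    mulVec_pureVec e P _ ?_⟩
  rw [AschbacherForm.coordR_gl, MulAut.conj_apply]
  congr 1
  refine Units.ext ?_
  ext i j
  simp [glReindex, mul_assoc]

theorem pureVec_comm {ι : Type} [Fintype ι] [DecidableEq ι] {n₁ n₂ : ℕ} (e : ι ≃ Fin n₁ × Fin n₂) (P : GL ι F)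
    (x : Fin n₁ → F) (y : Fin n₂ → F) : pureVec (e.trans (Equiv.prodComm _ _)) P y x = pureVec e P x y := by
  unfold pureVec
  congr 1
  funext a
  simp [mul_comm]

theorem maximal_sp_gen (m : ℕ) (hm : 0 < m) (hodd : Odd (Fintype.card F)) (n₁ n₂ : ℕ) (hn₂ : 3 ≤ n₂)
    (h5 : n₁ = 2 → 5 ≤ n₂ ∨ (5 ≤ Fintype.card F ∧ n₂ = 3))
    (hex : ¬ (Fintype.card F = 3 ∧ n₂ = 3)) (e : (Fin m ⊕ Fin m) ≃ Fin n₁ × Fin n₂) (P : GL (Fin m ⊕ Fin m) F)
    (f₁ : (Fin n₁ → F) → (Fin n₁ → F) → F) (f₂ : (Fin n₂ → F) → (Fin n₂ → F) → F) (hf₁ : IsSymplecticForm f₁)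
    (hf₂ : IsSymmetricForm f₂) (hT : IsTensorFormStructure id (sympForm m F) f₁ f₂ e P) :
    IsMaximalIn (spGL m F) (tensorProductSubgroup n₁ n₂ e P ⊓ spGL m F) := by
  classical
  obtain ⟨c, hc, hform⟩ := hT
  have hcard := Fintype.card_congr e
  simp only [Fintype.card_sum, Fintype.card_prod, Fintype.card_fin] at hcard
  obtain ⟨k₁, hk₁⟩ : Even n₁ := by simpa using Aschbacher.even_of_symplectic hf₁
  have hn₁ : 2 ≤ n₁ := by
    rcases Nat.eq_zero_or_pos n₁ with h0 | h0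
    · subst h0; omega
    · omega
  have h2 : (2 : F) ≠ 0 := Ring.two_ne_zero fun e => by
    have h1 := FiniteField.even_card_of_char_two e
    have := Nat.odd_iff.1 hodd
    omega
  set B := CfsgLib.Geometry.sympBilin m F with hBdef
  have hpol : ∀ x x' y y', B (pureVec e P x y) (pureVec e P x' y') = c * (f₁ x x' * f₂ y y') := fun x x' y y' => by
    rw [hBdef, CfsgLib.Geometry.sympBilin_apply, pureVec, pureVec, hform, AschbacherForm.Cases.form_pure]
    congr 2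
    · exact (congrFun (congrFun (Aschbacher.bilinear_eq_gram hf₁.bilinear) x) x').symm
    · exact (congrFun (congrFun (Aschbacher.bilinear_eq_gram hf₂.bilinear) y) y').symm
  let h : TBil B (Fin n₂ → F) (Fin n₁ → F) :=
    { tp := (TensorSp.pureMap e P).flip
      fU := c • TensorSp.bil hf₂.bilinear
      gW := TensorSp.bil hf₁.bilinear
      bAlt := CfsgLib.Geometry.sympBilin_isAlt m F
      bnd := CfsgLib.Geometry.sympBilin_nondegenerate m F
      fSym := fun u x => by simp [TensorSp.bil, hf₂.symm u x]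
      gAlt := fun x => hf₁.alternating x
      fnd := ⟨fun x hx => by_contra fun hne => by
          obtain ⟨-, y, hy⟩ := hf₂.nondegenerate x hne
          exact hy (by simpa [hc, TensorSp.bil] using hx y),
        fun x hx => by_contra fun hne => by
          obtain ⟨⟨y, hy⟩, -⟩ := hf₂.nondegenerate x hne
          exact hy (by simpa [hc, TensorSp.bil] using hx y)⟩
      gnd := TensorSp.bil_nondeg hf₁
      pol := fun u u' w w' => (hpol w w' u u').trans (by simp [TensorSp.bil]; ring)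
      sep := fun T hT' => (CfsgLib.Geometry.sympBilin_nondegenerate m F).2 T fun y => by
        have hz : B.flip T ∘ₗ Matrix.toLin' (P : Matrix (Fin m ⊕ Fin m) (Fin m ⊕ Fin m) F) = 0 :=
          LinearMap.pi_ext' fun k => LinearMap.ext_ring (by
            show B (Matrix.toLin' (P : Matrix (Fin m ⊕ Fin m) (Fin m ⊕ Fin m) F) (Pi.single k 1)) T = 0
            rw [Matrix.toLin'_apply, ← TensorSp.pureVec_single e P k]
            exact hT' _ _)
        have := LinearMap.congr_fun hz (((P⁻¹ : GL (Fin m ⊕ Fin m) F) : Matrix (Fin m ⊕ Fin m) (Fin m ⊕ Fin m) F) *ᵥ y)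
        simp only [LinearMap.comp_apply, Matrix.toLin'_apply, Matrix.mulVec_mulVec, Units.mul_inv,
          Matrix.one_mulVec, LinearMap.zero_apply] at this
        exact this }
  have htp : ∀ u w, h.tp u w = pureVec e P w u := fun u w => rfl
  refine ⟨lt_of_le_of_ne inf_le_right fun he => ?_, fun M hHM hMK => ?_⟩
  · obtain ⟨i⟩ : Nonempty (Fin m) := ⟨⟨0, by omega⟩⟩
    set w : Fin m ⊕ Fin m → F := Pi.single (Sum.inl i) 1
    have hw0 : w ≠ 0 := fun e0 => by simpa [w] using congrFun e0 (Sum.inl i)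
    obtain ⟨y, hy⟩ := sf_exists w hw0
    have hmem := (he.symm ▸ stv_mem_spGL (1 : F) w : stv (1 : F) w ∈ tensorProductSubgroup n₁ n₂ e P ⊓ spGL m F).1
    refine NotMax.tv_not_tensor hn₁ (by omega) e P (a := (1 : F) • w) (φ := fvec (sympForm m F) w)
      (by rwa [one_smul]) (fun h0 => ?_) (fun x => CfsgLib.Maximal.tv_mulVec _ _ _ x) hmem
    have := CfsgLib.Maximal.sf_dot w y
    rw [h0, zero_dotProduct, CfsgLib.Maximal.sf_skew, hy] at this
    exact one_ne_zero (by linear_combination this : (1 : F) = 0)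
  set N := M.comap (glEquiv (ι := Fin m ⊕ Fin m) (F := F)).symm.toMonoidHom
  have hle : ∀ k ∈ N, ∀ S T, B (k S) (k T) = B S T := fun k hk S T => by
    have := (mem_spGL_iff _).1 (hMK hk) S T
    simpa [hBdef, glEquiv_symm_mulVec] using this
  have hfac : ∀ (A : GL (Fin n₁) F) (C : GL (Fin n₂) F), (∀ u u' w w', h.fU ((C : Matrix _ _ F) *ᵥ u)
      ((C : Matrix _ _ F) *ᵥ u') * h.gW ((A : Matrix _ _ F) *ᵥ w) ((A : Matrix _ _ F) *ᵥ w') = h.fU u u' * h.gW w w') →
      ∃ k ∈ N, ∀ u w, k (h.tp u w) = h.tp ((C : Matrix _ _ F) *ᵥ u) ((A : Matrix _ _ F) *ᵥ w) := fun A C hAC => by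
    obtain ⟨g, hg, hgp⟩ := exists_factor e P A C
    refine ⟨glEquiv g, ?_, fun u w => by rw [glEquiv_apply, htp, hgp]; rfl⟩
    show glEquiv.symm (glEquiv g) ∈ M
    rw [MulEquiv.symm_apply_apply]
    refine hHM ⟨hg, (mem_spGL_iff g).2 fun x y => ?_⟩
    have key : B.compl₁₂ (glEquiv g).toLinearMap (glEquiv g).toLinearMap = B := h.ext_tp fun u w => h.ext_tp fun u' w' => by
      show B ((g : Matrix _ _ F) *ᵥ h.tp u w) ((g : Matrix _ _ F) *ᵥ h.tp u' w') = B (h.tp u w) (h.tp u' w')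
      rw [htp, htp, hgp, hgp, ← htp, ← htp, ← htp, ← htp, h.pol, h.pol, hAC]
    exact LinearMap.congr_fun (LinearMap.congr_fun key x) y
  have hG : h.Gens N := by
    refine ⟨hle, fun γ hγ => ?_, fun ρ hρ => ?_⟩
    · obtain ⟨k, hk, ek⟩ := hfac 1 (glEquiv.symm γ) fun u u' w w' => by
        rw [glEquiv_symm_mulVec, glEquiv_symm_mulVec, hγ, Units.val_one, Matrix.one_mulVec, Matrix.one_mulVec]
      exact ⟨k, hk, fun u w => by rw [ek, glEquiv_symm_mulVec, Units.val_one, Matrix.one_mulVec]⟩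
    · obtain ⟨k, hk, ek⟩ := hfac (glEquiv.symm ρ) 1 fun u u' w w' => by
        rw [glEquiv_symm_mulVec, glEquiv_symm_mulVec, hρ, Units.val_one, Matrix.one_mulVec, Matrix.one_mulVec]
      exact ⟨k, hk, fun u w => by rw [ek, glEquiv_symm_mulVec, Units.val_one, Matrix.one_mulVec]⟩
  have h3 : 3 ≤ Module.finrank F (Fin n₂ → F) := by simpa using hn₂
  by_cases hno : h.Non N
  · refine Or.inr (le_antisymm hMK (CfsgLib.Maximal.spGL_le_of_stv fun k w => ?_))
    have hexU : 4 ≤ Module.finrank F (Fin n₂ → F) ∨ ∃ s : F, s ≠ 0 ∧ s * s ≠ 1 := by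
      by_cases h4 : 4 ≤ n₂
      · exact Or.inl (by simpa using h4)
      refine Or.inr ?_
      by_contra hcon
      push Not at hcon
      exact hex ⟨card_three h2 hcon, by omega⟩
    obtain ⟨g, hg, eg⟩ := TBil.all_TV hG h2 h3 hexU hno w (-k)
    convert (show glEquiv.symm g ∈ M from hg) using 1
    refine Units.ext (CfsgLib.Geometry.matrix_eq_of_mulVec fun v => ?_)
    rw [stv_mulVec, glEquiv_symm_mulVec, eg]
    simp [hBdef, smul_smul, CfsgLib.Maximal.sf_skew v w]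
  · refine Or.inl (le_antisymm (fun x hx => ⟨?_, hMK hx⟩) hHM)
    have hW : Module.finrank F (Fin n₁ → F) ≤ 2 → 5 ≤ Module.finrank F (Fin n₂ → F) ∨
        (5 ≤ Fintype.card F ∧ Module.finrank F (Fin n₂ → F) = 3) := by
      intro hW
      simp only [Module.finrank_fin_fun] at hW ⊢
      exact h5 (by omega)
    have hx' : x ∈ tensorProductSubgroup n₂ n₁ (e.trans (Equiv.prodComm _ _)) P := by
      refine TensorSp.mem_tensor_of_lines (by omega) (by omega) _ P fun y hy => ?_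
      obtain ⟨y', hy', hmap⟩ := TBil.map_line hG h2 h3 hno hW (g := glEquiv x)
        (show glEquiv.symm (glEquiv x) ∈ M by rwa [MulEquiv.symm_apply_apply]) hy
      refine ⟨y', hy', fun u => ?_⟩
      obtain ⟨u', hu'⟩ : glEquiv x (h.tp u y) ∈ h.A y' := by rw [← hmap]; exact ⟨_, h.tp_mem_A u y, rfl⟩
      refine ⟨u', ?_⟩
      rw [pureVec_comm, pureVec_comm, ← htp, ← htp]
      exact hu'
    obtain ⟨A, C, hAC⟩ := NotMax.tensor_coord hx'
    refine TensorSp.mem_tensor_of_pure e P C A fun w u => ?_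
    rw [← pureVec_comm e P w u, mulVec_pureVec _ P x (A := A) (B := C) hAC, pureVec_comm]

theorem maximal_sp_of_le (m : ℕ) (hm : 0 < m) (hodd : Odd (Fintype.card F)) (n₁ n₂ : ℕ) (hn₂ : 3 ≤ n₂) (h5 : n₁ = 2 → 5 ≤ n₂)
    (hex : ¬ (Fintype.card F = 3 ∧ n₂ = 3)) (e : (Fin m ⊕ Fin m) ≃ Fin n₁ × Fin n₂) (P : GL (Fin m ⊕ Fin m) F)
    (f₁ : (Fin n₁ → F) → (Fin n₁ → F) → F) (f₂ : (Fin n₂ → F) → (Fin n₂ → F) → F) (hf₁ : IsSymplecticForm f₁)
    (hf₂ : IsSymmetricForm f₂) (hT : IsTensorFormStructure id (sympForm m F) f₁ f₂ e P) :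
    IsMaximalIn (spGL m F) (tensorProductSubgroup n₁ n₂ e P ⊓ spGL m F) :=
  maximal_sp_gen m hm hodd n₁ n₂ hn₂ (fun h => Or.inl (h5 h)) hex e P f₁ f₂ hf₁ hf₂ hT

theorem maximal_sp (m : ℕ) (hm : 7 ≤ m) (hodd : Odd (Fintype.card F)) (n₁ n₂ : ℕ) (hn₂ : 3 ≤ n₂)
    (hex : ¬ (Fintype.card F = 3 ∧ n₂ = 3)) (e : (Fin m ⊕ Fin m) ≃ Fin n₁ × Fin n₂) (P : GL (Fin m ⊕ Fin m) F)
    (f₁ : (Fin n₁ → F) → (Fin n₁ → F) → F) (f₂ : (Fin n₂ → F) → (Fin n₂ → F) → F) (hf₁ : IsSymplecticForm f₁)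
    (hf₂ : IsSymmetricForm f₂) (hT : IsTensorFormStructure id (sympForm m F) f₁ f₂ e P) :
    IsMaximalIn (spGL m F) (tensorProductSubgroup n₁ n₂ e P ⊓ spGL m F) := by
  refine maximal_sp_of_le m (by omega) hodd n₁ n₂ hn₂ (fun h => ?_) hex e P f₁ f₂ hf₁ hf₂ hT
  have hcard := Fintype.card_congr e
  simp only [Fintype.card_sum, Fintype.card_prod, Fintype.card_fin] at hcard
  subst h
  omega

end CfsgLib.TensorMax.Pair
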