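import Cfsg.Agent.Lib.TensorMax.Pair.Core

/-!
Elements fixing a line of pure tensors pointwise.
-/

set_option autoImplicit false
set_option linter.unusedSectionVars false
set_option linter.unusedVariables false
set_option linter.unusedSimpArgs false

namespace CfsgLib.TensorMax.Pair

open LinearMap (BilinForm)

variable {F V U W : Type*} [Field F] [AddCommGroup V] [Module F V] [AddCommGroup U] [Module F U]
  [AddCommGroup W] [Module F W]
variable [FiniteDimensional F V] [FiniteDimensional F U] [FiniteDimensional F W]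
variable {B : BilinForm F V} {M : Subgroup (V ≃ₗ[F] V)}

namespace TBil

variable (h : TBil B U W)

/-- A root group of the symplectic factor with a non-scalar coefficient. -/
def Non (M : Subgroup (V ≃ₗ[F] V)) : Prop :=
  ∃ q : W, q ≠ 0 ∧ ∃ D : Module.End F U, In M (h.P q q D) ∧ ∀ s : F, D ≠ s • 1

/-- The reflection at an anisotropic vector. -/
def reflU (a : U) (ha : h.fU a a ≠ 0) : U ≃ₗ[F] U :=
  LinearEquiv.ofInvolutive (1 + (-(2 / h.fU a a)) • h.rk a a) fun u => by
    simp only [LinearMap.add_apply, Module.End.one_apply, LinearMap.smul_apply, rk_apply, smul_smul, map_add,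
      map_smul, smul_eq_mul]
    match_scalars <;> field_simp <;> ring

theorem reflU_apply (a : U) (ha : h.fU a a ≠ 0) (u : U) :
    h.reflU a ha u = u + (-(2 / h.fU a a) * h.fU a u) • a := by
  simp [reflU, rk_apply, smul_smul]

theorem reflU_isom (a : U) (ha : h.fU a a ≠ 0) (u x : U) : h.fU (h.reflU a ha u) (h.reflU a ha x) = h.fU u x := by
  simp only [reflU_apply, map_add, LinearMap.add_apply, map_smul, LinearMap.smul_apply, smul_eq_mul, h.fSym u a]
  field_simp
  ring

/-- The anisotropic vectors span. -/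
theorem span_aniso (h2 : (2 : F) ≠ 0) [Nontrivial U] : Submodule.span F {a : U | h.fU a a ≠ 0} = ⊤ := by
  obtain ⟨a₀, ha₀⟩ : ∃ a, h.fU a a ≠ 0 := by
    by_contra e
    push Not at e
    obtain ⟨u, hu⟩ := exists_ne (0 : U)
    refine hu (h.fnd.1 u fun x => ?_)
    have e1 := e (u + x)
    simp only [map_add, LinearMap.add_apply, e u, e x, h.fSym x u, zero_add, add_zero] at e1
    exact (mul_eq_zero.1 (show (2 : F) * h.fU u x = 0 by linear_combination e1)).resolve_left h2
  refine eq_top_iff.2 fun v _ => ?_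
  by_cases hv : h.fU v v = 0
  · have hmem : ∀ s : F, s ≠ 0 → h.fU (v + s • a₀) (v + s • a₀) ≠ 0 →
        v ∈ Submodule.span F {a : U | h.fU a a ≠ 0} := fun s hs hn => by
      have := Submodule.sub_mem _ (Submodule.subset_span hn) (Submodule.smul_mem _ s (Submodule.subset_span
        (show a₀ ∈ {a : U | h.fU a a ≠ 0} from ha₀)))
      simpa using this
    by_cases h1 : h.fU (v + (1 : F) • a₀) (v + (1 : F) • a₀) = 0
    · refine hmem (-1) (by simp) fun e => ?_
      simp only [map_add, LinearMap.add_apply, map_smul, LinearMap.smul_apply, smul_eq_mul, hv, h.fSym a₀ v] at h1 e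
      exact (mul_ne_zero h2 ha₀) (by linear_combination h1 + e)
    · exact hmem 1 one_ne_zero h1
  · exact Submodule.subset_span hv

/-- A skew endomorphism whose conjugates have scalar anticommutators with it vanishes. -/
theorem skew_scalar (h2 : (2 : F) ≠ 0) (h3 : 3 ≤ Module.finrank F U) {K : Module.End F U}
    (hK : ∀ u x, h.fU (K u) x = - h.fU u (K x))
    (hc : ∀ γ : U ≃ₗ[F] U, (∀ u x, h.fU (γ u) (γ x) = h.fU u x) → ∀ E : Module.End F U,
      (∀ u, E (γ u) = γ (K u)) → ∃ s : F, K * E + E * K = s • 1) : K = 0 := by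
  haveI : Nontrivial U := Module.nontrivial_of_finrank_pos (R := F) (by omega)
  obtain ⟨σ, hσ⟩ := hc (LinearEquiv.refl F U) (fun _ _ => rfl) K (fun _ => rfl)
  refine LinearMap.ext_on (h.span_aniso h2) fun a ha => ?_
  rw [LinearMap.zero_apply]
  set r := h.reflU a ha with hr
  set E : Module.End F U := r.toLinearMap ∘ₗ K ∘ₗ r.toLinearMap with hE
  have hrr : ∀ u, r (r u) = u := fun u => r.symm_apply_apply u
  obtain ⟨s, hs⟩ := hc r (h.reflU_isom a ha) E fun u => by simp [hE, hrr]
  set c : F := 2 / h.fU a a with hcdef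
  have hc0 : c ≠ 0 := div_ne_zero h2 ha
  have hap : h.fU a (K a) = 0 := by
    have := hK a a
    rw [h.fSym (K a) a] at this
    exact (mul_eq_zero.1 (show (2 : F) * h.fU a (K a) = 0 by linear_combination this)).resolve_left h2
  have haK : ∀ u, h.fU a (K u) = - h.fU (K a) u := fun u => by rw [hK, neg_neg]
  have hΔ : ∀ u, (K - E) u = c • (h.fU a u • K a - h.fU (K a) u • a) := fun u => by
    simp only [hE, LinearMap.sub_apply, LinearMap.comp_apply, LinearEquiv.coe_coe, hr, reflU_apply, map_add, map_smul,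
      smul_eq_mul, hap, haK, hcdef]
    module
  have hsq : (K - E) * (K - E) = (σ / 2 + σ / 2 - s) • (1 : Module.End F U) := by
    have hKK : K * K = (σ / 2) • (1 : Module.End F U) := by
      rw [div_eq_inv_mul, mul_smul, ← hσ, smul_add, ← add_smul, ← two_mul, mul_inv_cancel₀ h2, one_smul]
    have hEE : E * E = (σ / 2) • (1 : Module.End F U) := LinearMap.ext fun u => by
      have := LinearMap.congr_fun hKK (r u)
      simp only [Module.End.mul_apply, LinearMap.smul_apply, Module.End.one_apply] at this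
      simp [hE, hrr, this]
    rw [sub_smul, add_smul, ← hs, mul_sub, sub_mul, sub_mul]
    conv_rhs => enter [1, 1]; rw [← hKK]
    conv_rhs => enter [1, 2]; rw [← hEE]
    abel
  obtain ⟨x, hx, hx0⟩ : ∃ x, (h.fU a x = 0 ∧ h.fU (K a) x = 0) ∧ x ≠ 0 := by
    obtain ⟨x, hx, hx0⟩ := (LinearMap.ker ((h.fU a).prod (h.fU (K a)))).exists_mem_ne_zero_of_ne_bot fun e => by
      have := LinearMap.finrank_le_finrank_of_injective (LinearMap.ker_eq_bot.1 e)
      simp at this
      omega
    exact ⟨x, ⟨congrArg Prod.fst (LinearMap.mem_ker.1 hx), congrArg Prod.snd (LinearMap.mem_ker.1 hx)⟩, hx0⟩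
  have hμ : σ / 2 + σ / 2 - s = 0 := by
    have := LinearMap.congr_fun hsq x
    rw [Module.End.mul_apply, hΔ x, hx.1, hx.2] at this
    simpa [hx0] using this.symm
  rw [hμ, zero_smul] at hsq
  have hpp : h.fU (K a) (K a) = 0 := by
    have := LinearMap.congr_fun hsq a
    rw [Module.End.mul_apply, hΔ a, h.fSym (K a) a, hap, zero_smul, sub_zero, map_smul, map_smul, hΔ, hap,
      zero_smul, zero_sub] at this
    simp [hc0, ha] at this
    rcases this with h' | h' <;> first | exact h' | exact absurd h' ha | skip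
    all_goals rcases h' with h' | h' <;> first | exact h' | exact absurd h' ha | exact absurd (by simp [h']) ha
  by_contra hp
  obtain ⟨y, hy⟩ : ∃ y, h.fU (K a) y ≠ 0 := by
    by_contra e
    push Not at e
    exact hp (h.fnd.1 _ e)
  have := LinearMap.congr_fun hsq y
  rw [Module.End.mul_apply, hΔ y, map_smul, map_sub, map_smul, map_smul, hΔ, hΔ, hpp, hap, h.fSym (K a) a, hap] at this
  simp [hc0, hp, hy, ha] at this
  all_goals exact ha this

variable (q : W)

/-- An element of the root group data at `q`. -/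
noncomputable def Z (v : W) (D D' E : Module.End F U) : Module.End F V := h.P q v D + h.P v q D' + h.P q q E

variable {h}
variable (hG : h.Gens M)

include hG

omit hG in
theorem Z_mul {a b : W} (ha : h.gW q a = 0) (hb : h.gW q b = 0) (D D' E₁ E E' E₂ : Module.End F U) :
    h.Z q a D D' E₁ * h.Z q b E E' E₂ = h.gW a b • h.P q q (D * E') := by
  simp [Z, add_mul, mul_add, P_mul, h.g_self, ha, hb, h.g_swap_zero ha, h.g_swap_zero hb]

/-- The commutator of two such elements. -/
theorem Z_comm {a b : W} (ha : h.gW q a = 0) (hb : h.gW q b = 0) (hab : h.gW a b = 1)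
    {D D' E₁ E E' E₂ : Module.End F U} (hX : In M (h.Z q a D D' E₁)) (hY : In M (h.Z q b E E' E₂)) :
    In M (h.P q q (D * E' + E * D')) := by
  have hba : h.gW b a = -1 := by rw [h.g_swap, hab]
  have hXX : h.Z q a D D' E₁ * h.Z q a D D' E₁ = 0 := by rw [Z_mul q ha ha, h.g_self, zero_smul]
  have hYY : h.Z q b E E' E₂ * h.Z q b E E' E₂ = 0 := by rw [Z_mul q hb hb, h.g_self, zero_smul]
  have e1 : h.P q q (D * E') * h.Z q a D D' E₁ = 0 := by
    simp [Z, mul_add, P_mul, h.g_self, ha]
  have e2 : ∀ G : Module.End F U, h.P q q G * h.Z q b E E' E₂ = 0 := fun G => by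
    simp [Z, mul_add, P_mul, h.g_self, hb]
  have := hX.comm hY hXX hYY (by rw [Z_mul q ha hb, hab, one_smul, e1])
    (by rw [Z_mul q ha hb, Z_mul q hb ha, hab, hba, one_smul, neg_one_smul, sub_neg_eq_add, add_mul, e2, e2,
      add_zero])
  rwa [Z_mul q ha hb, Z_mul q hb ha, hab, hba, one_smul, neg_one_smul, sub_neg_eq_add, ← P_add] at this

/-- The radical elements are scalar or give a non-scalar root group. -/
theorem radical (h2 : (2 : F) ≠ 0) (h3 : 3 ≤ Module.finrank F U) (hno : ¬ h.Non M) {q : W} (hq : q ≠ 0)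
    {X : Module.End F V} (hX : In M X) (hA : ∀ u, X (h.tp u q) = 0)
    (hP : ∀ u v, h.gW v q = 0 → X (h.tp u v) ∈ h.A q) (hV : ∀ T, h.c q (X T) = 0) :
    ∃ κ : Module.End F W, ∀ u y, X (h.tp u y) = h.tp u (κ y) := by
  haveI : Nontrivial U := Module.nontrivial_of_finrank_pos (R := F) (by omega)
  have hsc : ∀ D, In M (h.P q q D) → ∃ s : F, D = s • 1 := fun D hD => by
    by_contra e
    push Not at e
    exact hno ⟨q, hq, D, hD, e⟩
  obtain ⟨w₁, hw₁⟩ := h.exists_g_one hq
  have hw2 : h.gW q (-w₁) = 1 := by rw [map_neg, h.g_swap, hw₁, neg_neg]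
  obtain ⟨u₀, hu₀⟩ := exists_ne (0 : U)
  obtain ⟨a, ha⟩ : ∃ a, h.fU a u₀ = 1 := by
    obtain ⟨a, ha⟩ : ∃ a, h.fU a u₀ ≠ 0 := by
      by_contra e
      push Not at e
      exact hu₀ (h.fnd.2 u₀ e)
    exact ⟨(h.fU a u₀)⁻¹ • a, by rw [map_smul, LinearMap.smul_apply, smul_eq_mul, inv_mul_cancel₀ ha]⟩
  let Λ : Module.Dual F W := h.fU a ∘ₗ h.c w₁ ∘ₗ X ∘ₗ h.tp u₀
  have hdiag : ∀ u v, h.gW v q = 0 → X (h.tp u v) = h.tp u (Λ v • q) := by
    intro u v hvq
    by_cases hm : v ∈ Submodule.span F {q}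
    · obtain ⟨s, rfl⟩ := Submodule.mem_span_singleton.1 hm
      have : Λ (s • q) = 0 := by simp [Λ, hA]
      rw [this, zero_smul, map_zero, map_smul, map_smul, hA, smul_zero]
    have hqv := h.g_swap_zero hvq
    let D : Module.End F U := h.c w₁ ∘ₗ X ∘ₗ h.tp.flip v
    have hD : ∀ u, X (h.tp u v) = h.tp (D u) q := fun u => by
      obtain ⟨y, hy⟩ := hP u v hvq
      simp only [D, LinearMap.comp_apply, LinearMap.flip_apply, ← hy]
      rw [h.c_tp, hw₁, one_smul]
    let D' : Module.End F U := - (h.c v ∘ₗ X ∘ₗ h.tp.flip (-w₁))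
    have key : ∀ u T, h.fU (D u) (h.c q T) + h.fU u (h.c v (X T)) = 0 := fun u T => by
      have := hX.form_eq hG.le (h.tp u v) T
      rw [hD, ← h.pol_c, ← h.pol_c, ← h.pol_c, hV, map_zero, add_zero] at this
      exact this
    have hadj : ∀ u x, h.fU (D u) x = h.fU u (D' x) := fun u x => by
      have := key u (h.tp x (-w₁))
      rw [h.c_tp, hw2, one_smul] at this
      rw [eq_neg_of_add_eq_zero_left this, ← map_neg]; rfl
    have hcX : ∀ T, h.c v (X T) = - D' (h.c q T) := fun T => h.ext_f fun u => by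
      rw [map_neg, ← hadj]
      linear_combination key u T
    have hPX : h.P v v 1 * X = - h.P v q D' := LinearMap.ext fun T => by simp [P_apply, hcX]
    have hXP : X * h.P v v 1 = h.P q v D := LinearMap.ext fun T => by simp [P_apply, hD]
    have hZ : In M (h.Z q v (-D) (-D') (-(D * D'))) := by
      obtain ⟨k, hk, ek⟩ := tau hG v 1
      have hconj : In M (X + h.P v v 1 * X - X * h.P v v 1) := hX.conj hk fun T => by
        rw [ek, ek]
        have e1 : h.P v v 1 (X T) = - h.P v q D' T := LinearMap.congr_fun hPX T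
        have e2 : X (h.P v v 1 T) = h.P q v D T := LinearMap.congr_fun hXP T
        simp only [one_smul, hPX, hXP, LinearMap.add_apply, LinearMap.sub_apply, LinearMap.neg_apply, map_add, e1, e2]
        simp [P_apply, hvq, hqv, h.g_self]
      refine hconj.div hX ?_
      rw [hPX, hXP, Z]
      refine LinearMap.ext fun T => ?_
      simp [P_apply, hcX, hV]
      abel
    obtain ⟨x, hxq, hxv⟩ := h.exists_perp_one hm
    have hb : h.gW q (-x) = 0 := by rw [map_neg, h.g_swap_zero hxq, neg_zero]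
    have hvb : h.gW v (-x) = 1 := by rw [map_neg, h.g_swap, hxv, neg_neg]
    have hbq : (-x) ∉ Submodule.span F {q} := fun hs => by
      obtain ⟨t, ht⟩ := Submodule.mem_span_singleton.1 hs
      rw [← ht, map_smul, hvq, smul_zero] at hvb
      exact zero_ne_one hvb
    have hN : ∀ (b : W), h.gW q b = 0 → ∀ t : F, In M (h.Z q b (t • 1) (t • 1) 0) := fun b hb t => by
      have := in_N hG (w := q) (a := t • b) (by rw [map_smul, hb, smul_zero])
      rwa [show h.Z q b (t • 1) (t • 1) 0 = h.N q (t • b) from LinearMap.ext fun T => by simp [Z, N, P_apply]]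
    obtain ⟨s₀, hs₀⟩ := hsc _ (Z_comm q hG hqv hb hvb hZ (hN (-x) hb 1))
    rw [one_smul, mul_one, one_mul] at hs₀
    set t : F := - s₀ / 2 with ht
    set K : Module.End F U := D - t • 1 with hKdef
    have hD'K : D' = t • 1 - K := by
      have h1 : D' = -(s₀ • 1) - D := by rw [← hs₀]; abel
      rw [h1, hKdef, ← neg_smul, show (-s₀ : F) = t + t by rw [ht]; field_simp; ring, add_smul]
      abel
    have hK : ∀ u x, h.fU (K u) x = - h.fU u (K x) := fun u x => by
      rw [hKdef, LinearMap.sub_apply, map_sub, LinearMap.sub_apply, hadj, hD'K]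
      simp [hKdef]
    have hZK : In M (h.Z q v (-K) K (-(D * D'))) := by
      have := hZ.add (hN v hqv t) (by rw [Z_mul q hqv hqv, h.g_self, zero_smul])
      rwa [show h.Z q v (-D) (-D') (-(D * D')) + h.Z q v (t • 1) (t • 1) 0 = h.Z q v (-K) K (-(D * D')) from
        LinearMap.ext fun T => by simp [Z, P_apply, hKdef, hD'K]; abel] at this
    have hK0 : K = 0 := h.skew_scalar h2 h3 hK fun γ hγ E hE => by
      obtain ⟨ρ, hρ, eq1, eq2⟩ := exists_move_fix hG hvq (h.g_swap_zero hb) hm hbq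
      obtain ⟨k, hk, ek, ec⟩ := exists_isoU hG γ hγ
      obtain ⟨l, hl, el, ecl⟩ := exists_isoW hG ρ hρ
      obtain ⟨G, hG'⟩ : ∃ G : Module.End F U, ∀ u, G (γ u) = γ ((-(D * D')) u) :=
        ⟨γ.toLinearMap ∘ₗ (-(D * D')) ∘ₗ γ.symm.toLinearMap, fun u => by simp⟩
      have h1 : In M (h.Z q (-x) (-E) E G) := hZK.conj (mul_mem hk hl) fun T => by
        have c1 : h.c q (l T) = h.c q T := by have := ecl q T; rwa [eq1] at this
        have c2 : h.c (-x) (l T) = h.c v T := by have := ecl v T; rwa [eq2] at this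
        show k (l _) = h.Z q (-x) (-E) E G (k (l T))
        simp only [Z, LinearMap.add_apply, P_apply, LinearMap.neg_apply, map_add, el, eq1, eq2, ek, ec, c1,
          c2, hE, hG']
        simp only [map_neg, LinearMap.neg_apply, ← hE]
      obtain ⟨s, hs⟩ := hsc _ (Z_comm q hG hqv hb hvb hZK h1)
      refine ⟨-s, ?_⟩
      rw [neg_smul, ← hs, neg_mul, neg_mul]
      abel
    have hDt : D = t • 1 := sub_eq_zero.1 (hKdef ▸ hK0)
    have hΛ : Λ v = t := by
      show h.fU a (D u₀) = t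
      rw [hDt, LinearMap.smul_apply, Module.End.one_apply, map_smul, ha, smul_eq_mul, mul_one]
    rw [hD, hDt, hΛ, LinearMap.smul_apply, Module.End.one_apply, map_smul, LinearMap.smul_apply, map_smul]
  obtain ⟨b, hb⟩ : ∃ b, ∀ y, h.gW b y = Λ y :=
    ⟨(h.gW.toDual h.gnd).symm Λ, fun y => BilinForm.apply_toDual_symm_apply Λ y⟩
  have hbq : h.gW b q = 0 := by rw [hb]; simp [Λ, hA]
  have hqb := h.g_swap_zero hbq
  have hN : In M (h.N q b) := in_N hG hqb
  have hNN : h.N q b * h.N q b = 0 := by simp [N, add_mul, mul_add, P_mul, h.g_self, hqb, hbq]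
  set X₁ : Module.End F V := -h.N q b + X + -h.N q b * X with hX₁def
  have hX₁ : In M X₁ := (hN.neg hNN).mul hX
  have hzero : ∀ u v, h.gW v q = 0 → X₁ (h.tp u v) = 0 := fun u v hv => by
    simp only [hX₁def, N, LinearMap.add_apply, Module.End.mul_apply, LinearMap.neg_apply, hdiag u v hv]
    simp [P_apply, h.g_swap_zero hv, hb, h.g_self, hqb]
    simp [← hb, hbq]
  have hcV : ∀ T, h.c q (X₁ T) = 0 := fun T => by simp [hX₁def, N, P_apply, hV, h.g_self, hqb]
  have hin : ∀ T, X₁ T ∈ h.A q := fun T => h.mem_A_of_c hq fun x hx => h.ext_f fun u => by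
    have := hX₁.form_eq hG.le (h.tp u x) T
    rw [hzero u x hx, map_zero, LinearMap.zero_apply, LinearMap.zero_apply, zero_add, add_zero, ← h.pol_c] at this
    rw [this, map_zero]
  let G : Module.End F U := h.c w₁ ∘ₗ X₁ ∘ₗ h.tp.flip (-w₁)
  have hG₁ : ∀ T, X₁ T = h.tp (G (h.c q T)) q := fun T => by
    have e1 : X₁ (T - h.tp (h.c q T) (-w₁)) = 0 := h.map_eq_zero_of_tp X₁ hq hzero (by
      rw [map_sub, h.c_tp, hw2, one_smul, sub_self])
    rw [map_sub, sub_eq_zero] at e1
    obtain ⟨y, hy⟩ := hin T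
    have e2 : G (h.c q T) = h.c w₁ (X₁ T) := by rw [e1]; rfl
    rw [e2, ← hy, LinearMap.flip_apply, h.c_tp, hw₁, one_smul]
  have hX₁e : X₁ = h.P q q G := LinearMap.ext hG₁
  rw [hX₁e] at hX₁
  obtain ⟨s, hs⟩ := hsc G hX₁
  refine ⟨(h.gW q).smulRight b + (h.gW b).smulRight q + s • (h.gW q).smulRight q, fun u y => ?_⟩
  have e3 : X = h.N q b + X₁ + h.N q b * X₁ := by
    rw [hX₁def]
    simp only [mul_add, mul_neg, neg_mul, hNN, ← mul_assoc, zero_mul, neg_zero, zero_add]
    abel
  rw [e3, hX₁e, hs]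
  simp [N, P_apply, h.g_self, hqb, hbq, smul_smul]
  module

/-- An element fixing a line of pure tensors pointwise acts on the second factor only. -/
theorem fixA (h2 : (2 : F) ≠ 0) (h3 : 3 ≤ Module.finrank F U) (hno : ¬ h.Non M) {q : W} (hq : q ≠ 0)
    {y : V ≃ₗ[F] V} (hy : y ∈ M) (hfix : ∀ u, y (h.tp u q) = h.tp u q) :
    ∃ ρ : Module.End F W, ∀ u x, y (h.tp u x) = h.tp u (ρ x) := by
  haveI : Nontrivial U := Module.nontrivial_of_finrank_pos (R := F) (by omega)
  have hcq : ∀ T, h.c q (y T) = h.c q T := fun T => h.ext_f fun u => by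
    rw [h.pol_c, h.pol_c, ← hG.le y hy (h.tp u q) T, hfix]
  have hcq' : ∀ T, h.c q (y.symm T) = h.c q T := fun T => by rw [← hcq (y.symm T), y.apply_symm_apply]
  have hfix' : ∀ u, y.symm (h.tp u q) = h.tp u q := fun u => y.injective (by rw [y.apply_symm_apply, hfix])
  obtain ⟨w₁, hw₁⟩ := h.exists_g_one hq
  have hw2 : h.gW q (-w₁) = 1 := by rw [map_neg, h.g_swap, hw₁, neg_neg]
  set qop := -w₁ with hqop
  have hqq' : h.gW qop q = -1 := by rw [h.g_swap, hw2]
  obtain ⟨u₀, hu₀⟩ := exists_ne (0 : U)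
  obtain ⟨a₀, ha₀⟩ : ∃ a, h.fU a u₀ = 1 := by
    obtain ⟨a, ha⟩ : ∃ a, h.fU a u₀ ≠ 0 := by
      by_contra e
      push Not at e
      exact hu₀ (h.fnd.2 u₀ e)
    exact ⟨(h.fU a u₀)⁻¹ • a, by rw [map_smul, LinearMap.smul_apply, smul_eq_mul, inv_mul_cancel₀ ha]⟩
  have hscal : ∀ b, h.gW q b = 0 → ∃ κ : W, ∀ u, y (h.tp u b) - h.tp u κ ∈ h.A q := fun b hqb => by
    have hbq := h.g_swap_zero hqb
    set X : Module.End F V := y.toLinearMap ∘ₗ h.N q b ∘ₗ y.symm.toLinearMap with hXdef
    have hX : In M X := (in_N hG hqb).conj hy fun T => by simp [hXdef]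
    obtain ⟨κ, hκ⟩ := radical hG h2 h3 hno hq hX
      (fun u => by simp [hXdef, N, hfix', P_apply, h.g_self, hbq])
      (fun u v hv => by
        have : h.c q (y.symm (h.tp u v)) = 0 := by rw [hcq', h.c_tp, h.g_swap_zero hv, zero_smul]
        simp [hXdef, N, P_apply, this, hfix]
        exact h.tp_mem_A _ q)
      (fun T => by simp [hXdef, N, P_apply, hcq, h.g_self, hqb])
    refine ⟨κ qop, fun u => ?_⟩
    have e := hκ u qop
    have e2 : h.c q (y.symm (h.tp u qop)) = u := by rw [hcq', h.c_tp, hw2, one_smul]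
    simp [hXdef, N, P_apply, e2, hfix] at e
    rw [← e, sub_add_cancel_right]
    exact (h.A q).neg_mem (h.tp_mem_A _ q)
  obtain ⟨β, hβ⟩ : ∃ β : Module.End F W, ∀ a v, h.gW a (β v) = h.fU a₀ (h.c a (y (h.tp u₀ v))) := by
    let Λ : W →ₗ[F] Module.Dual F W :=
      LinearMap.mk₂ F (fun v a => h.fU a₀ (h.c a (y (h.tp u₀ v))))
        (fun v v' a => by simp) (fun s v a => by simp) (fun v a a' => by simp) (fun s v a => by simp)
    have hgnd : h.gW.flip.Nondegenerate := LinearMap.flip_nondegenerate.2 h.gnd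
    refine ⟨(h.gW.flip.toDual hgnd).symm.toLinearMap ∘ₗ Λ, fun a v => ?_⟩
    show h.gW.flip _ a = _
    exact BilinForm.apply_toDual_symm_apply (hB := hgnd) (Λ v) a
  have hmod : ∀ u v, h.gW q v = 0 → y (h.tp u v) - h.tp u (β v) ∈ h.A q := fun u v hv =>
    h.mem_A_of_c hq fun a ha => by
      obtain ⟨κ, hκ⟩ := hscal v hv
      have e0 : ∀ u, h.c a (y (h.tp u v)) = h.gW a κ • u := fun u => by
        have := h.c_A ha (hκ u)
        rwa [map_sub, sub_eq_zero, h.c_tp] at this
      rw [map_sub, e0, h.c_tp, hβ, e0, map_smul, ha₀, smul_eq_mul, mul_one, sub_self]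
  have hqβ : ∀ v, h.gW q v = 0 → h.gW q (β v) = 0 := fun v hv => by
    rw [hβ, hcq, h.c_tp, hv, zero_smul, map_zero]
  have hβg : ∀ v v', h.gW q v = 0 → h.gW q v' = 0 → h.gW (β v) (β v') = h.gW v v' := fun v v' hv hv' => by
    obtain ⟨x, hx⟩ := hmod a₀ v hv
    obtain ⟨x', hx'⟩ := hmod u₀ v' hv'
    have e := hG.le y hy (h.tp a₀ v) (h.tp u₀ v')
    rw [← sub_add_cancel (y (h.tp a₀ v)) (h.tp a₀ (β v)), ← hx, ← sub_add_cancel (y (h.tp u₀ v')) (h.tp u₀ (β v')),
      ← hx'] at e
    simp only [LinearMap.flip_apply, map_add, LinearMap.add_apply, h.pol, h.g_self, hqβ v' hv',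
      h.g_swap_zero (hqβ v hv), mul_zero, zero_add, ha₀, one_mul] at e
    exact e
  let π : Module.End F W := 1 + (h.gW qop).smulRight q + (-1 : F) • (h.gW q).smulRight qop
  have hπ : ∀ x, π x = x + h.gW qop x • q + (-(h.gW q x)) • qop := fun x => by simp [π]
  have hπq : ∀ x, h.gW q (π x) = 0 := fun x => by simp [hπ, h.g_self, hw2]
  have hπo : ∀ x, h.gW qop (π x) = 0 := fun x => by simp [hπ, h.g_self, hqq']
  let ρ₀ : Module.End F W := (-1 : F) • (h.gW qop).smulRight q + (h.gW q).smulRight qop + π * β * π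
  have hρ₀ : ∀ x, ρ₀ x = (-(h.gW qop x)) • q + h.gW q x • qop + π (β (π x)) := fun x => by simp [ρ₀]
  have hππ : ∀ a b, h.gW q a = 0 → h.gW q b = 0 → h.gW (π a) (π b) = h.gW a b := fun a b ha hb => by
    simp [hπ, ha, hb, h.g_self, h.g_swap_zero ha]
  have hρi : ∀ x z, h.gW (ρ₀ x) (ρ₀ z) = h.gW x z := fun x z => by
    have hd : ∀ x, x = (-(h.gW qop x)) • q + h.gW q x • qop + π x := fun x => by rw [hπ]; module
    have e2 := hππ _ _ (hqβ _ (hπq x)) (hqβ _ (hπq z))
    conv_rhs => rw [hd x, hd z]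
    rw [hρ₀, hρ₀]
    simp only [map_add, map_smul, LinearMap.add_apply, LinearMap.smul_apply, smul_eq_mul, h.g_self, hπq, hπo,
      h.g_swap_zero (hπq _), h.g_swap_zero (hπo _), e2, hβg _ _ (hπq x) (hπq z)]
  have hρinj : Function.Injective ρ₀ := (injective_iff_map_eq_zero _).2 fun x e => h.gnd.1 x fun z => by
    rw [← hρi, e, map_zero, LinearMap.zero_apply]
  obtain ⟨k, hk, ek, ec⟩ := exists_isoW hG (LinearEquiv.ofInjectiveEndo ρ₀ hρinj) hρi
  have hρq : ρ₀ q = q := by simp [hρ₀, hqq', h.g_self, hπ]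
  have hkq : ∀ u, k.symm (h.tp u q) = h.tp u q := fun u => k.injective (by
    rw [k.apply_symm_apply, ek]; exact congrArg (h.tp u) hρq.symm)
  have hkc : ∀ T, h.c q (k.symm T) = h.c q T := fun T => by
    have := ec q (k.symm T)
    rw [k.apply_symm_apply] at this
    rw [← this]; exact congrArg (fun b => h.c b T) hρq
  set X : Module.End F V := k.symm.toLinearMap ∘ₗ y.toLinearMap - 1 with hXdef
  have hX : In M X := ⟨k⁻¹ * y, mul_mem (inv_mem hk) hy, fun T => by
    show k.symm (y T) = _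
    simp [hXdef]⟩
  obtain ⟨κ, hκ⟩ := radical hG h2 h3 hno hq hX
    (fun u => by simp [hXdef, hfix, hkq])
    (fun u v hv => by
      have hv' := h.g_swap_zero hv
      obtain ⟨x, hx⟩ := hmod u v hv'
      have : y (h.tp u v) = h.tp (x + (-(h.gW qop (π (β v)))) • 0 + 0) q + h.tp u (β v) := by
        rw [smul_zero, add_zero, add_zero]; exact eq_add_of_sub_eq hx.symm
      rw [smul_zero, add_zero, add_zero] at this
      have hsub : β v - ρ₀ v ∈ Submodule.span F {q} := by
        have e1 : π v = v + h.gW qop v • q := by rw [hπ, hv']; simp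
        have e2 : β q ∈ Submodule.span F {q} := by
          refine h.mem_span_of_perp fun z hz => ?_
          rw [hβ, hfix, h.c_tp, hz, zero_smul, map_zero]
        obtain ⟨t, ht⟩ := Submodule.mem_span_singleton.1 e2
        rw [hρ₀, e1, map_add, map_smul, ← ht, hπ, hv']
        refine Submodule.mem_span_singleton.2 ⟨h.gW qop v - h.gW qop (β v + h.gW qop v • (t • q)) - h.gW qop v * t, ?_⟩
        simp [h.g_self, hqβ v hv']
        module
      obtain ⟨t, ht⟩ := Submodule.mem_span_singleton.1 hsub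
      have e4 : k.symm (h.tp u (β v)) = h.tp u v + t • h.tp u q := by
        rw [← k.injective.eq_iff, k.apply_symm_apply, map_add, map_smul, ek, ek]
        show _ = h.tp u (ρ₀ v) + t • h.tp u (ρ₀ q)
        rw [hρq, ← map_smul, ← map_add, ht]
        congr 1
        abel
      have e5 : X (h.tp u v) = h.tp x q + t • h.tp u q := by
        simp [hXdef, this, hkq, e4]
        abel
      rw [e5]
      exact Submodule.add_mem _ (h.tp_mem_A _ q) (Submodule.smul_mem _ _ (h.tp_mem_A _ q)))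
    (fun T => by simp [hXdef, hkc, hcq])
  refine ⟨ρ₀ * (1 + κ), fun u x => ?_⟩
  have := hκ u x
  simp only [hXdef, LinearMap.sub_apply, LinearMap.comp_apply, LinearEquiv.coe_coe, Module.End.one_apply,
    sub_eq_iff_eq_add] at this
  rw [← k.apply_symm_apply (y _), this, ← map_add, ek]
  simp [add_comm]

/-- An element fixing a line pointwise which moves little is trivial. -/
theorem fixA_small (h2 : (2 : F) ≠ 0) (h3 : 3 ≤ Module.finrank F U) (hno : ¬ h.Non M) {q : W} (hq : q ≠ 0)
    {y : V ≃ₗ[F] V} (hy : y ∈ M) (hfix : ∀ u, y (h.tp u q) = h.tp u q)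
    (hsmall : Module.finrank F (LinearMap.range (y.toLinearMap - 1)) < Module.finrank F U) : y = 1 := by
  obtain ⟨ρ, hρ⟩ := fixA hG h2 h3 hno hq hy hfix
  have hρ1 : ∀ x, ρ x = x := fun x => by
    by_contra hne
    refine absurd (Submodule.finrank_mono (show h.A (ρ x - x) ≤ LinearMap.range (y.toLinearMap - 1) from ?_)) ?_
    · rintro _ ⟨u, rfl⟩
      exact ⟨h.tp u x, by simp [hρ]⟩
    · rw [h.finrank_A (sub_ne_zero.2 hne)]; omega
  exact LinearEquiv.toLinearMap_injective (h.ext_tp fun u v => by simp [hρ, hρ1])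

end TBil

end CfsgLib.TensorMax.Pair
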