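import Cfsg.Agent.Lib.TensorMax.Pair.Cases

/-!
From a non-scalar block to one whose kernel is a direct summand killed by the map.
-/

set_option autoImplicit false
set_option linter.unusedSectionVars false
set_option linter.unusedVariables false
set_option linter.unusedSimpArgs false

namespace CfsgLib.TensorMax.Pair

open LinearMap (BilinForm)

variable {F V U W : Type*} [Field F] [AddCommGroup V] [Module F V] [AddCommGroup U] [Module F U]
  [AddCommGroup W] [Module F W]
variable [FiniteDimensional F V] [FiniteDimensional F U] [FiniteDimensional F W]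
variable {B : BilinForm F V} {M : Subgroup (V ≃ₗ[F] V)}

namespace TBil

variable (h : TBil B U W)

/-- A conjugate of a root element of the second factor. -/
def Conj (M : Subgroup (V ≃ₗ[F] V)) (C : Module.End F V) : Prop :=
  ∃ g ∈ M, ∃ w : W, w ≠ 0 ∧ ∃ s : F, s ≠ 0 ∧ ∀ T, C (g T) = g (s • h.P w w 1 T)

variable {h} {C : Module.End F V}

theorem Conj.sq (hC : h.Conj M C) : C * C = 0 := by
  obtain ⟨g, -, w, hw, s, -, e⟩ := hC
  refine LinearMap.ext fun T => ?_
  obtain ⟨S, rfl⟩ := g.surjective T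
  rw [Module.End.mul_apply, e, e, map_smul (h.P w w 1), show h.P w w 1 (h.P w w 1 S) = 0 from LinearMap.congr_fun (h.R_sq w) S,
    smul_zero, smul_zero, map_zero]
  rfl

theorem Conj.smul (hC : h.Conj M C) {d : F} (hd : d ≠ 0) : h.Conj M (d • C) := by
  obtain ⟨g, hg, w, hw, s, hs, e⟩ := hC
  exact ⟨g, hg, w, hw, d * s, mul_ne_zero hd hs, fun T => by
    rw [LinearMap.smul_apply, e, mul_smul, map_smul g d]⟩

theorem Conj.conj (hC : h.Conj M C) {k : V ≃ₗ[F] V} (hk : k ∈ M) {C' : Module.End F V}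
    (e : ∀ T, C' (k T) = k (C T)) : h.Conj M C' := by
  obtain ⟨g, hg, w, hw, s, hs, eg⟩ := hC
  exact ⟨k * g, mul_mem hk hg, w, hw, s, hs, fun T => by rw [LinearEquiv.mul_apply, e, eg, LinearEquiv.mul_apply]⟩

variable (hG : h.Gens M)

include hG

theorem Conj.inM (hC : h.Conj M C) (d : F) : In M (d • C) := by
  obtain ⟨g, hg, w, hw, s, -, e⟩ := hC
  exact (tau hG w (d * s)).conj hg fun T => by
    rw [LinearMap.smul_apply, LinearMap.smul_apply, e, mul_smul, map_smul g d]

theorem Conj.skew (hC : h.Conj M C) (S T : V) : B (C S) T + B S (C T) = 0 := by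
  obtain ⟨g, hg, w, hw, s, -, e⟩ := hC
  obtain ⟨S, rfl⟩ := g.surjective S
  obtain ⟨T, rfl⟩ := g.surjective T
  rw [e, e, hG.le g hg, hG.le g hg, map_smul, map_smul, LinearMap.smul_apply, h.R_apply, h.R_apply, ← h.pol_c,
    h.pol_c' _ _ S, h.fSym (h.c w S), smul_eq_mul, smul_eq_mul]
  ring

omit hG in
theorem Conj.rank (hC : h.Conj M C) : Module.finrank F (LinearMap.range C) = Module.finrank F U := by
  obtain ⟨g, -, w, hw, s, hs, e⟩ := hC
  obtain ⟨w', hw'⟩ := h.exists_g_one hw
  have : LinearMap.range C = (h.A w).map g.toLinearMap := by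
    refine le_antisymm ?_ ?_
    · rintro _ ⟨T, rfl⟩
      obtain ⟨S, rfl⟩ := g.surjective T
      exact ⟨_, (h.A w).smul_mem s ⟨_, rfl⟩, (e S).symm⟩
    · rintro _ ⟨_, ⟨u, rfl⟩, rfl⟩
      refine ⟨g (h.tp (-(s⁻¹ • u)) w'), ?_⟩
      rw [e, h.R_apply, h.c_tp, h.g_swap, hw', neg_one_smul, neg_neg]
      simp [smul_smul, mul_inv_cancel₀ hs]
  rw [this, LinearEquiv.finrank_map_eq, h.finrank_A hw]

/-- The conjugate of a root element by a conjugate root element. -/
noncomputable def conj2 (h : TBil B U W) (q : W) (C : Module.End F V) : Module.End F V :=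
  (1 + C) * h.P q q 1 * (1 - C)

theorem Conj.conj2 (hC : h.Conj M C) {q : W} (hq : q ≠ 0) : h.Conj M (h.conj2 q C) := by
  obtain ⟨g, hg, eg⟩ := hC.inM hG 1
  refine ⟨g, hg, q, hq, 1, one_ne_zero, fun T => ?_⟩
  simp only [one_smul, TBil.conj2, Module.End.mul_apply, LinearMap.sub_apply, LinearMap.add_apply,
    Module.End.one_apply, eg, map_add, show C (C T) = 0 from LinearMap.congr_fun hC.sq T, add_zero, add_sub_cancel_right, sub_zero, map_sub]
  abel

omit hG in
theorem blk_conj2 (hsq : C * C = 0) (q : W) :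
    h.blk q (h.conj2 q C) = - (h.blk q C * h.blk q C) := LinearMap.ext fun u => by
  simp [blk_apply, TBil.conj2, h.R_apply, h.g_self, Module.End.mul_apply]

omit hG in
theorem conj2_kill (q : W) {u : U} (hu : h.blk q C u = 0) : h.conj2 q C (h.tp u q) = 0 := by
  rw [blk_apply] at hu
  simp [TBil.conj2, h.R_apply, h.g_self, Module.End.mul_apply, hu]

variable [Fintype F] (h2 : (2 : F) ≠ 0) (h3 : 3 ≤ Module.finrank F U) (hno : ¬ h.Non M)

include h2 h3 hno

/-- With a vanishing block and a non-trivial kernel the map commutes with the root element. -/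
theorem Conj.comm_of_zero (hC : h.Conj M C) {q : W} (hq : q ≠ 0) (hz : h.blk q C = 0) {u₀ : U} (hu₀ : u₀ ≠ 0)
    (hk : C (h.tp u₀ q) = 0) : C * h.P q q 1 = h.P q q 1 * C := by
  haveI : Nontrivial U := Module.nontrivial_of_finrank_pos (R := F) (by omega)
  have hCq : ∀ u, h.c q (C (h.tp u q)) = 0 := fun u => LinearMap.congr_fun hz u
  set C₃ := h.conj2 q C with hC₃
  have h3C := hC.conj2 hG hq
  have hk3 : ∀ u, C₃ (h.tp u q) = 0 := fun u => conj2_kill q (LinearMap.congr_fun hz u)
  obtain ⟨y, hy, ey⟩ := h3C.inM hG 1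
  obtain ⟨ρ, hρ⟩ := fixA hG h2 h3 hno hq hy fun u => by rw [ey, one_smul, hk3, add_zero]
  have hκ : ∀ u x, C₃ (h.tp u x) = h.tp u (ρ x - x) := fun u x => by
    have := ey (h.tp u x)
    rw [hρ, one_smul] at this
    rw [map_sub, this, add_sub_cancel_left]
  -- the line is stable
  obtain ⟨w', hw'⟩ := h.exists_g_one hq
  have hsurj : ∀ u, C₃ (h.tp u (-w') + C (h.tp u (-w'))) = h.tp u q + C (h.tp u q) := fun u => by
    simp [hC₃, TBil.conj2, h.R_apply, Module.End.mul_apply, show ∀ T, C (C T) = 0 from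
      fun T => LinearMap.congr_fun hC.sq T, h.g_swap q w', hw']
  have hx : ∀ x, ρ x - x ∈ Submodule.span F {q} := fun x => by
    by_contra hn
    have hδ : ρ x - x ≠ 0 := fun e => hn (by rw [e]; exact zero_mem _)
    have hle : h.A (ρ x - x) ≤ LinearMap.range C₃ := by
      rintro _ ⟨u, rfl⟩; exact ⟨_, hκ u x⟩
    have heq := Submodule.eq_of_le_of_finrank_eq hle (by rw [h.finrank_A hδ, h3C.rank])
    have hm : h.tp u₀ q ∈ h.A (ρ x - x) := by
      rw [heq]
      have := hsurj u₀
      rw [hk, add_zero] at this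
      exact ⟨_, this⟩
    obtain ⟨t, ht⟩ := Submodule.mem_span_singleton.1 (h.tp_mem_A_iff hu₀ hm)
    have ht0 : t ≠ 0 := fun e => hq (by rw [← ht, e, zero_smul])
    exact hn (Submodule.mem_span_singleton.2 ⟨t⁻¹, by rw [← ht, smul_smul, inv_mul_cancel₀ ht0, one_smul]⟩)
  choose φ hφ using fun x => Submodule.mem_span_singleton.1 (hx x)
  have hin : ∀ T, C₃ T ∈ h.A q := fun T => by
    have : T ∈ Submodule.span F {S | ∃ u v, h.tp u v = S} := by rw [h.span_tp]; exact Submodule.mem_top
    refine (Submodule.span_le (p := (h.A q).comap C₃)).2 ?_ this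
    rintro _ ⟨u, v, rfl⟩
    exact ⟨φ v • u, by rw [LinearMap.flip_apply, hκ, ← hφ, map_smul, map_smul, LinearMap.smul_apply]⟩
  -- the map on the line
  choose N₀ hN₀ using fun u => show C (h.tp u q) ∈ h.A q by
    have := (h.A q).sub_mem (hin (h.tp u (-w') + C (h.tp u (-w')))) (h.tp_mem_A u q)
    rwa [hsurj, add_sub_cancel_left] at this
  let Nl : Module.End F U :=
    { toFun := N₀
      map_add' := fun a b => h.tp_injective hq (by rw [hN₀, map_add, LinearMap.add_apply, map_add, map_add, hN₀, hN₀])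
      map_smul' := fun s a => h.tp_injective hq (by
        rw [hN₀, map_smul, LinearMap.smul_apply, map_smul, RingHom.id_apply, map_smul, hN₀]) }
  have hN : ∀ u, C (h.tp u q) = h.tp (Nl u) q := fun u => (hN₀ u).symm
  let N' : Module.End F U := - (h.c q ∘ₗ C ∘ₗ h.tp.flip (-w'))
  have hwq : h.gW q (-w') = 1 := by rw [map_neg, h.g_swap, hw', neg_neg]
  have hcC : ∀ T, h.c q (C T) = - N' (h.c q T) := fun T => by
    have e : ∀ T, h.c q T = 0 → h.c q (C T) = 0 := fun T hT => h.ext_f fun u => by
      have := hC.skew hG (h.tp u q) T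
      rw [hN, ← h.pol_c, hT, map_zero, zero_add, ← h.pol_c] at this
      rw [this, map_zero]
    have := e (T - h.tp (h.c q T) (-w')) (by rw [map_sub, h.c_tp, hwq, one_smul, sub_self])
    rw [map_sub, map_sub, sub_eq_zero] at this
    rw [this]; simp [N']
  have hadj : ∀ u x, h.fU (Nl u) x = h.fU u (N' x) := fun u x => by
    have := hC.skew hG (h.tp u q) (h.tp x (-w'))
    rw [hN, ← h.pol_c, h.c_tp, hwq, one_smul, ← h.pol_c, hcC, h.c_tp, hwq, one_smul, map_neg] at this
    linear_combination this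
  have hNN : ∀ u, Nl (Nl u) = 0 := fun u => h.tp_injective hq (by
    have := LinearMap.congr_fun hC.sq (h.tp u q)
    rw [Module.End.mul_apply, hN, hN, LinearMap.zero_apply] at this
    rw [LinearMap.flip_apply, this]; simp)
  -- the coefficient of the new element
  obtain ⟨s, hs⟩ : ∃ s : F, ∀ u, u + Nl u + N' u + Nl (N' u) = s • u := by
    refine ⟨φ (-w'), fun u => h.tp_injective hq ?_⟩
    have e := hκ u (-w')
    rw [← hφ, map_smul] at e
    simp only [hC₃, TBil.conj2, Module.End.mul_apply, LinearMap.sub_apply, LinearMap.add_apply, Module.End.one_apply,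
      h.R_apply, map_sub, hcC, h.c_tp, hwq, one_smul, map_add, hN, sub_neg_eq_add] at e
    simp only [LinearMap.flip_apply, map_add, map_smul, map_neg, LinearMap.add_apply, LinearMap.smul_apply,
      LinearMap.neg_apply] at e ⊢
    linear_combination (norm := module) e
  have hN'N' : ∀ u, N' (N' u) = 0 := fun u => h.ext_f fun x => by rw [map_zero, ← hadj, ← hadj, hNN, map_zero]; rfl
  have hsum : ∀ u, Nl u + N' u = 0 := by
    have e1 : ∀ u, Nl u + Nl (N' u) = s • Nl u := fun u => by
      have := congrArg Nl (hs u)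
      simpa [hNN, map_smul] using this
    have e2 : ∀ u, N' u + Nl (N' u) = s • N' u := fun u => by
      have := hs (N' u)
      simpa [hN'N'] using this
    by_cases h1 : s = 1
    · subst h1
      intro u
      have h4 := hs u
      have h5 := e1 u
      rw [one_smul] at h4 h5
      rw [add_eq_left] at h5
      rw [h5, add_zero, add_assoc, add_eq_left] at h4
      exact h4
    · intro u
      have hd : ∀ u, Nl u = N' u := fun u => sub_eq_zero.1 ((smul_eq_zero.1 (show (s - 1) • (Nl u - N' u) = 0 by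
        linear_combination (norm := module) e2 u - e1 u)).resolve_left (sub_ne_zero.2 h1))
      have hz : ∀ v, v = (0 : U) := by
        intro v
        have a1 := hs v
        have a2 := hs (Nl v)
        simp only [← hd, hNN, map_zero] at a1 a2
        simp only [add_zero] at a1 a2
        have a3 : (s - 1) • Nl v = 0 := by linear_combination (norm := module) -a2
        have a4 := (smul_eq_zero.1 a3).resolve_left (sub_ne_zero.2 h1)
        rw [a4, add_zero, add_zero] at a1
        exact (smul_eq_zero.1 (show (s - 1) • v = 0 by linear_combination (norm := module) -a1)).resolve_left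
          (sub_ne_zero.2 h1)
      exact absurd (hz u₀) hu₀
  refine LinearMap.ext fun T => ?_
  rw [Module.End.mul_apply, Module.End.mul_apply, h.R_apply, h.R_apply, hN, hcC]
  congr 2
  exact eq_neg_of_add_eq_zero_left (hsum _)

/-- A nilpotent non-zero block of square zero is impossible. -/
theorem Conj.nil_false (hC : h.Conj M C) {q : W} (hq : q ≠ 0) (hne : h.blk q C ≠ 0)
    (hsq : h.blk q C * h.blk q C = 0) : False := by
  have key : ∀ d : F, d ≠ 0 → h.conj2 q (d • C) * h.P q q 1 = h.P q q 1 * h.conj2 q (d • C) := fun d hd => by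
    obtain ⟨v, hv⟩ : ∃ v, h.blk q C v ≠ 0 := by
      by_contra e; push Not at e; exact hne (LinearMap.ext e)
    have hb : h.blk q (d • C) = d • h.blk q C := LinearMap.ext fun u => by simp [blk_apply]
    refine ((hC.smul hd).conj2 hG hq).comm_of_zero hG h2 h3 hno hq ?_ hv (conj2_kill q ?_)
    · rw [blk_conj2 (hC.smul hd).sq, hb, smul_mul_smul_comm, hsq, smul_zero, neg_zero]
    · rw [hb, LinearMap.smul_apply, ← Module.End.mul_apply, hsq, LinearMap.zero_apply, smul_zero]
  refine hne (LinearMap.ext fun u => ?_)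
  obtain ⟨w', hw'⟩ := h.exists_g_one hq
  have hwq : h.gW q (-w') = 1 := by rw [map_neg, h.g_swap, hw', neg_neg]
  have e1 := LinearMap.congr_fun (key 1 one_ne_zero) (h.tp u (-w'))
  have e2 := LinearMap.congr_fun (key (-1) (neg_ne_zero.2 one_ne_zero)) (h.tp u (-w'))
  simp only [TBil.conj2, Module.End.mul_apply, LinearMap.sub_apply, LinearMap.add_apply, Module.End.one_apply,
    LinearMap.smul_apply, one_smul, neg_one_smul, sub_neg_eq_add, h.R_apply, h.c_tp, hwq, map_sub, map_add, map_neg,
    h.g_self, zero_smul, LinearMap.neg_apply, LinearMap.zero_apply, LinearMap.add_apply, LinearMap.sub_apply, map_zero,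
    add_zero, zero_add, zero_sub, sub_zero, h.g_swap q w', hw', neg_one_smul] at e1 e2
  rw [LinearMap.zero_apply]
  by_contra hu
  refine h.tp_ne_zero hu hq ?_
  have e4 : (4 : F) • h.tp (h.blk q C u) q = 0 := by
    simp only [blk_apply] at e1 e2 ⊢
    linear_combination (norm := module) e2 - e1
  exact (smul_eq_zero.1 e4).resolve_left fun e => mul_ne_zero h2 h2 (by linear_combination e)

/-- A non-scalar block leads to one whose kernel is a direct summand killed by the map. -/
theorem Conj.exists_good (hC : h.Conj M C) {q : W} (hq : q ≠ 0) (hns : ∀ s : F, h.blk q C ≠ s • 1) :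
    ∃ C', h.Conj M C' ∧ h.Good M q C' ∧ (∀ s : F, h.blk q C' ≠ s • 1) ∧
      Module.finrank F (LinearMap.ker (h.blk q C)) ≤ Module.finrank F (LinearMap.ker (h.blk q C')) := by
  have mk : ∀ C', h.Conj M C' → IsCompl (LinearMap.ker (h.blk q C')) (LinearMap.range (h.blk q C')) →
      (∀ u, h.blk q C' u = 0 → C' (h.tp u q) = 0) → h.blk q C' ≠ 0 → h.Good M q C' := fun C' hC' hc hk hne =>
    ⟨hq, hC'.sq, hC'.skew hG, hC'.inM hG, hC'.rank, hc, hk, hne⟩
  have hne : h.blk q C ≠ 0 := fun e => hns 0 (by rw [e, zero_smul])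
  by_cases hker : LinearMap.ker (h.blk q C) = ⊥
  · refine ⟨C, hC, mk C hC ?_ (fun u hu => ?_) hne, hns, le_rfl⟩
    · rw [hker, LinearMap.range_eq_top.2 (LinearMap.injective_iff_surjective.1 (LinearMap.ker_eq_bot.1 hker))]
      exact isCompl_bot_top
    · rw [(Submodule.mem_bot F).1 (hker ▸ hu : u ∈ (⊥ : Submodule F U))]; simp
  suffices ∀ (n : ℕ) (C : Module.End F V), h.Conj M C → h.blk q C ≠ 0 → LinearMap.ker (h.blk q C) ≠ ⊥ →
      Module.finrank F U ≤ n + Module.finrank F (LinearMap.ker (h.blk q C)) →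
      ∃ C', h.Conj M C' ∧ h.Good M q C' ∧ LinearMap.ker (h.blk q C') ≠ ⊥ ∧
        Module.finrank F (LinearMap.ker (h.blk q C)) ≤ Module.finrank F (LinearMap.ker (h.blk q C')) by
    obtain ⟨C', hC', hgood, hk', hle⟩ := this _ C hC hne hker (Nat.le_add_right _ _)
    refine ⟨C', hC', hgood, fun s hs => ?_, hle⟩
    obtain ⟨x, hx, hx0⟩ := Submodule.exists_mem_ne_zero_of_ne_bot hk'
    have e := LinearMap.congr_fun hs x
    rw [LinearMap.mem_ker.1 hx, LinearMap.smul_apply, Module.End.one_apply] at e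
    exact hgood.ne (by rw [hs, (smul_eq_zero.1 e.symm).resolve_right hx0, zero_smul])
  intro n
  induction n with
  | zero =>
    intro C _ hne _ hle
    exact absurd (LinearMap.ker_eq_top.1 (Submodule.eq_top_of_finrank_eq
      (le_antisymm (Submodule.finrank_le _) (by omega)))) hne
  | succ n ih =>
    intro C hC hne hker hle
    set G := h.blk q C
    by_cases hGG : G * G = 0
    · exact (hC.nil_false hG h2 h3 hno hq hne hGG).elim
    have hb := blk_conj2 (h := h) hC.sq q
    have hkk : LinearMap.ker (h.blk q (h.conj2 q C)) = LinearMap.ker (G * G) := by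
      rw [hb]; ext; simp [G]
    have hmono : LinearMap.ker G ≤ LinearMap.ker (G * G) := fun x hx => by
      simp [LinearMap.mem_ker.1 hx]
    have hb0 : h.blk q (h.conj2 q C) ≠ 0 := by rw [hb]; exact neg_ne_zero.2 hGG
    have hkb : LinearMap.ker (h.blk q (h.conj2 q C)) ≠ ⊥ := fun e => hker (le_bot_iff.1 (hmono.trans_eq (hkk ▸ e)))
    by_cases heq : LinearMap.ker (G * G) = LinearMap.ker G
    · refine ⟨_, hC.conj2 hG hq, mk _ (hC.conj2 hG hq) ?_ (fun u hu => conj2_kill q ?_) hb0, hkb,
        le_of_eq (congrArg (fun S : Submodule F U => Module.finrank F S) (hkk.trans heq).symm)⟩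
      · have hdisj : Disjoint (LinearMap.ker (h.blk q (h.conj2 q C))) (LinearMap.range (h.blk q (h.conj2 q C))) := by
          rw [hkk, heq, hb, Submodule.disjoint_def]
          rintro x hx ⟨z, rfl⟩
          simp only [LinearMap.neg_apply, Module.End.mul_apply, LinearMap.mem_ker, map_neg, neg_eq_zero] at hx
          change G (G (G z)) = 0 at hx
          have h1 : G z ∈ LinearMap.ker G := heq ▸ LinearMap.mem_ker.2 (by rw [Module.End.mul_apply]; exact hx)
          show (- (G * G)) z = 0
          simp [LinearMap.mem_ker.1 h1]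
        refine IsCompl.mk hdisj (codisjoint_iff.2 (Submodule.eq_top_of_finrank_eq ?_))
        have h1 := Submodule.finrank_sup_add_finrank_inf_eq (LinearMap.ker (h.blk q (h.conj2 q C)))
          (LinearMap.range (h.blk q (h.conj2 q C)))
        have h2' := LinearMap.finrank_range_add_finrank_ker (h.blk q (h.conj2 q C))
        rw [disjoint_iff.1 hdisj, finrank_bot] at h1
        omega
      · exact LinearMap.mem_ker.1 (heq ▸ hkk ▸ LinearMap.mem_ker.2 hu : u ∈ LinearMap.ker G)
    · have hlt := Submodule.finrank_lt_finrank_of_lt (lt_of_le_of_ne hmono (Ne.symm heq))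
      rw [← hkk] at hlt
      obtain ⟨C', a, b, c, d⟩ := ih _ (hC.conj2 hG hq) hb0 hkb (by omega)
      exact ⟨C', a, b, c, hlt.le.trans d⟩

/-- A translation part fixed by a power is trivial. -/
theorem Good.transl_zero {q : W} (hC : h.Good M q C) {c d : F} {N : ℕ} (hN : (N : F) ≠ 0)
    (hfix : ∀ x ∈ (LinearMap.range (h.blk q C)).prod (LinearMap.range (h.blk q C)),
      (Mh (h.blk q C) c d ^ N) x = x) {T : V} (hT : T ∈ h.V₂ q C) :
    c • h.P q q 1 T + d • C T = 0 := by
  set g := hC.el c d ^ N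
  have hpow : ∀ (k : ℕ), ∀ T ∈ h.V₂ q C,
      (hC.el c d ^ k) T = T + (k : F) • (c • h.P q q 1 T + d • C T) := fun k => by
    induction k with
    | zero => intro T _; simp
    | succ k ih =>
      intro T hT
      obtain ⟨hR, hCR⟩ := hC.V₂_R hT
      obtain ⟨hCT, hRC⟩ := hC.V₂_C hT
      rw [pow_succ', LinearEquiv.mul_apply, ih T hT, Good.el, LinearEquiv.mul_apply, uni_apply, uni_apply]
      simp only [map_add, map_smul, hCR, hRC, show C (C T) = 0 from LinearMap.congr_fun hC.sq T,
        show h.P q q 1 (h.P q q 1 T) = 0 from LinearMap.congr_fun (h.R_sq q) T, smul_zero, add_zero, Nat.cast_succ]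
      module
  have hV₁ : ∀ u ∈ LinearMap.range (h.blk q C), ∀ v ∈ LinearMap.range (h.blk q C),
      g (h.Phi q C (u, v)) = h.Phi q C (u, v) := fun u hu v hv => by
    rw [show g = hC.el c d ^ N from rfl, hC.el_pow_Phi, hfix _ ⟨hu, hv⟩]
  have hline : ∀ u, g (h.tp u q) = h.tp u q := fun u => by
    obtain ⟨a, ha, b, hb, rfl⟩ := Submodule.mem_sup.1 (show u ∈ LinearMap.ker (h.blk q C) ⊔
      LinearMap.range (h.blk q C) by rw [hC.compl.sup_eq_top]; exact Submodule.mem_top)
    have hmem : h.tp a q ∈ h.V₂ q C :=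
      ⟨show h.c q (C _) = 0 by rw [hC.kill a ha, map_zero], show h.blk q C (h.c q _) = 0 by simp [h.g_self]⟩
    have e2 := hV₁ b hb 0 (zero_mem _)
    simp [Phi_apply] at e2
    rw [map_add, LinearMap.add_apply, map_add, hpow N _ hmem, e2, hC.kill a ha, h.R_apply]
    simp [h.g_self]
  obtain ⟨s, hs⟩ := hC.in_root hG h2 h3 hno (hC.grp_le hG (pow_mem (hC.el_mem c d) N)) hline fun S => by
    obtain ⟨u, hu, v, hv, S₂, hS₂, rfl⟩ := hC.decomp S
    refine ⟨((N : F) * d) • S₂, ((N : F) * c) • h.c q S₂, ?_, ?_⟩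
    · rw [map_smul, map_smul, show h.c q (C S₂) = 0 from hS₂.1, smul_zero]
    · rw [map_add, hV₁ u hu v hv, hpow N _ hS₂, h.R_apply, map_smul, map_smul, LinearMap.smul_apply]
      module
  obtain ⟨v, hv, hv0⟩ := Submodule.exists_mem_ne_zero_of_ne_bot
    (fun e => hC.ne (LinearMap.range_eq_bot.1 e) : LinearMap.range (h.blk q C) ≠ ⊥)
  have e := hs (h.Phi q C (0, v))
  rw [hV₁ 0 (zero_mem _) v hv, left_eq_add, h.R_Phi, ← map_smul] at e
  have hs0 : s = 0 := (smul_eq_zero.1 (hC.Phi_eq_zero (v := s • 0) (by simp) e).1).resolve_right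
    fun e' => hv0 (hC.blk_inj hv e')
  have e2 := hs T
  rw [hpow N T hT, hs0, zero_smul, add_zero, add_eq_left] at e2
  exact (smul_eq_zero.1 e2).resolve_left hN

end TBil

end CfsgLib.TensorMax.Pair
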