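import Cfsg.Agent.Lib.TensorMax.Pair.Reduce

/-!
A non-scalar block is impossible when the second factor has dimension at least four.
-/

set_option autoImplicit false
set_option linter.unusedSectionVars false
set_option linter.unusedVariables false
set_option linter.unusedSimpArgs false

namespace CfsgLib.TensorMax.Pair

open LinearMap (BilinForm)
open Polynomial (aeval)

variable {F V U W : Type*} [Field F] [AddCommGroup V] [Module F V] [AddCommGroup U] [Module F U]
  [AddCommGroup W] [Module F W]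
variable [FiniteDimensional F V] [FiniteDimensional F U] [FiniteDimensional F W]
variable {B : BilinForm F V} {M : Subgroup (V ≃ₗ[F] V)}

theorem three_zero (h2 : (2 : F) ≠ 0) (hc : ∀ c : F, c ≠ 0 → c * c = 1) : (3 : F) = 0 := by
  linear_combination hc 2 h2

theorem sq_one [Fintype F] (h : Fintype.card F = 3) (c : F) (hc : c ≠ 0) : c * c = 1 := by
  have := FiniteField.pow_card_sub_one_eq_one c hc
  rwa [h, pow_two] at this

namespace TBil

variable {h : TBil B U W} {q : W} {C : Module.End F V}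

theorem tp_right_eq {u : U} (hu : u ≠ 0) {x y : W} (e : h.tp u x = h.tp u y) : x = y := by
  by_contra hne
  exact h.tp_ne_zero hu (sub_ne_zero.2 hne) (by rw [map_sub, e, sub_self])

variable (hC : h.Good M q C)

include hC

theorem Good.el_V₂ (c d : F) {T : V} (hT : T ∈ h.V₂ q C) :
    hC.el c d T = T + (c • h.P q q 1 T + d • C T) := by
  rw [Good.el, LinearEquiv.mul_apply, uni_apply, uni_apply, map_add, map_smul, (hC.V₂_C hT).2, smul_zero, add_zero]
  abel

/-- A map with image in a line of pure tensors has scalar blocks. -/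
theorem Good.line_scalar (hno : ¬ h.Non M) {x₀ : W} (hx₀ : x₀ ≠ 0) (hr : ∀ T, C T ∈ h.A x₀) :
    ∃ s : F, h.blk q C = s • 1 := by
  obtain ⟨x₁, hx₁⟩ := h.exists_g_one hx₀
  have hkill : ∀ T, h.c x₀ T = 0 → C T = 0 := fun T hT => hC.skew |> fun sk => by
    refine h.sep _ fun u w => ?_
    have := sk (h.tp u w) T
    obtain ⟨v, hv⟩ := hr (h.tp u w)
    rw [← hv, LinearMap.flip_apply, ← h.pol_c, hT, map_zero, zero_add] at this
    exact this
  set D : Module.End F U := h.c x₁ ∘ₗ C ∘ₗ h.tp.flip (-x₁) with hD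
  have hx : h.gW x₀ (-x₁) = 1 := by rw [map_neg, h.g_swap, hx₁, neg_neg]
  have hCD : C = h.P x₀ x₀ D := LinearMap.ext fun T => by
    have e : C T = C (h.tp (h.c x₀ T) (-x₁)) := sub_eq_zero.1 (by
      rw [← map_sub]; exact hkill _ (by rw [map_sub, h.c_tp, hx, one_smul, sub_self]))
    obtain ⟨v, hv⟩ := hr (h.tp (h.c x₀ T) (-x₁))
    rw [e, P_apply, hD, LinearMap.comp_apply, LinearMap.comp_apply, LinearMap.flip_apply, ← hv, LinearMap.flip_apply,
      h.c_tp, hx₁, one_smul]
  obtain ⟨s, hs⟩ : ∃ s : F, D = s • 1 := by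
    by_contra e
    push Not at e
    exact hno ⟨x₀, hx₀, D, by simpa [← hCD] using hC.inM 1, e⟩
  refine ⟨h.gW q x₀ * (s * h.gW x₀ q), LinearMap.ext fun u => ?_⟩
  rw [hCD, blk_apply, P_apply, h.c_tp, h.c_tp, hs]
  simp [smul_smul, mul_comm, mul_left_comm]

variable [Fintype F] (hG : h.Gens M) (h2 : (2 : F) ≠ 0) (h3 : 3 ≤ Module.finrank F U) (hno : ¬ h.Non M)

include hG h2 h3 hno

/-- The two configurations over three elements. -/
theorem Good.config (hns : ∀ s : F, h.blk q C ≠ s • 1) : (∀ c : F, c ≠ 0 → c * c = 1) ∧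
    ((LinearMap.ker (h.blk q C) = ⊥ ∧ ∀ u, h.blk q C (h.blk q C u) = -u) ∨
    (LinearMap.ker (h.blk q C) ≠ ⊥ ∧ ∃ γ : F, γ ≠ 0 ∧ (∀ u, h.blk q C (h.blk q C u) = γ • h.blk q C u) ∧
      ∀ T ∈ h.V₂ q C, C T = -(γ • h.P q q 1 T))) := by
  set G := h.blk q C with hGdef
  have htop : LinearMap.ker G = ⊥ → LinearMap.range G = ⊤ := fun hk =>
    LinearMap.range_eq_top.2 (LinearMap.injective_iff_surjective.1 (LinearMap.ker_eq_bot.1 hk))
  rcases hC.U1_cases hG h2 h3 hno with ⟨γ, hγ, hsc⟩ | ⟨hcard, hsq⟩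
  · have hker : LinearMap.ker G ≠ ⊥ := fun hk => hns γ (LinearMap.ext fun u => by
      rw [hsc u (htop hk ▸ Submodule.mem_top), LinearMap.smul_apply, Module.End.one_apply])
    have h4 : ((4 : ℕ) : F) ≠ 0 := by
      rw [show ((4 : ℕ) : F) = 2 * 2 by norm_num]; exact mul_ne_zero h2 h2
    have key : ∀ c : F, c ≠ 0 → ∀ T ∈ h.V₂ q C, c • h.P q q 1 T + (-2 / (c * γ)) • C T = 0 := fun c hc T hT => by
      have hd : c * (-2 / (c * γ)) * γ = -2 := by field_simp
      set d := -2 / (c * γ)
      have hsq : ∀ x ∈ (LinearMap.range G).prod (LinearMap.range G), Mh G c d (Mh G c d x) = -x := fun x hx => by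
        obtain ⟨u, v⟩ := x
        have hm := Mh_mapsTo (fun y _ => LinearMap.mem_range_self G y) c d _ hx
        have e := Mh_quad G c d u v
        rw [hsc _ hm.1, hsc _ hm.2, ← Prod.smul_mk, Prod.mk.eta, smul_smul, hd] at e
        linear_combination (norm := module) e
      refine hC.transl_zero hG h2 h3 hno h4 (fun x hx => ?_) hT
      show (Mh G c d ^ 4) x = x
      simp [pow_succ, Module.End.mul_apply, hsq x hx]
    obtain ⟨T₀, hT₀, -, hT₀'⟩ := hC.not_killed
    have hR : h.P q q 1 T₀ ≠ 0 := by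
      rw [h.R_apply]; exact h.tp_ne_zero (hT₀' hker) hC.q_ne
    have hc1 : ∀ c : F, c ≠ 0 → c * c = 1 := fun c hc => by
      have e1 := key 1 one_ne_zero T₀ hT₀
      have e := key c hc T₀ hT₀
      have e2 : (c * c - 1) • h.P q q 1 T₀ = 0 := by
        have e' := congrArg (fun S => (c * γ) • S) e
        have e1' := congrArg (fun S => γ • S) e1
        simp only [smul_add, smul_smul, smul_zero, one_mul, mul_one, mul_div_cancel₀ _ (mul_ne_zero hc hγ),
          mul_div_cancel₀ _ hγ] at e' e1'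
        refine (smul_eq_zero.1 (show γ • ((c * c - 1) • h.P q q 1 T₀) = 0 from ?_)).resolve_left hγ
        linear_combination (norm := module) e' - e1'
      exact sub_eq_zero.1 ((smul_eq_zero.1 e2).resolve_right hR)
    refine ⟨hc1, Or.inr ⟨hker, γ, hγ, fun u => hsc _ (LinearMap.mem_range_self G u), fun T hT => ?_⟩⟩
    have e := key 1 one_ne_zero T hT
    rw [one_smul, one_mul] at e
    have hd : (-2 : F) / γ = γ := by
      rw [div_eq_iff hγ, hc1 γ hγ]; linear_combination -three_zero h2 hc1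
    rw [hd] at e
    have e' := congrArg (fun S => γ • S) e
    simp only [smul_add, smul_smul, hc1 γ hγ, one_smul, smul_zero] at e'
    exact eq_neg_of_add_eq_zero_right e'
  · have hc1 := sq_one hcard
    by_cases hker : LinearMap.ker G = ⊥
    · exact ⟨hc1, Or.inl ⟨hker, fun u => hsq u (htop hker ▸ Submodule.mem_top)⟩⟩
    exfalso
    have h3' := three_zero h2 hc1
    have hN : ((10 : ℕ) : F) ≠ 0 := by
      rw [show ((10 : ℕ) : F) = 1 by push_cast; linear_combination (3 : F) * h3']; exact one_ne_zero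
    have key : ∀ d : F, d ≠ 0 → ∀ T ∈ h.V₂ q C, (1 : F) • h.P q q 1 T + d • C T = 0 := fun d hd T hT => by
      refine hC.transl_zero hG h2 h3 hno hN (fun x hx => ?_) hT
      obtain ⟨u, v⟩ := x
      have hm := Mh_mapsTo (fun y _ => LinearMap.mem_range_self G y) 1 d _
        (Mh_mapsTo (fun y _ => LinearMap.mem_range_self G y) 1 d _ hx)
      have e := Mh_quartic hcard G one_ne_zero hd (hsq _ hm.1) (hsq _ hm.2)
      have e3 : (3 : Polynomial F) = 0 := by rw [← Polynomial.C_ofNat 3, h3', map_zero]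
      have hpoly : (Polynomial.X ^ 10 - 1 : Polynomial F) = ((Polynomial.X ^ 5 - 1) * (Polynomial.X + 1)) *
          ((Polynomial.X ^ 2 - Polynomial.C 2 * Polynomial.X + 1) ^ 2 + Polynomial.X ^ 2) := by
        simp only [Polynomial.C_ofNat]
        linear_combination ((Polynomial.X ^ 5 - 1) * (Polynomial.X ^ 4 - Polynomial.X ^ 3 - Polynomial.X ^ 2
          + Polynomial.X)) * e3
      have := congrArg (fun f => aeval (Mh G 1 d) f (u, v)) hpoly
      simp only [map_mul, Module.End.mul_apply, e, map_zero] at this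
      rw [map_sub, map_pow, Polynomial.aeval_X, map_one, LinearMap.sub_apply, Module.End.one_apply] at this
      rw [hGdef] at this; exact sub_eq_zero.1 this
    obtain ⟨T, hT, -, hT'⟩ := hC.not_killed
    have e := sub_eq_zero.2 ((key 1 one_ne_zero T hT).trans (key (-1) (neg_ne_zero.2 one_ne_zero) T hT).symm)
    have e' : (2 : F) • C T = 0 := by linear_combination (norm := module) e
    have e2 := key 1 one_ne_zero T hT
    rw [(smul_eq_zero.1 e').resolve_left h2, smul_zero, add_zero, one_smul, h.R_apply] at e2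
    exact h.tp_ne_zero (hT' hker) hC.q_ne e2

/-- The fixed points of the involution attached to the first configuration. -/
theorem Good.A_data (hc1 : ∀ c : F, c ≠ 0 → c * c = 1) (hker : LinearMap.ker (h.blk q C) = ⊥)
    (hsq : ∀ u, h.blk q C (h.blk q C u) = -u) : ∃ ρ : Module.End F W,
      (∀ x z, h.gW (ρ x) (ρ z) = h.gW x z) ∧ (∀ x, ρ (ρ x) = x) ∧ ρ q = q ∧
      (∀ a, ρ a = -a → (∀ u, C (h.tp u a) = 0) ∧ ∀ T, h.c a (C T) = 0) ∧
      ∀ v, ρ v = v → h.gW q v = 0 → v ∈ Submodule.span F {q} := by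
  haveI : Nontrivial U := Module.nontrivial_of_finrank_pos (R := F) (by omega)
  set G := h.blk q C with hGdef
  have h3' := three_zero h2 hc1
  have hcard : Fintype.card F = 3 := card_three h2 hc1
  have hG0 : ∀ x, G x = 0 → x = 0 := fun x hx => (Submodule.mem_bot F).1 (hker ▸ LinearMap.mem_ker.2 hx)
  have hC2 : ∀ T ∈ h.V₂ q C, h.P q q 1 T = 0 ∧ C T = 0 := fun T hT => by
    have hR : h.P q q 1 T = 0 := by rw [h.R_apply, hG0 _ hT.2]; simp
    refine ⟨hR, ?_⟩
    have hN : ((10 : ℕ) : F) ≠ 0 := by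
      rw [show ((10 : ℕ) : F) = 1 by push_cast; linear_combination (3 : F) * h3']; exact one_ne_zero
    have e3 : (3 : Polynomial F) = 0 := by rw [← Polynomial.C_ofNat 3, h3', map_zero]
    have e := hC.transl_zero hG h2 h3 hno (c := 1) (d := 1) hN (fun x hx => ?_) hT
    · rwa [hR, smul_zero, zero_add, one_smul] at e
    have hm := Mh_quartic hcard G one_ne_zero one_ne_zero (u := x.1) (v := x.2) (hsq _) (hsq _)
    have hpoly : (Polynomial.X ^ 10 - 1 : Polynomial F) = ((Polynomial.X ^ 5 - 1) * (Polynomial.X + 1)) *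
        ((Polynomial.X ^ 2 - Polynomial.C 2 * Polynomial.X + 1) ^ 2 + Polynomial.X ^ 2) := by
      simp only [Polynomial.C_ofNat]
      linear_combination ((Polynomial.X ^ 5 - 1) * (Polynomial.X ^ 4 - Polynomial.X ^ 3 - Polynomial.X ^ 2
        + Polynomial.X)) * e3
    have := congrArg (fun f => aeval (Mh G 1 1) f x) hpoly
    simp only [map_mul, Module.End.mul_apply, show aeval (Mh G 1 1) _ x = 0 from hm, map_zero] at this
    rw [map_sub, map_pow, Polynomial.aeval_X, map_one, LinearMap.sub_apply, Module.End.one_apply] at this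
    rw [hGdef] at this; exact sub_eq_zero.1 this
  have hM5 : ∀ x : U × U, (Mh G 1 1 ^ 5) x = -x := fun x => by
    have hm := Mh_quartic hcard G one_ne_zero one_ne_zero (u := x.1) (v := x.2) (hsq _) (hsq _)
    have e3 : (3 : Polynomial F) = 0 := by rw [← Polynomial.C_ofNat 3, h3', map_zero]
    have hpoly : (Polynomial.X ^ 5 + 1 : Polynomial F) = (Polynomial.X + 1) *
        ((Polynomial.X ^ 2 - Polynomial.C 2 * Polynomial.X + 1) ^ 2 + Polynomial.X ^ 2) := by
      simp only [Polynomial.C_ofNat]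
      linear_combination (Polynomial.X ^ 4 - Polynomial.X ^ 3 - Polynomial.X ^ 2 + Polynomial.X) * e3
    have := congrArg (fun f => aeval (Mh G 1 1) f x) hpoly
    simp only [map_mul, Module.End.mul_apply, show aeval (Mh G 1 1) _ x = 0 from hm, map_zero] at this
    exact eq_neg_of_add_eq_zero_left (by simpa using this)
  obtain ⟨k, hk, ek, -⟩ := exists_isoU hG (LinearEquiv.neg F) (by simp)
  have hk' : ∀ T, k T = -T := fun T => LinearMap.congr_fun (h.ext_tp (φ := k.toLinearMap) (ψ := -1) fun u v => by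
    simp [ek]) T
  set y := k * hC.el 1 1 ^ 5 with hydef
  have hyM : y ∈ M := mul_mem hk (hC.grp_le hG (pow_mem (hC.el_mem 1 1) 5))
  have hy1 : ∀ x, y (h.Phi q C x) = h.Phi q C x := fun x => by
    rw [hydef, LinearEquiv.mul_apply, hC.el_pow_Phi, hM5, map_neg, hk', neg_neg]
  have hy2 : ∀ T ∈ h.V₂ q C, y T = -T := fun T hT => by
    have e : ∀ n : ℕ, (hC.el 1 1 ^ n) T = T := fun n => by
      induction n with
      | zero => simp
      | succ n ih => rw [pow_succ', LinearEquiv.mul_apply, ih, hC.el_V₂ 1 1 hT, (hC2 T hT).1, (hC2 T hT).2]; simp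
    rw [hydef, LinearEquiv.mul_apply, e, hk']
  obtain ⟨ρ, hρ⟩ := fixA hG h2 h3 hno hC.q_ne hyM fun u => by
    simpa [Phi_apply] using hy1 (u, 0)
  have hyy : ∀ T, y (y T) = T := fun T => by
    obtain ⟨u, -, v, -, T₂, hT₂, rfl⟩ := hC.decomp T
    rw [map_add, hy1, hy2 T₂ hT₂, map_add, hy1, map_neg, hy2 T₂ hT₂, neg_neg]
  obtain ⟨u₀, hu₀⟩ := exists_ne (0 : U)
  obtain ⟨a₀, ha₀⟩ : ∃ a, h.fU a u₀ ≠ 0 := by
    by_contra e
    push Not at e
    exact hu₀ (h.fnd.2 u₀ e)
  refine ⟨ρ, fun x z => ?_, fun x => tp_right_eq hu₀ (by rw [← hρ, ← hρ, hyy]),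
    tp_right_eq hu₀ (by rw [← hρ]; simpa [Phi_apply] using hy1 (u₀, 0)), fun a ha => ?_, fun v hv hqv => ?_⟩
  · have e := hG.le y hyM (h.tp a₀ x) (h.tp u₀ z)
    rw [hρ, hρ, h.pol, h.pol] at e
    exact mul_left_cancel₀ ha₀ e
  · have hk : ∀ u, C (h.tp u a) = 0 := fun u => by
      obtain ⟨b, -, b', -, T₂, hT₂, e⟩ := hC.decomp (h.tp u a)
      have e' : y (h.tp u a) = -h.tp u a := by rw [hρ, ha, map_neg]
      rw [e, map_add, hy1, hy2 T₂ hT₂] at e'
      have hP : h.Phi q C (b, b') = 0 := (smul_eq_zero.1 (show (2 : F) • h.Phi q C (b, b') = 0 by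
        linear_combination (norm := module) e')).resolve_left h2
      rw [e, hP, zero_add]
      exact (hC2 T₂ hT₂).2
    refine ⟨hk, fun T => h.ext_f fun u => ?_⟩
    rw [h.pol_c, map_zero]
    have := hC.skew (h.tp u a) T
    rwa [hk, map_zero, LinearMap.zero_apply, zero_add] at this
  · obtain ⟨b, -, b', -, T₂, hT₂, e⟩ := hC.decomp (h.tp u₀ v)
    have e' : y (h.tp u₀ v) = h.tp u₀ v := by rw [hρ, hv]
    rw [e, map_add, hy1, hy2 T₂ hT₂] at e'
    have hT : T₂ = 0 := (smul_eq_zero.1 (show (2 : F) • T₂ = 0 by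
      linear_combination (norm := module) -e')).resolve_left h2
    rw [hT, add_zero] at e
    have e2 := congrArg (h.c q) e
    rw [h.c_tp, hqv, zero_smul, h.c_Phi] at e2
    rw [hG0 _ e2.symm, h.Phi_apply, map_zero, LinearMap.zero_apply, map_zero, add_zero] at e
    exact h.tp_mem_A_iff hu₀ (by rw [e]; exact h.tp_mem_A b q)

/-- No non-scalar block if the second factor has dimension at least three. -/
theorem Good.big_false (hns : ∀ s : F, h.blk q C ≠ s • 1) {b : W} (hqb : h.gW q b = 0)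
    (hb : b ∉ Submodule.span F {q}) : False := by
  haveI : Nontrivial U := Module.nontrivial_of_finrank_pos (R := F) (by omega)
  obtain ⟨hc1, ⟨hker, hsq⟩ | ⟨hker, γ, hγ, hGG, hCV⟩⟩ := hC.config hG h2 h3 hno hns
  · obtain ⟨ρ, hρi, hρρ, hρq, hanti, hfix⟩ := hC.A_data hG h2 h3 hno hc1 hker hsq
    set a := ρ b - b with hadef
    have haneg : ρ a = -a := by rw [hadef, map_sub, hρρ, neg_sub]
    have ha0 : a ≠ 0 := fun e => hb (hfix b (sub_eq_zero.1 (hadef ▸ e)) hqb)
    have haq : a ∉ Submodule.span F {q} := fun hm => by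
      obtain ⟨t, ht⟩ := Submodule.mem_span_singleton.1 hm
      have e := haneg
      rw [← ht, map_smul, hρq, ht] at e
      exact ha0 ((smul_eq_zero.1 (show (2 : F) • a = 0 by linear_combination (norm := module) e)).resolve_left h2)
    have hqa : h.gW q a = 0 := by
      have e := hρi q a
      rw [hρq, haneg, map_neg] at e
      exact (mul_eq_zero.1 (show (2 : F) * h.gW q a = 0 by linear_combination -e)).resolve_left h2
    set q' := q + a with hq'def
    have hq'0 : q' ≠ 0 := fun e => haq (by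
      rw [show a = -q from eq_neg_of_add_eq_zero_right e]; exact Submodule.neg_mem _ (Submodule.mem_span_singleton_self q))
    have hblk : h.blk q' C = h.blk q C := LinearMap.ext fun u => by
      simp [blk_apply, hq'def, (hanti a haneg).1, (hanti a haneg).2]
    have hC' : h.Good M q' C := ⟨hq'0, hC.sq, hC.skew, hC.inM, hC.rank, hblk ▸ hC.compl, fun u hu => by
      rw [hblk] at hu
      rw [show u = 0 from (Submodule.mem_bot F).1 (hker ▸ LinearMap.mem_ker.2 hu)]; simp, hblk ▸ hC.ne⟩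
    obtain ⟨ρ', hρ'i, hρ'ρ, hρ'q, hanti', hfix'⟩ :=
      hC'.A_data hG h2 h3 hno hc1 (hblk ▸ hker) (fun u => by rw [hblk]; exact hsq u)
    set Zs : Submodule F W := LinearMap.ker (h.c.compl₂ C) with hZs
    have hmemZ : ∀ x, (∀ T, h.c x (C T) = 0) → x ∈ Zs := fun x hx => LinearMap.mem_ker.2 (LinearMap.ext hx)
    set Y : Submodule F W := h.gW.orthogonal Zs
    have hfixY : ∀ (σ : Module.End F W), (∀ x z, h.gW (σ x) (σ z) = h.gW x z) → (∀ x, σ (σ x) = x) →
        (∀ a, σ a = -a → ∀ T, h.c a (C T) = 0) → ∀ y ∈ Y, σ y = y := fun σ hσ hσσ hσa y hy => by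
      refine sub_eq_zero.1 (h.gnd.2 _ fun x => ?_)
      have e : h.gW x (σ y) = h.gW (σ x) y := by
        conv_lhs => rw [← hσσ x]
        rw [hσ]
      have h0 := BilinForm.mem_orthogonal_iff.1 hy (σ x - x) (hmemZ _ (hσa _ (by rw [map_sub, hσσ, neg_sub])))
      change h.gW (σ x - x) y = 0 at h0
      rw [map_sub, e, ← LinearMap.sub_apply, ← map_sub, h0]
    have hY0 : ∀ y ∈ Y, h.gW q y = 0 → y = 0 := fun y hy hqy => by
      obtain ⟨t, ht⟩ := Submodule.mem_span_singleton.1 (hfix y (hfixY ρ hρi hρρ (fun a ha => (hanti a ha).2) y hy) hqy)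
      by_contra hy0
      have ht0 : t ≠ 0 := fun e => hy0 (by rw [← ht, e, zero_smul])
      have e := hfixY ρ' hρ'i hρ'ρ (fun a ha => (hanti' a ha).2) y hy
      rw [← ht, map_smul] at e
      have hq2 : ρ' q = q := smul_right_injective W ht0 e
      have hρ'a : ρ' a = a := by
        have e' := hρ'q
        rw [hq'def, map_add, hq2] at e'
        exact add_left_cancel e'
      obtain ⟨s, hs⟩ := Submodule.mem_span_singleton.1 (hfix' a hρ'a (by rw [hq'def, map_add, LinearMap.add_apply, hqa,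
        h.g_self, add_zero]))
      rw [hq'def, smul_add] at hs
      by_cases hs1 : s = 1
      · subst hs1
        rw [one_smul, one_smul, add_eq_right] at hs
        exact hC.q_ne hs
      · refine haq (Submodule.mem_span_singleton.2 ⟨s / (1 - s), ?_⟩)
        have h1 : (1 - s) ≠ 0 := sub_ne_zero.2 (Ne.symm hs1)
        refine smul_right_injective W h1 ?_
        simp only
        rw [smul_smul, mul_div_cancel₀ _ h1]
        linear_combination (norm := module) hs
    obtain ⟨x₀, hx₀, hx₀0⟩ : ∃ y ∈ Y, y ≠ 0 := Submodule.exists_mem_ne_zero_of_ne_bot fun e => by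
      have e' := BilinForm.orthogonal_orthogonal h.gnd h.gAlt.isRefl Zs
      rw [show h.gW.orthogonal Zs = ⊥ from e, BilinForm.orthogonal_bot] at e'
      refine hC.ne (LinearMap.ext fun u => ?_)
      have hm : q ∈ Zs := e' ▸ Submodule.mem_top
      exact LinearMap.congr_fun (LinearMap.mem_ker.1 hm) (h.tp u q)
    obtain ⟨s, hs⟩ := hC.line_scalar hno hx₀0 fun T => h.mem_A_of_c hx₀0 fun x hx => by
      have hxY : x ∈ h.gW.orthogonal Y := BilinForm.mem_orthogonal_iff.2 fun y hy => by
        have hq0 : h.gW q x₀ ≠ 0 := fun e => hx₀0 (hY0 x₀ hx₀ e)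
        have e := hY0 (y - (h.gW q y / h.gW q x₀) • x₀) (Y.sub_mem hy (Y.smul_mem _ hx₀)) (by
          rw [map_sub, map_smul, smul_eq_mul, div_mul_cancel₀ _ hq0, sub_self])
        show h.gW y x = 0
        rw [sub_eq_zero.1 e, map_smul, LinearMap.smul_apply, h.g_swap_zero hx, smul_zero]
      rw [BilinForm.orthogonal_orthogonal h.gnd h.gAlt.isRefl] at hxY
      exact LinearMap.congr_fun (LinearMap.mem_ker.1 hxY) T
    exact hns s hs
  · set G := h.blk q C with hGdef
    have h3' := three_zero h2 hc1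
    let ε : U ≃ₗ[F] U := LinearEquiv.ofInvolutive (1 + γ • G) fun u => by
      simp only [LinearMap.add_apply, Module.End.one_apply, LinearMap.smul_apply, map_add, map_smul, hGG]
      match_scalars
      · ring
      · linear_combination γ * h3' + γ * hc1 γ hγ - γ * h3' + γ * h3'
    have hε : ∀ u, ε u = u + γ • G u := fun u => rfl
    have hεi : ∀ u x, h.fU (ε u) (ε x) = h.fU u x := fun u x => by
      simp only [hε, map_add, map_smul, LinearMap.add_apply, LinearMap.smul_apply, smul_eq_mul,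
        show ∀ u x, h.fU (G u) x = h.fU u (G x) from hC.self_adj, hGG]
      linear_combination γ * h.fU u (G x) * hc1 γ hγ + γ * h.fU u (G x) * h3'
    obtain ⟨k, hk, ek, -⟩ := exists_isoU hG ε hεi
    set z := hC.el 1 γ * hC.el 1 γ with hzdef
    have hz1 : ∀ x ∈ (LinearMap.range G).prod (LinearMap.range G), z (h.Phi q C x) = -h.Phi q C x := fun x hx => by
      rw [hzdef, LinearEquiv.mul_apply, hC.el_Phi, hC.el_Phi, ← map_neg]
      congr 1
      obtain ⟨u, v⟩ := x
      obtain ⟨⟨a, ha⟩, ⟨b, hb⟩⟩ := Mh_mapsTo (fun y _ => LinearMap.mem_range_self G y) 1 γ _ hx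
      have e := Mh_quad G 1 γ u v
      rw [← ha, ← hb, hGG, hGG, ha, hb, ← Prod.smul_mk, Prod.mk.eta, smul_smul, one_mul, hc1 γ hγ, one_smul] at e
      refine eq_neg_of_add_eq_zero_left ?_
      linear_combination (norm := module) e + h3' • (Mh G 1 γ (u, v))
    have hz2 : ∀ T ∈ h.V₂ q C, z T = T := fun T hT => by
      have e : hC.el 1 γ T = T := by
        rw [hC.el_V₂ 1 γ hT, hCV T hT]
        match_scalars
        · ring
        · linear_combination -hc1 γ hγ
      rw [hzdef, LinearEquiv.mul_apply, e, e]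
    have hzM : z ∈ M := hC.grp_le hG (mul_mem (hC.el_mem 1 γ) (hC.el_mem 1 γ))
    have hzq : ∀ u, z (h.tp u q) = h.tp (ε u) q := fun u => by
      obtain ⟨a, ha, c, ⟨c', hc'⟩, rfl⟩ := Submodule.mem_sup.1 (show u ∈ LinearMap.ker G ⊔ LinearMap.range G
        by rw [hC.compl.sup_eq_top]; exact Submodule.mem_top)
      have e1 := hz1 (c, 0) ⟨⟨c', hc'⟩, zero_mem _⟩
      simp [Phi_apply] at e1
      have hmem : h.tp a q ∈ h.V₂ q C :=
        ⟨show h.c q (C _) = 0 by rw [hC.kill a ha, map_zero], show h.blk q C (h.c q _) = 0 by simp [h.g_self]⟩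
      have hGc : G c = γ • c := by rw [← hc', hGG]
      rw [map_add, LinearMap.add_apply, map_add, hz2 _ hmem, e1, hε, map_add G, LinearMap.mem_ker.1 ha, hGc,
        zero_add, smul_smul, hc1 γ hγ, one_smul]
      simp only [map_add, LinearMap.add_apply]
      linear_combination (norm := module) -(h3' • h.tp c q)
    obtain ⟨ρ, hρ⟩ := fixA hG h2 h3 hno hC.q_ne (mul_mem hk hzM) fun u => by
      rw [LinearEquiv.mul_apply, hzq, ek]
      exact congrArg (fun v => h.tp v q) (ε.symm_apply_apply u)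
    have hz : ∀ u x, z (h.tp u x) = h.tp (ε u) (ρ x) := fun u x => k.injective (by
      rw [ek, ← LinearEquiv.mul_apply, hρ]
      exact congrArg (fun v => h.tp v (ρ x)) (ε.symm_apply_apply u).symm)
    have hV1 : ∀ S, ∃ p ∈ (LinearMap.range G).prod (LinearMap.range G), z S - S = h.Phi q C p := fun S => by
      obtain ⟨u, hu, v, hv, S₂, hS₂, rfl⟩ := hC.decomp S
      refine ⟨(u, v), ⟨hu, hv⟩, ?_⟩
      rw [map_add, hz1 _ ⟨hu, hv⟩, hz2 _ hS₂]
      linear_combination (norm := module) -(h3' • h.Phi q C (u, v))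
    obtain ⟨u₁, hu₁, hu₁0⟩ := Submodule.exists_mem_ne_zero_of_ne_bot hker
    have hρ1 : ∀ x, ρ x = x := fun x => by
      obtain ⟨⟨p, p'⟩, ⟨hp, hp'⟩, e⟩ := hV1 (h.tp u₁ x)
      rw [hz, hε, LinearMap.mem_ker.1 hu₁, smul_zero, add_zero, ← map_sub] at e
      have e1 := congrArg (h.c q) e
      rw [h.c_tp, h.c_Phi] at e1
      have hqd : h.gW q (ρ x - x) = 0 := by
        by_contra hne
        exact hu₁0 ((Submodule.disjoint_def.1 hC.compl.disjoint) u₁ hu₁ (by
          rw [← inv_smul_smul₀ hne u₁, e1]; exact Submodule.smul_mem _ _ (LinearMap.mem_range_self _ _)))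
      rw [hqd, zero_smul] at e1
      obtain rfl : p' = 0 := hC.blk_inj hp' e1.symm
      rw [h.Phi_apply, map_zero, LinearMap.zero_apply, map_zero, add_zero] at e
      obtain ⟨t, ht⟩ := Submodule.mem_span_singleton.1 (h.tp_mem_A_iff hu₁0 (e ▸ h.tp_mem_A p q))
      rw [← ht, map_smul, ← LinearMap.smul_apply, ← map_smul] at e
      have e3 := h.tp_injective hC.q_ne e
      have h0 : t • u₁ = 0 := (Submodule.disjoint_def.1 hC.compl.disjoint) _ (Submodule.smul_mem _ t hu₁) (e3 ▸ hp)
      rw [(smul_eq_zero.1 h0).resolve_right hu₁0, zero_smul] at ht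
      exact sub_eq_zero.1 ht.symm
    obtain ⟨v, hv, hv0⟩ := Submodule.exists_mem_ne_zero_of_ne_bot
      (fun e => hC.ne (LinearMap.range_eq_bot.1 e) : LinearMap.range G ≠ ⊥)
    obtain ⟨v', rfl⟩ := hv
    obtain ⟨⟨p, p'⟩, ⟨hp, hp'⟩, e⟩ := hV1 (h.tp (G v') b)
    rw [hz, hρ1, hε, hGG, smul_smul, hc1 γ hγ, one_smul, map_add, LinearMap.add_apply, add_sub_cancel_right] at e
    have e1 := congrArg (h.c q) e
    rw [h.c_tp, hqb, zero_smul, h.c_Phi] at e1
    obtain rfl : p' = 0 := hC.blk_inj hp' e1.symm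
    rw [h.Phi_apply, map_zero, LinearMap.zero_apply, map_zero, add_zero] at e
    exact hb (h.tp_mem_A_iff hv0 (e ▸ h.tp_mem_A p q))

end TBil

end CfsgLib.TensorMax.Pair
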