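import Cfsg.Agent.Lib.TensorMax.Pair.Small

/-!
A non-scalar block is impossible over three elements when the second factor is a plane.
-/

set_option autoImplicit false
set_option linter.unusedSectionVars false
set_option linter.unusedVariables false
set_option linter.unusedSimpArgs false

namespace CfsgLib.TensorMax.Pair

open LinearMap (BilinForm)

variable {F V U W : Type*} [Field F] [AddCommGroup V] [Module F V] [AddCommGroup U] [Module F U]
  [AddCommGroup W] [Module F W]
variable [FiniteDimensional F V] [FiniteDimensional F U] [FiniteDimensional F W]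
variable {B : BilinForm F V} {M : Subgroup (V ≃ₗ[F] V)}

namespace TBil

variable {h : TBil B U W} {q qop : W} {C : Module.End F V}

theorem decomp2 (hqo : h.gW q qop = 1) (hone : ∀ v, h.gW q v = 0 → v ∈ Submodule.span F {q}) (T : V) :
    T = h.tp (h.c q T) qop - h.tp (h.c qop T) q := by
  refine sub_eq_zero.1 (h.eq_zero_of_c fun w => ?_)
  obtain ⟨t, ht⟩ := Submodule.mem_span_singleton.1 (hone (w - h.gW q w • qop)
    (by rw [map_sub, map_smul, hqo, smul_eq_mul, mul_one, sub_self]))
  have hw : w = t • q + h.gW q w • qop := by rw [ht, sub_add_cancel]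
  rw [hw, map_add, map_smul, map_smul]
  simp [h.g_self, hqo, h.g_swap qop q]

/-- An endomorphism with all anisotropic vectors as eigenvectors is scalar. -/
theorem eigen_scalar (h2 : (2 : F) ≠ 0) (h3 : 3 ≤ Module.finrank F U) (S : Module.End F U)
    (hS : ∀ a, h.fU a a ≠ 0 → ∃ t : F, S a = t • a) : ∃ t : F, S = t • 1 := by
  haveI : Nontrivial U := Module.nontrivial_of_finrank_pos (R := F) (by omega)
  have step : ∀ a b, ∀ s t : F, h.fU a a ≠ 0 → h.fU b b ≠ 0 → S a = s • a → S b = t • b → s ≠ t →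
      h.fU a b = 0 ∧ h.fU b b = - h.fU a a := fun a b s t ha hb ea eb hst => by
    have hiso : ∀ r : F, r ≠ 0 → h.fU (a + r • b) (a + r • b) = 0 := fun r hr => by
      by_contra hne
      obtain ⟨u, hu⟩ := hS _ hne
      rw [map_add, map_smul, ea, eb] at hu
      have hab : (u - s) • a = (r * (t - u)) • b := by linear_combination (norm := module) -hu
      by_cases hus : u = s
      · rw [hus, sub_self, zero_smul] at hab
        rcases smul_eq_zero.1 hab.symm with e | e
        · exact mul_ne_zero hr (sub_ne_zero.2 (Ne.symm hst)) e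
        · exact hb (by rw [e]; simp)
      · have e' : a = ((u - s)⁻¹ * (r * (t - u))) • b := by
          rw [mul_smul, ← hab, inv_smul_smul₀ (sub_ne_zero.2 hus)]
        have e2 : s • a = t • a := by
          rw [← ea, e', map_smul, eb, smul_comm]
        exact hst (smul_left_injective F (fun e => ha (by rw [e]; simp)) e2)
    have e1 := hiso 1 one_ne_zero
    have e2 := hiso (-1) (neg_ne_zero.2 one_ne_zero)
    simp only [map_add, map_smul, LinearMap.add_apply, LinearMap.smul_apply, smul_eq_mul, h.fSym b a] at e1 e2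
    have e3 : h.fU a b = 0 :=
      (mul_eq_zero.1 (show ((2 : F) * 2) * h.fU a b = 0 by linear_combination e1 - e2)).resolve_left
        (mul_ne_zero h2 h2)
    exact ⟨e3, by linear_combination e1 - 2 * e3⟩
  obtain ⟨a, ha⟩ : ∃ a, h.fU a a ≠ 0 := by
    by_contra e
    push Not at e
    have hz : {a : U | h.fU a a ≠ 0} = ∅ := Set.eq_empty_iff_forall_notMem.2 fun a ha => ha (e a)
    have := h.span_aniso h2
    rw [hz, Submodule.span_empty] at this
    exact bot_ne_top this
  obtain ⟨s, hs⟩ := hS a ha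
  refine ⟨s, LinearMap.ext_on (h.span_aniso h2) fun b hb => ?_⟩
  obtain ⟨t, ht⟩ := hS b hb
  show S b = s • b
  by_cases hst : s = t
  · rw [hst, ht]
  exfalso
  obtain ⟨hab, hbb⟩ := step a b s t ha hb hs ht hst
  obtain ⟨c, ⟨hca, hcb⟩, hc⟩ : ∃ c, (h.fU a c = 0 ∧ h.fU b c = 0) ∧ h.fU c c ≠ 0 := by
    obtain ⟨x, hx, hx0⟩ := (LinearMap.ker ((h.fU a).prod (h.fU b))).exists_mem_ne_zero_of_ne_bot fun e => by
      have := LinearMap.finrank_le_finrank_of_injective (LinearMap.ker_eq_bot.1 e)
      simp at this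
      omega
    by_contra hcon
    push Not at hcon
    have hK : ∀ z, h.fU a z = 0 → h.fU b z = 0 → h.fU x z = 0 := fun z hza hzb => by
      have hxa : h.fU a x = 0 := congrArg Prod.fst (LinearMap.mem_ker.1 hx)
      have hxb : h.fU b x = 0 := congrArg Prod.snd (LinearMap.mem_ker.1 hx)
      have e1 := hcon x ⟨hxa, hxb⟩
      have e2 := hcon z ⟨hza, hzb⟩
      have e3 := hcon (x + z) ⟨by rw [map_add, hxa, hza, add_zero], by rw [map_add, hxb, hzb, add_zero]⟩
      simp only [map_add, LinearMap.add_apply, h.fSym z x] at e3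
      exact (mul_eq_zero.1 (show (2 : F) * h.fU x z = 0 by linear_combination e3 - e1 - e2)).resolve_left h2
    refine hx0 (h.fnd.1 x fun y => ?_)
    have hxa : h.fU a x = 0 := congrArg Prod.fst (LinearMap.mem_ker.1 hx)
    have hxb : h.fU b x = 0 := congrArg Prod.snd (LinearMap.mem_ker.1 hx)
    have e := hK (y - (h.fU a y / h.fU a a) • a - (h.fU b y / h.fU b b) • b)
      (by simp only [map_sub, map_smul, smul_eq_mul, hab, mul_zero, div_mul_cancel₀ _ ha, sub_self])
      (by simp only [map_sub, map_smul, smul_eq_mul, h.fSym b a, hab, mul_zero, sub_zero, div_mul_cancel₀ _ hb,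
        sub_self])
    simpa [h.fSym x a, h.fSym x b, hxa, hxb] using e
  obtain ⟨r, hr⟩ := hS c hc
  by_cases hrs : r = s
  · obtain ⟨hbc, hcc⟩ := step b c t r hb hc ht hr (fun e => hst (by rw [e, hrs]))
    have hac : h.fU (a + c) (a + c) = 2 * h.fU a a := by
      simp only [map_add, LinearMap.add_apply, h.fSym c a, hca, add_zero, zero_add]
      rw [hcc, hbb]; ring
    obtain ⟨-, e⟩ := step b (a + c) t s hb (by rw [hac]; exact mul_ne_zero h2 ha) ht
      (by rw [map_add, hs, hr, hrs, smul_add]) (Ne.symm hst)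
    rw [hac, hbb] at e
    exact ha (by linear_combination e)
  · obtain ⟨-, hcc⟩ := step a c s r ha hc hs hr (Ne.symm hrs)
    by_cases hrt : r = t
    · have hbc : h.fU (b + c) (b + c) = 2 * h.fU b b := by
        simp only [map_add, LinearMap.add_apply, h.fSym c b, hcb, add_zero, zero_add]
        rw [hcc, hbb]; ring
      obtain ⟨-, e⟩ := step a (b + c) s t ha (by rw [hbc]; exact mul_ne_zero h2 hb) hs
        (by rw [map_add, ht, hr, hrt, smul_add]) hst
      rw [hbc, hbb] at e
      exact ha (by linear_combination -e)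
    · obtain ⟨-, e⟩ := step b c t r hb hc ht hr (Ne.symm hrt)
      rw [hcc, hbb] at e
      exact ha ((mul_eq_zero.1 (show (2 : F) * h.fU a a = 0 by linear_combination -e)).resolve_left h2)

theorem exists_iso_sub (h2 : (2 : F) ≠ 0) (hc1 : ∀ c : F, c ≠ 0 → c * c = 1) (S : Submodule F U)
    (hS : 3 ≤ Module.finrank F S) : ∃ a ∈ S, a ≠ 0 ∧ h.fU a a = 0 := by
  by_contra hcon
  push Not at hcon
  have h3' := three_zero h2 hc1
  have key : ∀ a ∈ S, ∀ b ∈ S, a ≠ 0 → b ≠ 0 → h.fU a b = 0 → h.fU b b = h.fU a a := fun a ha b hb ha0 hb0 hab => by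
    rcases mul_self_eq_one_iff.1 (hc1 _ (hcon a ha ha0)) with e | e <;>
      rcases mul_self_eq_one_iff.1 (hc1 _ (hcon b hb hb0)) with e' | e'
    · rw [e, e']
    rotate_left
    · exfalso
      have hne : a + b ≠ 0 := fun h0 => by
        rw [eq_neg_of_add_eq_zero_left h0] at hab
        simp [e'] at hab
      refine hcon _ (S.add_mem ha hb) hne ?_
      simp [hab, h.fSym b a, e, e']
    · rw [e, e']
    · exfalso
      have hne : a + b ≠ 0 := fun h0 => by
        rw [eq_neg_of_add_eq_zero_left h0] at hab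
        simp [e'] at hab
      refine hcon _ (S.add_mem ha hb) hne ?_
      simp [hab, h.fSym b a, e, e']
  have hex : ∀ a b : U, ∃ c ∈ S, c ≠ 0 ∧ h.fU a c = 0 ∧ h.fU b c = 0 := fun a b => by
    obtain ⟨x, hx, hx0⟩ := (LinearMap.ker (((h.fU a).prod (h.fU b)).domRestrict S)).exists_mem_ne_zero_of_ne_bot
      fun e => by
        have := LinearMap.finrank_le_finrank_of_injective (LinearMap.ker_eq_bot.1 e)
        simp at this
        omega
    exact ⟨x, x.2, fun e => hx0 (Subtype.ext e), congrArg Prod.fst (LinearMap.mem_ker.1 hx),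
      congrArg Prod.snd (LinearMap.mem_ker.1 hx)⟩
  obtain ⟨a, ha, ha0, -⟩ := hex 0 0
  obtain ⟨b, hb, hb0, hab, -⟩ := hex a a
  obtain ⟨c, hc, hc0, hac, hbc⟩ := hex a b
  refine hcon (a + b + c) (S.add_mem (S.add_mem ha hb) hc) (fun e => ?_) ?_
  · have := congrArg (h.fU a) e
    rw [map_add, map_add, hab, hac, add_zero, add_zero, map_zero] at this
    exact hcon a ha ha0 this
  · simp only [map_add, LinearMap.add_apply, hab, hac, hbc, h.fSym b a, h.fSym c a, h.fSym c b, add_zero, zero_add,
      key a ha b hb ha0 hb0 hab, key a ha c hc ha0 hc0 hac]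
    linear_combination h.fU a a * h3'

variable [Fintype F] (hG : h.Gens M) (h2 : (2 : F) ≠ 0) (h3 : 3 ≤ Module.finrank F U) (hno : ¬ h.Non M)
variable (hqo : h.gW q qop = 1) (hone : ∀ v, h.gW q v = 0 → v ∈ Submodule.span F {q})

include hG h2 h3 hno hqo hone

/-- The product with the conjugate by a reflection has a block of rank at most two. -/
theorem Conj.reflect (hC : h.Conj M C) {a : U} (ha : h.fU a a ≠ 0)
    (hind : ∀ σ τ : F, σ • C (h.tp a q) + τ • C (h.tp a qop) = 0 → σ = 0 ∧ τ = 0)
    (hne : B (h.tp a q) (C (h.tp a q)) ≠ 0 ∨ B (h.tp a qop) (C (h.tp a qop)) ≠ 0) :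
    ∃ C' w, w ≠ 0 ∧ h.Conj M C' ∧ h.blk w C' ≠ 0 ∧ Module.finrank F (LinearMap.range (h.blk w C')) ≤ 2 ∧
      (B (h.tp a q) (C (h.tp a q)) * B (h.tp a qop) (C (h.tp a qop)) =
        B (h.tp a q) (C (h.tp a qop)) * B (h.tp a q) (C (h.tp a qop)) → h.blk w C' * h.blk w C' = 0) := by
  set x₁ := C (h.tp a q) with hx₁
  set x₂ := C (h.tp a qop) with hx₂
  set b11 := B (h.tp a q) x₁ with hb11
  set b12 := B (h.tp a q) x₂ with hb12
  set b22 := B (h.tp a qop) x₂ with hb22
  have hsk : ∀ S T, B S (C T) = - B (C S) T := fun S T => eq_neg_of_add_eq_zero_right (hC.skew hG S T)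
  have hb21 : B (h.tp a qop) x₁ = b12 := by rw [hb12, hx₁, hsk, ← h.b_swap]
  have hC0 : ∀ T, C (C T) = 0 := fun T => LinearMap.congr_fun hC.sq T
  set c : F := 2 / h.fU a a
  set r := h.reflU a ha
  have hrr : ∀ u, r (r u) = u := fun u => r.symm_apply_apply u
  obtain ⟨k, hk, ek, -⟩ := exists_isoU hG r (h.reflU_isom a ha)
  have hkk : ∀ T, k (k T) = T := LinearMap.congr_fun (h.ext_tp (φ := k.toLinearMap ∘ₗ k.toLinearMap)
    (ψ := LinearMap.id) fun u v => by simp [ek, hrr])
  have hkE : ∀ T, k T = T + (-c) • (B (h.tp a q) T • h.tp a qop - B (h.tp a qop) T • h.tp a q) := fun T => by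
    conv_lhs => rw [decomp2 hqo hone T]
    conv_rhs => enter [1]; rw [decomp2 hqo hone T]
    simp only [map_sub, ek, r, reflU_apply, map_add, map_smul, LinearMap.add_apply, LinearMap.smul_apply, h.pol_c]
    module
  let C' : Module.End F V := k.toLinearMap ∘ₗ C ∘ₗ k.toLinearMap
  have hC' : h.Conj M C' := hC.conj hk fun T => by simp [C', hkk]
  have hΨ : ∀ T, C (C' (C T)) = (c * c) • ((B x₁ T * b22 - B x₂ T * b12) • x₁ + (B x₂ T * b11 - B x₁ T * b12) • x₂) :=
    fun T => by
      show C (k (C (k (C T)))) = _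
      rw [hkE (C T), map_add, map_smul, map_sub, map_smul, map_smul, hC0, zero_add, hsk, hsk (h.tp a qop), ← hx₁, ← hx₂,
        hkE]
      simp only [map_add, map_smul, map_sub, map_neg, neg_smul, hC0, smul_zero, sub_zero, neg_zero, zero_add,
        smul_eq_mul, ← hx₁, ← hx₂, ← hb11, ← hb12, ← hb22, hb21]
      simp only [show C x₁ = 0 from hC0 _, show C x₂ = 0 from hC0 _, smul_zero, sub_zero, neg_zero, zero_add]
      module
  obtain ⟨g, hg, w, hw, s, hs, eg⟩ := id hC
  let C'' : Module.End F V := g.symm.toLinearMap ∘ₗ C' ∘ₗ g.toLinearMap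
  have hC'' : h.Conj M C'' := hC'.conj (inv_mem hg) fun T => by
    show g.symm (C' (g (g.symm T))) = g.symm (C' T)
    rw [g.apply_symm_apply]
  have hstep : ∀ X, C (C' (g X)) = s • g (h.tp (h.c w (C'' X)) w) := fun X => by
    rw [show C' (g X) = g (C'' X) by simp [C''], eg, map_smul, h.R_apply]
  set G := h.blk w C'' with hGdef
  have hΦ : ∀ S, C (C' (C (g S))) = (s * s) • g (h.tp (G (h.c w S)) w) := fun S => by
    rw [eg, map_smul, map_smul, map_smul, hstep, smul_smul, h.R_apply]; rfl
  obtain ⟨w₁, hw₁⟩ := h.exists_g_one hw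
  have hcw : ∀ u, h.c w (h.tp u (-w₁)) = u := fun u => by
    rw [h.c_tp, map_neg, h.g_swap, hw₁, neg_neg, one_smul]
  refine ⟨C'', w, hw, hC'', fun hz => ?_, ?_, fun hdet => ?_⟩
  · have h0 : ∀ T, (B x₁ T * b22 - B x₂ T * b12) = 0 ∧ (B x₂ T * b11 - B x₁ T * b12) = 0 := fun T => by
      obtain ⟨S, rfl⟩ := g.surjective T
      have e := hΨ (g S)
      rw [hΦ, show G = 0 from hz, LinearMap.zero_apply, map_zero, LinearMap.zero_apply, map_zero, smul_zero] at e
      have hc0 : c * c ≠ 0 := mul_ne_zero (div_ne_zero h2 ha) (div_ne_zero h2 ha)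
      exact hind _ _ ((smul_eq_zero.1 e.symm).resolve_left hc0)
    have e1 : b22 • x₁ + (-b12) • x₂ = 0 := h.bnd.1 _ fun T => by
      simp only [map_add, map_smul, LinearMap.add_apply, LinearMap.smul_apply, smul_eq_mul]
      linear_combination (h0 T).1
    have e2 : (-b12) • x₁ + b11 • x₂ = 0 := h.bnd.1 _ fun T => by
      simp only [map_add, map_smul, LinearMap.add_apply, LinearMap.smul_apply, smul_eq_mul]
      linear_combination (h0 T).2
    exact hne.elim (fun hn => hn (hind _ _ e2).2) (fun hn => hn (hind _ _ e1).1)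
  · let Sp : Submodule F V :=
      LinearMap.range ((LinearMap.toSpanSingleton F V x₁).coprod (LinearMap.toSpanSingleton F V x₂))
    have hmem : ∀ α β : F, α • x₁ + β • x₂ ∈ Sp := fun α β => ⟨(α, β), by simp⟩
    let φ : U →ₗ[F] V := g.toLinearMap ∘ₗ h.tp.flip w
    have hφ : Function.Injective φ := g.injective.comp (h.tp_injective hw)
    have hle : (LinearMap.range G).map φ ≤ Sp := by
      rintro _ ⟨_, ⟨u, rfl⟩, rfl⟩
      have e := (hΦ (h.tp u (-w₁))).symm.trans (hΨ _)
      rw [hcw, smul_add, smul_smul, smul_smul] at e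
      refine (Submodule.smul_mem_iff _ (mul_ne_zero hs hs)).1 ?_
      show (s * s) • g (h.tp (G u) w) ∈ Sp
      rw [e]
      exact hmem _ _
    rw [(Submodule.equivMapOfInjective φ hφ _).finrank_eq]
    refine (Submodule.finrank_mono hle).trans ((LinearMap.finrank_range_le _).trans ?_)
    simp
  · have hx : ∀ α β : F, C (C' (α • x₁ + β • x₂)) = 0 := fun α β => by
      have e1 : B x₁ (h.tp a q) = -b11 := h.b_swap _ _
      have e2 : B x₂ (h.tp a q) = -b12 := h.b_swap _ _
      have e3 : B x₁ (h.tp a qop) = -b12 := by rw [h.b_swap, hb21]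
      have e4 : B x₂ (h.tp a qop) = -b22 := h.b_swap _ _
      simp only [map_add, map_smul, hx₁, hx₂, hΨ]
      simp only [← hx₁, ← hx₂, e1, e2, e3, e4]
      linear_combination (norm := module) (-(α * (c * c))) • (congrArg (fun z : F => z • x₁) hdet) +
        (-(β * (c * c))) • (congrArg (fun z : F => z • x₂) hdet)
    refine LinearMap.ext fun u => h.tp_injective hw (g.injective ?_)
    have e := congrArg (fun X => C (C' X)) ((hΦ (h.tp u (-w₁))).symm.trans (hΨ _))
    simp only [map_smul, hx, smul_zero, hcw, hstep] at e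
    rw [smul_smul, smul_eq_zero] at e
    simp only [LinearMap.flip_apply, LinearMap.zero_apply, map_zero, Module.End.mul_apply]
    exact e.resolve_left (mul_ne_zero (mul_ne_zero hs hs) hs)

/-- The configuration with a kernel is impossible. -/
theorem Good.two_B (hC : h.Good M q C) (hCc : h.Conj M C) (hc1 : ∀ c : F, c ≠ 0 → c * c = 1)
    (hker : LinearMap.ker (h.blk q C) ≠ ⊥) {γ : F} (hγ : γ ≠ 0)
    (hGG : ∀ u, h.blk q C (h.blk q C u) = γ • h.blk q C u)
    (hCV : ∀ T ∈ h.V₂ q C, C T = -(γ • h.P q q 1 T))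
    (hr : Module.finrank F (LinearMap.range (h.blk q C)) ≤ 2) (hm : 5 ≤ Module.finrank F U) : False := by
  set G := h.blk q C with hGdef
  set U₁ := LinearMap.range G
  have hγγ := hc1 γ hγ
  have hsk : ∀ S T, B S (C T) = - B (C S) T := fun S T => eq_neg_of_add_eq_zero_right (hC.skew S T)
  have hadj : ∀ u x, h.fU (G u) x = h.fU u (G x) := hC.self_adj
  have hU1 : ∀ x ∈ U₁, G x = γ • x := by rintro _ ⟨u, rfl⟩; exact hGG u
  set Z : Module.End F U := γ • (h.c q ∘ₗ C ∘ₗ h.tp.flip qop) with hZdef
  set P : Module.End F U := γ • G with hPdef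
  have hCq : ∀ u, h.c q (C (h.tp u qop)) = γ • Z u := fun u => by
    rw [hZdef, LinearMap.smul_apply, smul_smul, hγγ, one_smul]; rfl
  have hP1 : ∀ x ∈ U₁, P x = x := fun x hx => by rw [hPdef, LinearMap.smul_apply, hU1 x hx, smul_smul, hγγ, one_smul]
  have hPmem : ∀ u, P u ∈ U₁ := fun u => U₁.smul_mem γ (LinearMap.mem_range_self G u)
  have hPadj : ∀ u x, h.fU (P u) x = h.fU u (P x) := fun u x => by simp [hPdef, hadj]
  have hZ : ∀ u, Z u ∈ U₁ ∧ C (h.tp u qop) = -(γ • h.tp (u - P u) q) + C (h.tp (Z u) q) := fun u => by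
    obtain ⟨a, ha, b, hb, T₂, hT₂, e⟩ := hC.decomp (h.tp u qop)
    have e1 := congrArg (h.c q) e
    rw [map_add, h.c_Phi, h.c_tp, hqo, one_smul, ← hGdef] at e1
    have hP : P u = G b := by
      rw [hPdef, LinearMap.smul_apply, e1, map_add, hGG, show G (h.c q T₂) = 0 from hT₂.2, add_zero, smul_smul, hγγ,
        one_smul]
    have hCe : C (h.tp u qop) = C (h.tp a q) + -(γ • h.tp (h.c q T₂) q) := by
      rw [e, map_add, h.C_Phi hC.sq, hCV _ hT₂, h.R_apply]; simp [Phi_apply]
    have hZa : Z u = a := by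
      show γ • h.c q (C (h.tp u qop)) = a
      rw [hCe, map_add, map_neg, map_smul, h.c_tp, h.g_self, zero_smul, smul_zero, neg_zero, add_zero,
        show h.c q (C (h.tp a q)) = G a from rfl, hU1 a ha, smul_smul, hγγ, one_smul]
    refine ⟨hZa ▸ ha, ?_⟩
    rw [hCe, hZa, show u - P u = h.c q T₂ by rw [hP, e1, add_sub_cancel_left], add_comm]
  have hqq : h.gW qop q = -1 := by rw [h.g_swap, hqo]
  have b11 : ∀ x u, B (h.tp x q) (C (h.tp u q)) = h.fU x (G u) := fun x u => (h.pol_c x q _).symm
  have b12 : ∀ x u, B (h.tp x q) (C (h.tp u qop)) = γ * h.fU x (Z u) := fun x u => by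
    rw [← h.pol_c, hCq, map_smul, smul_eq_mul]
  have b21 : ∀ x u, B (h.tp x qop) (C (h.tp u q)) = γ * h.fU u (Z x) := fun x u => by
    rw [hsk, ← h.b_swap, b12]
  have b22 : ∀ x u, B (h.tp x qop) (C (h.tp u qop)) = γ * (h.fU x (u - P u) + h.fU (Z u) (Z x)) := fun x u => by
    rw [(hZ u).2, map_add, map_neg, map_smul, h.pol, hqq, b21, smul_eq_mul]
    ring
  -- the restriction to the image is self-adjoint
  have hZsym : ∀ x ∈ U₁, ∀ u ∈ U₁, h.fU (Z x) u = h.fU x (Z u) := by
    rintro _ ⟨x, rfl⟩ _ ⟨v, rfl⟩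
    set α : U → U := fun v => - h.c qop (C (h.tp v q)) with hα
    have hCv : ∀ v, C (h.tp v q) = h.tp (G v) qop + h.tp (α v) q := fun v => by
      rw [hα]
      simp only [map_neg, LinearMap.neg_apply]
      rw [← sub_eq_add_neg]
      exact decomp2 hqo hone (C (h.tp v q))
    have h0 : ∀ v, γ • Z (G v) + G (α v) = 0 := fun v => by
      have e := congrArg (h.c q) (show C (C (h.tp v q)) = 0 from LinearMap.congr_fun hC.sq _)
      rwa [hCv, map_add, map_add, hCq, map_zero] at e
    have hsym : h.fU (G x) (α v) = h.fU (α x) (G v) := by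
      have e : B (C (h.tp x q)) (C (h.tp v q)) = 0 := by
        rw [hsk, show C (C (h.tp x q)) = 0 from LinearMap.congr_fun hC.sq _]; simp
      rw [hCv, hCv] at e
      simp only [map_add, LinearMap.add_apply, h.pol, h.g_self, hqo, hqq, mul_zero, zero_add, add_zero, mul_one,
        mul_neg] at e
      linear_combination -e
    have e1 : γ * h.fU (Z (G x)) (G v) = - h.fU (α x) (G (G v)) := by
      have e := congrArg (fun y => h.fU y (G v)) (h0 x)
      simp only [map_add, map_smul, LinearMap.add_apply, LinearMap.smul_apply, smul_eq_mul, map_zero,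
        LinearMap.zero_apply, hadj] at e
      linear_combination e
    have e2 : γ * h.fU (G x) (Z (G v)) = - h.fU (G (G x)) (α v) := by
      have e := congrArg (fun y => h.fU (G x) y) (h0 v)
      simp only [map_add, map_smul, smul_eq_mul, map_zero, ← hadj] at e
      linear_combination e
    rw [hGG, map_smul, smul_eq_mul] at e1
    rw [hGG, show h.fU (γ • G x) (α v) = γ * h.fU (G x) (α v) by simp] at e2
    exact mul_left_cancel₀ hγ (by linear_combination e1 - e2 + γ * hsym)
  -- vectors killed by both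
  set X₀ := LinearMap.ker G ⊓ LinearMap.ker Z with hX₀
  have hk : Module.finrank F U ≤ Module.finrank F X₀ + 2 * Module.finrank F U₁ := by
    have e1 := Submodule.finrank_sup_add_finrank_inf_eq (LinearMap.ker G) (LinearMap.ker Z)
    have e2 := LinearMap.finrank_range_add_finrank_ker G
    have e3 := LinearMap.finrank_range_add_finrank_ker Z
    have e4 : Module.finrank F (LinearMap.range Z) ≤ Module.finrank F U₁ :=
      Submodule.finrank_mono (by rintro _ ⟨u, rfl⟩; exact (hZ u).1)
    have e5 := Submodule.finrank_le (LinearMap.ker G ⊔ LinearMap.ker Z)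
    have e6 : Module.finrank F (LinearMap.range G) = Module.finrank F U₁ := rfl
    rw [← hX₀] at e1
    omega
  have horth : ∀ x ∈ LinearMap.ker G, ∀ y ∈ U₁, h.fU x y = 0 := by
    rintro x hx _ ⟨v, rfl⟩
    rw [← hadj, LinearMap.mem_ker.1 hx, map_zero, LinearMap.zero_apply]
  have horthU : ∀ y, (∀ x ∈ U₁, h.fU y x = 0) → y ∈ U₁ → y = 0 := fun y hy hyU => h.fnd.1 y fun z => by
    obtain ⟨k, hk, x, hx, rfl⟩ := Submodule.mem_sup.1 (show z ∈ LinearMap.ker G ⊔ U₁ by
      rw [hC.compl.sup_eq_top]; exact Submodule.mem_top)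
    rw [map_add, hy x hx, h.fSym, horth k hk y hyU, add_zero]
  have hkerP : ∀ u, u - P u ∈ LinearMap.ker G := fun u => LinearMap.mem_ker.2 (by
    rw [map_sub, hPdef, LinearMap.smul_apply, map_smul, hGG, smul_smul, hγγ, one_smul, sub_self])
  have hform : ∀ (s : F) x u, h.fU x (h.blk (qop + s • q) C u) =
      γ * (h.fU x (u - P u) + h.fU ((Z + s • P) x) ((Z + s • P) u)) := fun s x u => by
    rw [blk_apply, h.pol_c]
    simp only [map_add, map_smul, LinearMap.add_apply, LinearMap.smul_apply, smul_eq_mul, b11, b12, b21, b22]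
    have e1 : h.fU x (Z u) = h.fU (P x) (Z u) := by rw [hPadj, hP1 _ (hZ u).1]
    have e2 : h.fU u (Z x) = h.fU (P u) (Z x) := by rw [hPadj, hP1 _ (hZ x).1]
    have e3 : h.fU x (G u) = γ * h.fU (P x) (P u) := by
      rw [hPadj, hP1 _ (hPmem u), hPdef, LinearMap.smul_apply, map_smul, smul_eq_mul, ← mul_assoc, hγγ, one_mul]
    simp only [e1, e2, e3, h.fSym (Z u) (Z x), h.fSym (Z x) (P u)]
    ring
  -- the other lines give a scalar block
  obtain ⟨x₀, hx₀, hx₀0⟩ : ∃ x ∈ X₀, x ≠ 0 := Submodule.exists_mem_ne_zero_of_ne_bot fun e => by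
    rw [e, finrank_bot] at hk; omega
  have hscal : ∀ s : F, (∀ x ∈ U₁, Z x + s • x = 0 → x = 0) → ∀ u, h.blk (qop + s • q) C u = γ • u := by
    intro s hT
    set b := qop + s • q with hbdef
    set T : Module.End F U := Z + s • P
    have hTm : ∀ x, T x ∈ U₁ := fun x => U₁.add_mem (hZ x).1 (U₁.smul_mem _ (hPmem x))
    have hT1 : ∀ x ∈ U₁, T x = Z x + s • x := fun x hx => by
      show Z x + s • P x = _
      rw [hP1 x hx]
    set T₁ : Module.End F U₁ := T.restrict (fun x _ => hTm x)
    have hsurj : ∀ y ∈ U₁, ∃ x ∈ U₁, T x = y := fun y hy => by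
      obtain ⟨x, hx⟩ := LinearMap.injective_iff_surjective.1 ((injective_iff_map_eq_zero T₁).2 fun x hx =>
        Subtype.ext (hT x x.2 (by rw [← hT1 x x.2]; exact congrArg Subtype.val hx))) ⟨y, hy⟩
      exact ⟨x, x.2, congrArg Subtype.val hx⟩
    have hinj : ∀ u, h.blk b C u = 0 → u = 0 := fun u hu => by
      have e0 : ∀ x, h.fU x (u - P u) + h.fU (T x) (T u) = 0 := fun x => by
        have := hform s x u
        rw [← hbdef, hu, map_zero] at this
        exact (mul_eq_zero.1 this.symm).resolve_left hγ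
      have hTu : T u = 0 := horthU _ (fun y hy => by
        obtain ⟨x, hx, rfl⟩ := hsurj y hy
        have e := e0 x
        rw [h.fSym x, horth _ (hkerP u) x hx, zero_add] at e
        rw [h.fSym]; exact e) (hTm u)
      have hu' : u - P u = 0 := h.fnd.2 _ fun x => by
        have := e0 x
        rwa [hTu, map_zero, add_zero] at this
      have hu1 : u ∈ U₁ := by rw [sub_eq_zero.1 hu']; exact hPmem u
      exact hT u hu1 (by rw [← hT1 u hu1, hTu])
    have hb0 : b ≠ 0 := fun e => by
      have := congrArg (h.gW q) e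
      simp [hbdef, hqo, h.g_self] at this
    have hGx : h.blk b C x₀ = γ • x₀ := h.ext_f fun x => by
      rw [hbdef, hform]
      simp [hPdef, LinearMap.mem_ker.1 hx₀.1, LinearMap.mem_ker.1 hx₀.2]
    by_cases hns : ∃ t : F, h.blk b C = t • 1
    · obtain ⟨t, ht⟩ := hns
      rw [ht, LinearMap.smul_apply, Module.End.one_apply] at hGx
      intro u
      rw [ht, LinearMap.smul_apply, Module.End.one_apply, smul_left_injective F hx₀0 hGx]
    exfalso
    push Not at hns
    have hker' : LinearMap.ker (h.blk b C) = ⊥ := LinearMap.ker_eq_bot'.2 hinj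
    have hgood : h.Good M b C := ⟨hb0, hC.sq, hC.skew, hC.inM, hC.rank, by
        rw [hker', LinearMap.range_eq_top.2 (LinearMap.injective_iff_surjective.1 (LinearMap.ker_eq_bot.1 hker'))]
        exact isCompl_bot_top,
      fun u hu => by rw [hinj u hu]; simp, fun e' => hns 0 (by rw [e', zero_smul])⟩
    obtain ⟨-, ⟨-, hsq⟩ | ⟨hne, -⟩⟩ := hgood.config hG h2 h3 hno hns
    · have := hsq x₀
      rw [hGx, map_smul, hGx, smul_smul, hγγ, one_smul] at this
      have e : (2 : F) • x₀ = 0 := by linear_combination (norm := module) this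
      exact hx₀0 ((smul_eq_zero.1 e).resolve_left h2)
    · exact hne hker'
  -- the second map kills the kernel
  have hZ0 : LinearMap.ker G ≤ LinearMap.ker Z := by
    obtain ⟨s, hs⟩ : ∃ s : F, ∀ x ∈ U₁, Z x + s • x = 0 → x = 0 := by
      by_contra hcon
      push Not at hcon
      obtain ⟨e, he, hZe, he0⟩ := hcon 0
      obtain ⟨e', he', hZe', he'0⟩ := hcon 1
      obtain ⟨e'', he'', hZe'', he''0⟩ := hcon (-1)
      rw [zero_smul, add_zero] at hZe
      rw [one_smul] at hZe'
      rw [neg_one_smul] at hZe''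
      set L := (LinearMap.toSpanSingleton F U e).coprod (LinearMap.toSpanSingleton F U e')
      have hLinj : Function.Injective L := (injective_iff_map_eq_zero _).2 fun x hx => by
        simp [L] at hx
        have e1 := congrArg Z hx
        rw [map_add, map_smul, map_smul, hZe, smul_zero, zero_add, map_zero, eq_neg_of_add_eq_zero_left hZe'] at e1
        have hx2 : x.2 = 0 := by simpa [he'0] using e1
        rw [hx2, zero_smul, add_zero, smul_eq_zero] at hx
        exact Prod.ext (hx.resolve_right he0) hx2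
      have hLr : LinearMap.range L = U₁ := by
        refine Submodule.eq_of_le_of_finrank_le ?_ ?_
        · rintro _ ⟨x, rfl⟩
          simp [L]
          exact U₁.add_mem (U₁.smul_mem _ he) (U₁.smul_mem _ he')
        · rw [LinearMap.finrank_range_of_inj hLinj]; simpa using hr
      obtain ⟨⟨i, j⟩, hij⟩ : e'' ∈ LinearMap.range L := by rw [hLr]; exact he''
      simp [L] at hij
      rw [← hij, map_add, map_smul, map_smul, hZe, smul_zero, zero_add, eq_neg_of_add_eq_zero_left hZe'] at hZe''
      have e1 : i • e + (2 : F) • (j • e') = 0 := by linear_combination (norm := module) -hZe''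
      have e2 : ((i, 2 * j) : F × F) = 0 := hLinj (by simp [L, mul_smul, e1])
      simp [Prod.ext_iff, h2] at e2
      exact he''0 (by rw [← hij, e2.1, e2.2]; simp)
    intro x hx
    refine LinearMap.mem_ker.2 (horthU _ (fun y hy => ?_) (hZ x).1)
    have hPx : P x = 0 := by simp [hPdef, LinearMap.mem_ker.1 hx]
    obtain ⟨u, hu, rfl⟩ : ∃ u ∈ U₁, Z u + s • u = y := by
      let T₁ : Module.End F U₁ := (Z + s • 1 : Module.End F U).restrict
        (fun x hx => U₁.add_mem (hZ x).1 (U₁.smul_mem s hx))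
      obtain ⟨u, hu⟩ := LinearMap.injective_iff_surjective.1 ((injective_iff_map_eq_zero T₁).2 fun x hx =>
        Subtype.ext (hs x x.2 (congrArg Subtype.val hx))) ⟨y, hy⟩
      exact ⟨u, u.2, congrArg Subtype.val hu⟩
    have e := hform s x u
    rw [hscal s hs, map_smul, smul_eq_mul, show (Z + s • P) x = Z x by
        show Z x + s • P x = _; rw [hPx, smul_zero, add_zero],
      show (Z + s • P) u = Z u + s • u by show Z u + s • P u = _; rw [hP1 u hu],
      hP1 u hu, sub_self, map_zero, zero_add, horth x hx u hu, mul_zero] at e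
    exact (mul_eq_zero.1 e.symm).resolve_left hγ
  have hk' : Module.finrank F U ≤ Module.finrank F X₀ + Module.finrank F U₁ := by
    rw [show X₀ = LinearMap.ker G from inf_eq_left.2 hZ0, ← LinearMap.finrank_range_add_finrank_ker G]
    exact le_of_eq (Nat.add_comm _ _)
  obtain ⟨a₁, ha₁, ha₁'⟩ : ∃ a ∈ X₀, h.fU a a ≠ 0 := by
    by_contra hcon
    push Not at hcon
    have hX : ∀ x ∈ X₀, ∀ y ∈ X₀, h.fU x y = 0 := fun x hx y hy => by
      have := hcon _ (X₀.add_mem hx hy)
      simp only [map_add, LinearMap.add_apply, hcon x hx, hcon y hy, h.fSym y x, zero_add, add_zero] at this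
      exact (mul_eq_zero.1 (show (2 : F) * h.fU x y = 0 by linear_combination this)).resolve_left h2
    have hle : X₀ ⊔ U₁ ≤ h.fU.orthogonal X₀ := sup_le (fun y hy => BilinForm.mem_orthogonal_iff.2 fun x hx => hX x hx y hy)
      (fun y hy => BilinForm.mem_orthogonal_iff.2 fun x hx => horth x hx.1 y hy)
    have e1 := Submodule.finrank_mono hle
    have e2 := Submodule.finrank_sup_add_finrank_inf_eq X₀ U₁
    rw [show X₀ ⊓ U₁ = ⊥ from disjoint_iff.1 (hC.compl.disjoint.mono_left inf_le_left), finrank_bot] at e2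
    have e3 := BilinForm.finrank_orthogonal h.fnd X₀
    have e4 := Submodule.finrank_le X₀
    omega
  have fsplit : ∀ x ∈ LinearMap.ker G, ∀ y ∈ U₁, h.fU (x + y) (x + y) = h.fU x x + h.fU y y := fun x hx y hy => by
    simp [horth x hx y hy, h.fSym y x]
  by_cases heig : ∃ e ∈ U₁, e ≠ 0 ∧ ∃ t : F, Z e = t • e
  · obtain ⟨e, he, he0, t, het⟩ := heig
    obtain ⟨a₀, ha₀, ha₀0, hval, haa⟩ : ∃ a₀ ∈ X₀, a₀ ≠ 0 ∧ h.fU e e * h.fU a₀ a₀ = 0 ∧
        h.fU a₀ a₀ + h.fU e e ≠ 0 := by
      by_cases hee : h.fU e e = 0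
      · exact ⟨a₁, ha₁, fun e' => ha₁' (by rw [e']; simp), by rw [hee, zero_mul], by rw [hee, add_zero]; exact ha₁'⟩
      · obtain ⟨a, ha, ha0, haiso⟩ := exists_iso_sub (h := h) h2 hc1 X₀ (by omega)
        exact ⟨a, ha, ha0, by rw [haiso, mul_zero], by rw [haiso, zero_add]; exact hee⟩
    set a := a₀ + e
    have hGa : G a = γ • e := by rw [map_add, LinearMap.mem_ker.1 ha₀.1, zero_add, hU1 e he]
    have hZa : Z a = t • e := by rw [map_add, LinearMap.mem_ker.1 ha₀.2, zero_add, het]
    have hPa : a - P a = a₀ := by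
      rw [hPdef, LinearMap.smul_apply, hGa, smul_smul, hγγ, one_smul]; exact add_sub_cancel_right _ _
    have hae : h.fU a e = h.fU e e := by
      rw [map_add, LinearMap.add_apply, horth a₀ ha₀.1 e he, zero_add]
    have haa₀ : h.fU a a₀ = h.fU a₀ a₀ := by
      rw [map_add, LinearMap.add_apply, h.fSym e a₀, horth a₀ ha₀.1 e he, add_zero]
    obtain ⟨C', w, hw, hC', hne', -, hnil⟩ := hCc.reflect hG h2 h3 hno hqo hone (a := a)
      (by rw [fsplit a₀ ha₀.1 e he]; exact haa) (fun σ τ hστ => by
        have e1 := congrArg (h.c q) hστ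
        rw [map_add, map_smul, map_smul, hCq, hZa, show h.c q (C (h.tp a q)) = G a from rfl, hGa, map_zero,
          smul_smul, smul_smul, smul_smul, ← add_smul, smul_eq_zero] at e1
        have hσ : σ = -(τ * t) := by
          have e2 : γ * (σ + τ * t) = 0 := by linear_combination e1.resolve_right he0
          linear_combination (mul_eq_zero.1 e2).resolve_left hγ
        have e3 : C (h.tp a q) = C (h.tp e q) := by
          rw [show h.tp a q = h.tp a₀ q + h.tp e q by simp [a], map_add, hC.kill a₀ ha₀.1, zero_add]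
        rw [e3, (hZ a).2, hPa, hZa, map_smul h.tp t, LinearMap.smul_apply, map_smul, hσ] at hστ
        have e4 : (τ * γ) • h.tp a₀ q = 0 := by linear_combination (norm := module) -hστ
        have hτ : τ = 0 := (mul_eq_zero.1 ((smul_eq_zero.1 e4).resolve_right
          (h.tp_ne_zero ha₀0 hC.q_ne))).resolve_right hγ
        exact ⟨by rw [hσ, hτ]; simp, hτ⟩)
      (by
        rw [b11, hGa, map_smul, hae, smul_eq_mul, b22, hPa, haa₀, hZa, map_smul, map_smul, LinearMap.smul_apply,
          smul_eq_mul, smul_eq_mul]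
        by_cases hee : h.fU e e = 0
        · refine Or.inr (mul_ne_zero hγ ?_)
          rw [hee, add_zero] at haa
          rw [hee, mul_zero, mul_zero, add_zero]; exact haa
        · exact Or.inl (mul_ne_zero hγ hee))
    refine hC'.nil_false hG h2 h3 hno hw hne' (hnil ?_)
    rw [b11, b12, b22, hGa, hPa, hZa, haa₀]
    simp only [map_smul, LinearMap.smul_apply, hae, smul_eq_mul]
    linear_combination γ * γ * hval
  · push Not at heig
    obtain ⟨v, hv, hv0⟩ := Submodule.exists_mem_ne_zero_of_ne_bot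
      (fun e => hC.ne (LinearMap.range_eq_bot.1 e) : U₁ ≠ ⊥)
    set L := (LinearMap.toSpanSingleton F U v).coprod (LinearMap.toSpanSingleton F U (Z v)) with hL
    have hLinj : Function.Injective L := (injective_iff_map_eq_zero _).2 fun x hx => by
      simp [hL] at hx
      by_cases h2x : x.2 = 0
      · rw [h2x, zero_smul, add_zero, smul_eq_zero] at hx
        exact Prod.ext (hx.resolve_right hv0) h2x
      · refine absurd ?_ (heig v hv hv0 (-(x.1 / x.2)))
        refine smul_right_injective U h2x ?_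
        simp only
        rw [smul_smul, mul_neg, mul_div_cancel₀ _ h2x]
        linear_combination (norm := module) hx
    have hLr : LinearMap.range L = U₁ := by
      refine Submodule.eq_of_le_of_finrank_le ?_ ?_
      · rintro _ ⟨x, rfl⟩
        simp [hL]
        exact U₁.add_mem (U₁.smul_mem _ hv) (U₁.smul_mem _ (hZ v).1)
      · rw [LinearMap.finrank_range_of_inj hLinj]; simpa using hr
    obtain ⟨⟨α, β⟩, hab⟩ : Z (Z v) ∈ LinearMap.range L := by rw [hLr]; exact (hZ _).1
    simp [hL] at hab
    set s : F := -(β / 2) with hs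
    have hs2 : β + 2 * s = 0 := by rw [hs]; field_simp; ring
    set T : Module.End F U := Z + s • P with hT
    have hTm : ∀ x, T x ∈ U₁ := fun x => U₁.add_mem (hZ x).1 (U₁.smul_mem _ (hPmem x))
    have hT1 : ∀ x ∈ U₁, T x = Z x + s • x := fun x hx => by
      show Z x + s • P x = _
      rw [hP1 x hx]
    have hTT : ∀ x ∈ U₁, T (T x) = (α + s * s) • x := by
      have hv' : T (T v) = (α + s * s) • v := by
        rw [hT1 _ (hTm v), hT1 v hv, map_add, map_smul, ← hab]
        linear_combination (norm := module) hs2 • Z v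
      intro x hx
      rw [← hLr] at hx
      obtain ⟨⟨i, j⟩, rfl⟩ := hx
      simp only [hL, LinearMap.coprod_apply, LinearMap.toSpanSingleton_apply, map_add, map_smul, hv', smul_add]
      rw [show T (T (Z v)) = (α + s * s) • Z v by
        have e := congrArg Z hv'
        rw [map_smul] at e
        rw [← e, hT1 _ (hZ v).1, hT1 _ (U₁.add_mem (hZ _).1 (U₁.smul_mem s (hZ v).1)), hT1 v hv, hT1 _
          (U₁.add_mem (hZ v).1 (U₁.smul_mem s hv))]
        simp only [map_add, map_smul]]
      module
    have hTv : ∀ t : F, T v ≠ t • v := fun t e => heig v hv hv0 (t - s) (by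
      rw [hT1 v hv] at e; linear_combination (norm := module) e)
    by_cases hκ0 : α + s * s = 0
    · refine heig (T v) (hTm v) (fun e => hTv 0 (by rw [e, zero_smul])) (-s) ?_
      have e := hTT v hv
      rw [hκ0, zero_smul, hT1 _ (hTm v)] at e
      linear_combination (norm := module) e
    rcases mul_self_eq_one_iff.1 (hc1 _ hκ0) with hκ | hκ
    · refine heig (T v + v) (U₁.add_mem (hTm v) hv) (fun e => hTv (-1) (by
        rw [neg_one_smul]; exact eq_neg_of_add_eq_zero_left e)) (1 - s) ?_
      have e : T (T v + v) = T v + v := by rw [map_add, hTT v hv, hκ, one_smul, add_comm]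
      rw [hT1 _ (U₁.add_mem (hTm v) hv)] at e
      linear_combination (norm := module) e
    simp only [hκ, neg_one_smul] at hTT
    obtain ⟨e, he, hee⟩ : ∃ e ∈ U₁, h.fU e e ≠ 0 := by
      by_contra hcon
      push Not at hcon
      refine hv0 (h.fnd.2 v fun x => ?_)
      obtain ⟨k, hk, y, hy, rfl⟩ := Submodule.mem_sup.1 (show x ∈ LinearMap.ker G ⊔ U₁ by
        rw [hC.compl.sup_eq_top]; exact Submodule.mem_top)
      have := hcon _ (U₁.add_mem hy hv)
      simp only [map_add, LinearMap.add_apply, hcon y hy, hcon v hv, h.fSym v y, zero_add, add_zero] at this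
      rw [map_add, LinearMap.add_apply, horth k hk v hv, zero_add]
      exact (mul_eq_zero.1 (show (2 : F) * h.fU y v = 0 by linear_combination this)).resolve_left h2
    have hTinj : ∀ x ∈ U₁, Z x + s • x = 0 → x = 0 := fun x hx hx0 => by
      have := hTT x hx
      rw [hT1 x hx, hx0, map_zero] at this
      exact neg_eq_zero.1 this.symm
    have e2 : h.fU e (h.blk (qop + s • q) C e) = -(γ * h.fU e e) := by
      rw [hform s, ← hT, hP1 e he, sub_self, map_zero, zero_add, ← mul_neg,
        show h.fU (T e) (T e) = h.fU e (T (T e)) by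
          rw [hT1 _ (hTm e), hT1 e he]
          simp only [map_add, map_smul, LinearMap.add_apply, LinearMap.smul_apply, smul_eq_mul,
            hZsym e he _ (U₁.add_mem (hZ e).1 (U₁.smul_mem s he)), hZsym e he _ (hZ e).1, hZsym e he e he],
        hTT e he, map_neg]
    rw [hscal s hTinj, map_smul, smul_eq_mul] at e2
    exact mul_ne_zero (mul_ne_zero h2 hγ) hee (by linear_combination e2)

omit hqo hone in
/-- A block of small rank is impossible. -/
theorem Conj.low_rank (hC : h.Conj M C) (hone' : ∀ q v, q ≠ 0 → h.gW q v = 0 → v ∈ Submodule.span F {q})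
    (hm : 5 ≤ Module.finrank F U) {w : W} (hw : w ≠ 0) (hne : h.blk w C ≠ 0)
    (hr : Module.finrank F (LinearMap.range (h.blk w C)) ≤ 2) : False := by
  have hns : ∀ s : F, h.blk w C ≠ s • 1 := fun s hs => by
    rcases eq_or_ne s 0 with rfl | hs0
    · exact hne (by rw [hs, zero_smul])
    · rw [hs, LinearMap.range_eq_top.2 (fun u => ⟨s⁻¹ • u, by simp [smul_smul, hs0]⟩), finrank_top] at hr
      omega
  obtain ⟨C', hC', hgood, hns', hle⟩ := hC.exists_good hG h2 h3 hno hw hns
  have e1 := LinearMap.finrank_range_add_finrank_ker (h.blk w C)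
  have e2 := LinearMap.finrank_range_add_finrank_ker (h.blk w C')
  obtain ⟨w', hw'⟩ := h.exists_g_one hw
  obtain ⟨hc1, ⟨hker, -⟩ | ⟨hker, γ, hγ, hGG, hCV⟩⟩ := hgood.config hG h2 h3 hno hns'
  · rw [hker, finrank_bot] at hle; omega
  · exact hgood.two_B hG h2 h3 hno (qop := -w') (by rw [map_neg, h.g_swap, hw', neg_neg]) (fun v => hone' w v hw) hC'
      hc1 hker hγ hGG hCV (by omega) hm

/-- No non-scalar block if the second factor is a plane. -/
theorem Good.two_false (hC : h.Good M q C) (hCc : h.Conj M C)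
    (hone' : ∀ q v, q ≠ 0 → h.gW q v = 0 → v ∈ Submodule.span F {q}) (hm : 5 ≤ Module.finrank F U)
    (hns : ∀ s : F, h.blk q C ≠ s • 1) : False := by
  haveI : Nontrivial U := Module.nontrivial_of_finrank_pos (R := F) (by omega)
  have hq := hC.q_ne
  -- a plus or minus gives a block equal to one
  have key : ∀ ε : F, ε ≠ 0 → (∀ u, h.blk q C (h.blk q C u) = -u) → ε * ε = 1 →
      ∃ t : F, ∀ u, h.c qop (h.tp u q) + ε • h.c qop (C (h.tp u q)) = t • (ε • h.blk q C u) := by
    intro ε hε hsq hεε
    set D := ε • C with hD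
    have hDc : h.Conj M D := hCc.smul hε
    set C2 := h.conj2 q D with hC2
    have hC2c : h.Conj M C2 := hDc.conj2 hG hq
    have hD0 : ∀ T, D (D T) = 0 := fun T => LinearMap.congr_fun hDc.sq T
    have hC2e : ∀ T, C2 T = h.tp (h.c q (T - D T)) q + D (h.tp (h.c q (T - D T)) q) := fun T => by
      simp [hC2, TBil.conj2, Module.End.mul_apply, h.R_apply]
    have hC20 : ∀ T, h.c q (C2 T) = 0 → C2 T = 0 := fun T e => by
      rw [hC2e] at e ⊢
      set u := h.c q (T - D T)
      rw [map_add, h.c_tp, h.g_self, zero_smul, zero_add, hD, LinearMap.smul_apply, map_smul] at e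
      have e' : h.blk q C u = 0 := (smul_eq_zero.1 e).resolve_left hε
      have e2 := hsq u
      rw [e', map_zero] at e2
      rw [neg_eq_zero.1 e2.symm]
      simp
    have hblk : ∀ u, h.c q (C2 (h.tp u q)) = u := fun u => by
      have e := LinearMap.congr_fun (blk_conj2 (h := h) hDc.sq q) u
      rw [blk_apply, ← hC2] at e
      rw [e, LinearMap.neg_apply, Module.End.mul_apply, hD]
      simp [blk_apply, smul_smul, hεε]
      simp only [← blk_apply, hsq, neg_neg]
    set S : Module.End F U := h.c q ∘ₗ C2 ∘ₗ h.tp.flip qop with hS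
    obtain ⟨t, ht⟩ := eigen_scalar (h := h) h2 h3 S fun a ha => by
      by_contra hne
      push Not at hne
      obtain ⟨C', w, hw, hC', hne', hr, -⟩ := hC2c.reflect hG h2 h3 hno hqo hone ha (fun σ τ hστ => by
        have e := congrArg (h.c q) hστ
        rw [map_add, map_smul, map_smul, hblk, map_zero] at e
        have hτ : τ = 0 := by
          by_contra hτ
          refine hne (-(σ / τ)) (smul_right_injective U hτ ?_)
          show τ • h.c q (C2 (h.tp a qop)) = τ • ((-(σ / τ)) • a)
          rw [smul_smul, mul_neg, mul_div_cancel₀ _ hτ]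
          linear_combination (norm := module) e
        rw [hτ, zero_smul, add_zero, smul_eq_zero] at e
        exact ⟨e.resolve_right (fun e => ha (by rw [e]; simp)), hτ⟩)
        (Or.inl (by rw [← h.pol_c, hblk]; exact ha))
      exact hC'.low_rank hG h2 h3 hno hone' hm hw hne' hr
    have hx₀ : ∀ u, C2 (h.tp u (qop - t • q)) = 0 := fun u => hC20 _ (by
      have e := LinearMap.congr_fun ht u
      simp only [hS, LinearMap.comp_apply, LinearMap.flip_apply, LinearMap.smul_apply, Module.End.one_apply] at e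
      simp [e, hblk])
    have hr : ∀ T, h.c (qop - t • q) (C2 T) = 0 := fun T => h.ext_f fun u => by
      rw [h.pol_c, map_zero, eq_neg_of_add_eq_zero_right (hC2c.skew hG (h.tp u (qop - t • q)) T), hx₀]
      simp
    refine ⟨t, fun u => ?_⟩
    have e := hr (h.tp u qop + D (h.tp u qop))
    have eD : (h.tp u qop + D (h.tp u qop)) - D (h.tp u qop + D (h.tp u qop)) = h.tp u qop := by
      rw [map_add, hD0, add_zero, add_sub_cancel_right]
    rw [hC2e, eD, h.c_tp, hqo, one_smul, hD, LinearMap.smul_apply] at e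
    simp only [map_sub, map_smul, LinearMap.sub_apply, LinearMap.smul_apply, map_add, h.c_tp, h.g_self, zero_smul,
      zero_add] at e
    rw [blk_apply, h.c_tp]
    linear_combination (norm := module) e
  obtain ⟨hc1, ⟨hker, hsq⟩ | ⟨hker, γ, hγ, hGG, hCV⟩⟩ := hC.config hG h2 h3 hno hns
  · obtain ⟨tp, hp⟩ := key 1 one_ne_zero hsq (one_mul 1)
    obtain ⟨tm, hm'⟩ := key (-1) (neg_ne_zero.2 one_ne_zero) hsq (by ring)
    have hsum : ∀ u, (tp - tm) • h.blk q C u = -((2 : F) • u) := fun u => by
      have e1 := hp u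
      have e2 := hm' u
      rw [h.c_tp, h.g_swap, hqo] at e1 e2
      linear_combination (norm := module) -e1 - e2
    have hδ : tp - tm ≠ 0 := fun e0 => by
      obtain ⟨u, hu⟩ := exists_ne (0 : U)
      have := hsum u
      rw [e0, zero_smul, eq_comm, neg_eq_zero] at this
      exact hu ((smul_eq_zero.1 this).resolve_left h2)
    refine hns (-2 / (tp - tm)) (LinearMap.ext fun u => smul_right_injective U hδ ?_)
    simp only [LinearMap.smul_apply, Module.End.one_apply, smul_smul, mul_div_cancel₀ _ hδ, hsum, neg_smul]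
  · -- a reflection gives a block of small rank
    set G := h.blk q C with hGdef
    by_cases hr : Module.finrank F (LinearMap.range G) ≤ 2
    · exact hC.two_B hG h2 h3 hno hqo hone hCc hc1 hker hγ hGG hCV hr hm
    have horth : ∀ x ∈ LinearMap.ker G, ∀ y ∈ LinearMap.range G, h.fU x y = 0 := by
      rintro x hx _ ⟨v, rfl⟩
      rw [← hC.self_adj, LinearMap.mem_ker.1 hx, map_zero, LinearMap.zero_apply]
    have hsplit : ∀ z, ∃ x ∈ LinearMap.ker G, ∃ y ∈ LinearMap.range G, x + y = z := fun z => Submodule.mem_sup.1 (by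
      rw [hC.compl.sup_eq_top]; exact Submodule.mem_top)
    obtain ⟨a₁, ha₁, ha₁'⟩ : ∃ a ∈ LinearMap.ker G, h.fU a a ≠ 0 := by
      by_contra hcon
      push Not at hcon
      obtain ⟨x, hx, hx0⟩ := Submodule.exists_mem_ne_zero_of_ne_bot hker
      refine hx0 (h.fnd.1 x fun z => ?_)
      obtain ⟨x', hx', y, hy, rfl⟩ := hsplit z
      have := hcon _ (Submodule.add_mem _ hx hx')
      simp only [map_add, LinearMap.add_apply, hcon x hx, hcon x' hx', h.fSym x' x, zero_add, add_zero] at this
      rw [map_add, horth x hx y hy, add_zero]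
      exact (mul_eq_zero.1 (show (2 : F) * h.fU x x' = 0 by linear_combination this)).resolve_left h2
    obtain ⟨v, hv, hv0, hvv⟩ := exists_iso_sub (h := h) h2 hc1 (LinearMap.range G) (by omega)
    obtain ⟨y, hy, hvy⟩ : ∃ y ∈ LinearMap.range G, h.fU v y ≠ 0 := by
      by_contra hcon
      push Not at hcon
      refine hv0 (h.fnd.1 v fun z => ?_)
      obtain ⟨x', hx', y, hy, rfl⟩ := hsplit z
      rw [map_add, h.fSym v x', horth x' hx' v hv, hcon y hy, add_zero]
    obtain ⟨r, hr'⟩ : ∃ r : F, h.fU y y + 2 * r * h.fU v y = h.fU a₁ a₁ :=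
      ⟨(h.fU a₁ a₁ - h.fU y y) / (2 * h.fU v y), by field_simp; ring⟩
    obtain ⟨e, hedef⟩ : ∃ e, e = y + r • v := ⟨_, rfl⟩
    have he : e ∈ LinearMap.range G := hedef ▸ Submodule.add_mem _ hy (Submodule.smul_mem _ r hv)
    have hee : h.fU e e = h.fU a₁ a₁ := by
      simp only [hedef, map_add, map_smul, LinearMap.add_apply, LinearMap.smul_apply, smul_eq_mul, hvv, h.fSym y v]
      linear_combination hr'
    have hGe : G e = γ • e := by
      obtain ⟨e', he'⟩ := he
      rw [← he', hGG]
    set a := a₁ + e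
    have hGa : G a = γ • e := by rw [map_add, LinearMap.mem_ker.1 ha₁, zero_add, hGe]
    have hea : h.fU a e = h.fU e e := by rw [map_add, LinearMap.add_apply, horth a₁ ha₁ e he, zero_add]
    have haa : h.fU a a ≠ 0 := by
      have : h.fU a a = 2 * h.fU a₁ a₁ := by
        simp only [a, map_add, LinearMap.add_apply, h.fSym e a₁, horth a₁ ha₁ e he, hee]
        ring
      rw [this]; exact mul_ne_zero h2 ha₁'
    obtain ⟨C', w, hw, hC', hne', hr2, -⟩ := hCc.reflect hG h2 h3 hno hqo hone haa (fun σ τ hστ => by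
      obtain ⟨b, hb, b', hb', T₂, hT₂, eT⟩ := hC.decomp (h.tp a qop)
      have e1 := congrArg (h.c q) eT
      rw [h.c_tp, hqo, one_smul, map_add, h.c_Phi, ← hGdef] at e1
      rw [eT, show h.tp a q = h.tp a₁ q + h.tp e q by simp [a]] at hστ
      simp only [map_add, LinearMap.add_apply, h.C_Phi hC.sq, hCV _ hT₂, h.R_apply, hC.kill a₁ ha₁, zero_add,
        h.Phi_apply, map_zero, LinearMap.zero_apply, show ∀ T, C (C T) = 0 from fun T => LinearMap.congr_fun hC.sq T,
        add_zero] at hστ
      -- the part outside the image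
      have hT : h.c q T₂ - a₁ = 0 := by
        refine (Submodule.disjoint_def.1 hC.compl.disjoint) _ (Submodule.sub_mem _ hT₂.2 ha₁) ?_
        rw [show h.c q T₂ - a₁ = e - G b' by rw [show h.c q T₂ = a - G b' by rw [e1]; abel]; simp only [a]; abel]
        exact Submodule.sub_mem _ he (LinearMap.mem_range_self G b')
      rw [sub_eq_zero.1 hT] at hστ
      have e2 : h.Phi q C ((-(τ * γ)) • a₁, σ • e + τ • b) = 0 := by
        rw [Phi_apply]; simp only [map_add, map_smul, LinearMap.add_apply, LinearMap.smul_apply]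
        linear_combination (norm := module) hστ
      obtain ⟨e3, e4⟩ := hC.Phi_eq_zero (Submodule.add_mem _ (Submodule.smul_mem _ σ he) (Submodule.smul_mem _ τ hb)) e2
      have hτ : τ = 0 := (mul_eq_zero.1 (neg_eq_zero.1 ((smul_eq_zero.1 e3).resolve_right
        fun e => ha₁' (by rw [e]; simp)))).resolve_right hγ
      rw [hτ, zero_smul, add_zero, smul_eq_zero] at e4
      exact ⟨e4.resolve_right fun e0 => ha₁' (by rw [← hee, e0]; simp), hτ⟩)
      (Or.inl (by rw [← h.pol_c, show h.c q (C (h.tp a q)) = G a from rfl, hGa, map_smul, hea, hee, smul_eq_mul]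
                  exact mul_ne_zero hγ ha₁'))
    exact hC'.low_rank hG h2 h3 hno hone' hm hw hne' hr2

end TBil

end CfsgLib.TensorMax.Pair
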